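import Groth.Prelude.Def_Magnet3
import Mathlib.CategoryTheory.Limits.Types.Pullbacks
import Mathlib.CategoryTheory.Monoidal.Cartesian.Grp

/-!
# Formal properties of equivariant maps
-/

set_option autoImplicit false

universe v u

open CategoryTheory CategoryTheory.Limits MonoidalCategory CartesianMonoidalCategory Opposite
open scoped MonObj

namespace Groth.Agent.Magnet

open _root_.Magnet.MonAct

variable {C : Type u} [Category.{v} C] [CartesianMonoidalCategory C] {A B X : C} [MonObj A]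

theorem ofPoint_comp_evalAt (a : _root_.Magnet.MonAct A X) :
    eqvHom.ofPoint a ≫ eqvHom.evalAt (regular A) a η[A] = 𝟙 _ := by
  ext T x
  change lift (toUnit (unop T) ≫ η[A]) (𝟙 (unop T)) ≫ (A ◁ x) ≫ a.act = x
  rw [lift_whiskerLeft_assoc, Category.id_comp, ← Hom.one_def, lift_one_act]

theorem evalAt_comp_ofPoint (a : _root_.Magnet.MonAct A X) :
    eqvHom.evalAt (regular A) a η[A] ≫ eqvHom.ofPoint a = 𝟙 _ := by
  ext T φ
  refine Subtype.ext ?_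
  change (A ◁ (lift (toUnit (unop T) ≫ η[A]) (𝟙 (unop T)) ≫ φ.1)) ≫ a.act = φ.1
  apply _root_.Magnet.hom_ext_lift₂
  intro T' g t
  have h := (mem_eqvHom_iff φ.1).1 φ.2 T' g 1 t
  rw [lift_regular_act, mul_one] at h
  rw [lift_whiskerLeft_assoc, h, comp_lift_assoc, ← Hom.one_def, MonObj.comp_one, Category.comp_id]

theorem isPullback_postcomp {X₁ X₂ X₃ P : C} (ρ : _root_.Magnet.MonAct A B)
    (a₁ : _root_.Magnet.MonAct A X₁) (a₂ : _root_.Magnet.MonAct A X₂) (a₃ : _root_.Magnet.MonAct A X₃)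
    (aP : _root_.Magnet.MonAct A P) (f₁ : X₁ ⟶ X₂) (f₃ : X₃ ⟶ X₂) (p₁ : P ⟶ X₁) (p₃ : P ⟶ X₃)
    (hsq : IsPullback p₁ p₃ f₁ f₃) (hf₁ : IsEquivariant a₁ a₂ f₁) (hf₃ : IsEquivariant a₃ a₂ f₃)
    (hp₁ : IsEquivariant aP a₁ p₁) (hp₃ : IsEquivariant aP a₃ p₃) :
    IsPullback (eqvHom.postcomp ρ p₁ hp₁) (eqvHom.postcomp ρ p₃ hp₃)
      (eqvHom.postcomp ρ f₁ hf₁) (eqvHom.postcomp ρ f₃ hf₃) := by
  refine IsPullback.of_forall_isPullback_app fun T => (Types.isPullback_iff _ _ _ _).2 ⟨?_, ?_, ?_⟩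
  · ext φ
    refine Subtype.ext ?_
    change (φ.1 ≫ p₁) ≫ f₁ = (φ.1 ≫ p₃) ≫ f₃
    rw [Category.assoc, hsq.w, Category.assoc]
  · rintro φ ψ ⟨h₁, h₃⟩
    exact Subtype.ext (hsq.hom_ext (congrArg Subtype.val h₁) (congrArg Subtype.val h₃))
  · intro φ₁ φ₃ h
    have hw : φ₁.1 ≫ f₁ = φ₃.1 ≫ f₃ := congrArg Subtype.val h
    refine ⟨⟨hsq.lift φ₁.1 φ₃.1 hw, ?_⟩, Subtype.ext (hsq.lift_fst _ _ _),
      Subtype.ext (hsq.lift_snd _ _ _)⟩
    have e₁ := φ₁.2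
    have e₃ := φ₃.2
    unfold IsEquivariant at e₁ e₃ hp₁ hp₃ ⊢
    apply hsq.hom_ext
    · rw [Category.assoc, hsq.lift_fst, e₁, Category.assoc, hp₁, whiskerLeft_comp_assoc_aux,
        hsq.lift_fst]
    · rw [Category.assoc, hsq.lift_snd, e₃, Category.assoc, hp₃, whiskerLeft_comp_assoc_aux,
        hsq.lift_snd]
where
  whiskerLeft_comp_assoc_aux {P Q R W : C} {f : P ⟶ Q} {g : Q ⟶ R} {h : A ⊗ R ⟶ W} :
      (A ◁ f) ≫ (A ◁ g) ≫ h = (A ◁ (f ≫ g)) ≫ h := (MonoidalCategory.whiskerLeft_comp_assoc A f g h).symm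

theorem existsUnique_monAct {X₁ X₂ X₃ P : C} (a₁ : _root_.Magnet.MonAct A X₁)
    (a₂ : _root_.Magnet.MonAct A X₂) (a₃ : _root_.Magnet.MonAct A X₃) (f₁ : X₁ ⟶ X₂) (f₃ : X₃ ⟶ X₂)
    (p₁ : P ⟶ X₁) (p₃ : P ⟶ X₃) (hsq : IsPullback p₁ p₃ f₁ f₃)
    (hf₁ : IsEquivariant a₁ a₂ f₁) (hf₃ : IsEquivariant a₃ a₂ f₃) :
    ∃! aP : _root_.Magnet.MonAct A P, IsEquivariant aP a₁ p₁ ∧ IsEquivariant aP a₃ p₃ := by
  rw [isEquivariant_iff] at hf₁ hf₃
  have w : ((A ◁ p₁) ≫ a₁.act) ≫ f₁ = ((A ◁ p₃) ≫ a₃.act) ≫ f₃ := by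
    apply _root_.Magnet.hom_ext_lift₂
    intro T g x
    simp only [Category.assoc, lift_whiskerLeft_assoc]
    rw [hf₁, hf₃, Category.assoc, Category.assoc, hsq.w]
  let act := hsq.lift _ _ w
  have k₁ : ∀ (T : C) (g : T ⟶ A) (x : T ⟶ P), lift g x ≫ act ≫ p₁ = lift g (x ≫ p₁) ≫ a₁.act := by
    intro T g x
    rw [hsq.lift_fst, lift_whiskerLeft_assoc]
  have k₃ : ∀ (T : C) (g : T ⟶ A) (x : T ⟶ P), lift g x ≫ act ≫ p₃ = lift g (x ≫ p₃) ≫ a₃.act := by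
    intro T g x
    rw [hsq.lift_snd, lift_whiskerLeft_assoc]
  refine ⟨mk' act (fun T x => ?_) (fun T g h x => ?_), ⟨?_, ?_⟩, ?_⟩
  · apply hsq.hom_ext <;> simp only [Category.assoc, k₁, k₃, lift_one_act]
  · apply hsq.hom_ext <;> simp only [Category.assoc, k₁, k₃, lift_mul_act]
  · rw [isEquivariant_iff]; exact k₁
  · rw [isEquivariant_iff]; exact k₃
  · rintro b ⟨hb₁, hb₃⟩
    refine ext' (hsq.hom_ext ?_ ?_)
    · exact hb₁.trans (hsq.lift_fst _ _ _).symm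
    · exact hb₃.trans (hsq.lift_snd _ _ _).symm

theorem postcomp_fst_snd_bijective {Y Z : C} (ρ : _root_.Magnet.MonAct A B)
    (a : _root_.Magnet.MonAct A Y) (b : _root_.Magnet.MonAct A Z) (T : Cᵒᵖ) :
    Function.Bijective (fun φ : (eqvHom ρ (a.prod b)).obj T =>
      ((eqvHom.postcomp ρ (fst Y Z) (isEquivariant_prod_fst a b)).app T φ,
        (eqvHom.postcomp ρ (snd Y Z) (isEquivariant_prod_snd a b)).app T φ)) := by
  refine ⟨fun φ ψ h => Subtype.ext (CartesianMonoidalCategory.hom_ext _ _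
    (congrArg Subtype.val (congrArg Prod.fst h)) (congrArg Subtype.val (congrArg Prod.snd h))), ?_⟩
  rintro ⟨φ, ψ⟩
  refine ⟨⟨lift φ.1 ψ.1, ?_⟩, Prod.ext (Subtype.ext (lift_fst _ _)) (Subtype.ext (lift_snd _ _))⟩
  rw [mem_eqvHom_iff]
  intro T' g c t
  rw [comp_lift, comp_lift, lift_prod_act, (mem_eqvHom_iff φ.1).1 φ.2 T' g c t,
    (mem_eqvHom_iff ψ.1).1 ψ.2 T' g c t]

section Endo

variable [MonObj X] (a : _root_.Magnet.MonAct A X)
  (hμ : IsEquivariant (a.prod a) a μ[X])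

include hμ in
theorem lift_mul {T : C} (g : T ⟶ A) (x y : T ⟶ X) :
    lift g (x * y) ≫ a.act = (lift g x ≫ a.act) * (lift g y ≫ a.act) := by
  rw [isEquivariant_iff] at hμ
  have := hμ T g (lift x y)
  rw [lift_prod_act_assoc, ← Hom.mul_def, ← Hom.mul_def] at this
  exact this.symm

theorem lift_one (hη : IsEquivariant (trivial A (𝟙_ C)) a η[X]) {T : C} (g : T ⟶ A) :
    lift g (1 : T ⟶ X) ≫ a.act = 1 := by
  rw [isEquivariant_iff] at hη
  have := hη T g (toUnit T)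
  rw [lift_trivial_act_assoc, ← Hom.one_def] at this
  exact this.symm

end Endo

theorem mem_eqvHom_mul_one [MonObj X] (ρ : _root_.Magnet.MonAct A B) (a : _root_.Magnet.MonAct A X)
    (hμ : IsEquivariant (a.prod a) a μ[X]) (hη : IsEquivariant (trivial A (𝟙_ C)) a η[X]) (T : C)
    (φ ψ : B ⊗ T ⟶ X) (hφ : IsEquivariant (ρ.prod (trivial A T)) a φ)
    (hψ : IsEquivariant (ρ.prod (trivial A T)) a ψ) :
    IsEquivariant (ρ.prod (trivial A T)) a (φ * ψ) ∧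
      IsEquivariant (ρ.prod (trivial A T)) a (1 : B ⊗ T ⟶ X) := by
  rw [mem_eqvHom_iff] at hφ hψ ⊢
  constructor
  · intro T' g b t
    rw [MonObj.comp_mul, MonObj.comp_mul, lift_mul a hμ, hφ, hψ]
  · rw [mem_eqvHom_iff]
    intro T' g b t
    rw [MonObj.comp_one, MonObj.comp_one, lift_one a hη]

theorem mem_eqvHom_inv [GrpObj X] (ρ : _root_.Magnet.MonAct A B) (a : _root_.Magnet.MonAct A X)
    (hμ : IsEquivariant (a.prod a) a μ[X]) (T : C) (φ : B ⊗ T ⟶ X)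
    (hφ : IsEquivariant (ρ.prod (trivial A T)) a φ) : IsEquivariant (ρ.prod (trivial A T)) a φ⁻¹ := by
  rw [mem_eqvHom_iff] at hφ ⊢
  intro T' g b t
  have h1 : lift g (1 : T' ⟶ X) ≫ a.act = 1 := by
    have := lift_mul a hμ g (1 : T' ⟶ X) 1
    rw [mul_one] at this
    exact left_eq_mul.1 this
  rw [GrpObj.comp_inv, GrpObj.comp_inv, hφ]
  refine inv_eq_of_mul_eq_one_right ?_
  rw [← lift_mul a hμ, mul_inv_cancel, h1]

end Groth.Agent.Magnet
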