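import Groth.Agent.Magnet.Points
import Groth.Agent.Magnet.MonActBasic
import Groth.Agent.NeronLib.SchDom
import Mathlib.Algebra.MonoidAlgebra.Lift

/-!
# Affine charts of diagonalizable monoid schemes and separatedness

Over an affine scheme `Spec B` the scheme `A(N)` is `Spec B[N]`; an injective map of monoids induces a
schematically dominant morphism, so morphisms to separated schemes are determined by restriction.
-/

set_option autoImplicit false
set_option backward.isDefEq.respectTransparency false
set_option backward.isDefEq.respectTransparency.types false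
set_option linter.style.haveILetI false

universe u

open CategoryTheory CategoryTheory.Limits MonoidalCategory CartesianMonoidalCategory AlgebraicGeometry Opposite
open scoped MonObj

attribute [-instance] Red.grpObj_bc AlgebraicGeometry.instGrpObjSpecAsOverSpec
  AlgebraicGeometry.instCommGrpObjSpecAsOverSpec

noncomputable section

namespace Groth.Agent.Magnet

variable {S : Scheme.{u}}

section Chart

variable {B : Type u} [CommRing B] (sB : Spec (CommRingCat.of B) ⟶ S)
  (N : Type) [AddCommMonoid N]

/-- The inclusion of scalars in a monoid algebra. -/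
def chartAlg (B : Type u) [CommRing B] (N : Type) [AddCommMonoid N] :
    CommRingCat.of B ⟶ CommRingCat.of (MonoidAlgebra B (Multiplicative N)) :=
  CommRingCat.ofHom (algebraMap B (MonoidAlgebra B (Multiplicative N)))

/-- `Spec B[N]` over the base. -/
def chartObj : Over S := Over.mk (Spec.map (chartAlg B N) ≫ sB)

/-- The structure map of the chart. -/
def chartPr : chartObj sB N ⟶ Over.mk sB := Over.homMk (Spec.map (chartAlg B N)) rfl

/-- The tautological character of the chart. -/
def chartChar : Multiplicative N →* Γ((chartObj sB N).left, ⊤) :=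
  (Scheme.ΓSpecIso (CommRingCat.of (MonoidAlgebra B (Multiplicative N)))).inv.hom.toMonoidHom.comp
    (MonoidAlgebra.of B (Multiplicative N))

instance isAffine_chartObj : IsAffine (chartObj sB N).left :=
  inferInstanceAs (IsAffine (Spec (CommRingCat.of (MonoidAlgebra B (Multiplicative N)))))

/-- The tautological point. -/
def chartPoint : chartObj sB N ⟶ _root_.Magnet.AMonS S N := points.symm (chartChar sB N)

/-- The chart `Spec B[N] ⟶ A(N)_S ×_S Spec B`. -/
def chartHom : chartObj sB N ⟶ _root_.Magnet.AMonS S N ⊗ Over.mk sB :=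
  lift (chartPoint sB N) (chartPr sB N)

theorem points_chartPoint : points (chartPoint sB N) = chartChar sB N :=
  points.apply_symm_apply _

theorem isIso_chartHom : IsIso (chartHom sB N) := by
  let W := _root_.Magnet.AMonS S N ⊗ Over.mk sB
  let p : W ⟶ _root_.Magnet.AMonS S N := fst _ _
  let s : W ⟶ Over.mk sB := snd _ _
  let ρ : CommRingCat.of B ⟶ Γ(W.left, ⊤) :=
    (Scheme.ΓSpecIso (CommRingCat.of B)).inv ≫ s.left.appTop
  have hcomm : ∀ x y, Commute (ρ.hom x) (points p y) := fun _ _ => Commute.all _ _
  let e : CommRingCat.of (MonoidAlgebra B (Multiplicative N)) ⟶ Γ(W.left, ⊤) :=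
    CommRingCat.ofHom (MonoidAlgebra.liftNCRingHom ρ.hom (points p) hcomm)
  have he : chartAlg B N ≫ e = ρ := by
    refine CommRingCat.hom_ext (RingHom.ext fun b => ?_)
    change MonoidAlgebra.liftNCRingHom ρ.hom (points p) hcomm (algebraMap B _ b) = ρ b
    rw [MonoidAlgebra.coe_algebraMap]
    simp [MonoidAlgebra.liftNCRingHom_single]
  have heX : ∀ n, e (MonoidAlgebra.of B (Multiplicative N) n) = points p n := by
    intro n
    change MonoidAlgebra.liftNCRingHom ρ.hom (points p) hcomm (MonoidAlgebra.single n 1) = _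
    simp [MonoidAlgebra.liftNCRingHom_single]
  let d : W ⟶ chartObj sB N := Over.homMk (W.left.toSpecΓ ≫ Spec.map e) (by
    change (W.left.toSpecΓ ≫ Spec.map e) ≫ Spec.map (chartAlg B N) ≫ sB = W.hom
    rw [Category.assoc, ← Spec.map_comp_assoc, he, ← Category.assoc, ← eq_toSpecΓ_comp]
    exact Over.w s)
  refine ⟨d, ?_, ?_⟩
  · apply Over.OverMorphism.ext
    refine ext_of_isAffine ?_
    let A := CommRingCat.of (MonoidAlgebra B (Multiplicative N))
    change ((chartHom sB N).left ≫ W.left.toSpecΓ ≫ Spec.map e).appTop = (Scheme.Hom.appTop (𝟙 (Spec A)))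
    rw [Scheme.Hom.comp_appTop, appTop_toSpecΓ_comp, Category.assoc]
    have hs : (chartHom sB N).left ≫ s.left = Spec.map (chartAlg B N) :=
      congrArg CommaMorphism.left (lift_snd (chartPoint sB N) (chartPr sB N))
    have hp : chartHom sB N ≫ p = chartPoint sB N := lift_fst _ _
    have hB : chartAlg B N ≫ e ≫ (chartHom sB N).left.appTop =
        chartAlg B N ≫ (Scheme.ΓSpecIso A).inv := by
      rw [reassoc_of% he, Category.assoc, ← Scheme.Hom.comp_appTop, hs]
      exact (Scheme.ΓSpecIso_inv_naturality (chartAlg B N)).symm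
    have hN : ∀ n, (chartHom sB N).left.appTop (e (MonoidAlgebra.of B _ n)) = chartChar sB N n := by
      intro n
      rw [heX, ← points_comp, hp, points_chartPoint]
    have halg : ∀ b : B, algebraMap B (MonoidAlgebra B (Multiplicative N)) b =
        MonoidAlgebra.single 1 b := fun b => by simp [MonoidAlgebra.coe_algebraMap]
    have h : e ≫ (chartHom sB N).left.appTop = (Scheme.ΓSpecIso A).inv := by
      refine CommRingCat.hom_ext (MonoidAlgebra.ringHom_ext (fun b => ?_) hN)
      rw [← halg]
      exact ConcreteCategory.congr_hom hB b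
    rw [h]
    exact (Iso.hom_inv_id _).trans (Scheme.Hom.id_app _).symm
  · apply CartesianMonoidalCategory.hom_ext
    · rw [Category.id_comp, Category.assoc, chartHom, lift_fst]
      refine points_ext fun n => ?_
      rw [points_comp, points_chartPoint,
        show d.left.appTop = (Scheme.ΓSpecIso _).hom ≫ e from appTop_toSpecΓ_comp e]
      exact (congrArg e (Iso.inv_hom_id_apply (C := CommRingCat) _ _)).trans (heX n)
    · rw [Category.id_comp, Category.assoc, chartHom, lift_snd]
      apply Over.OverMorphism.ext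
      change (W.left.toSpecΓ ≫ Spec.map e) ≫ Spec.map (chartAlg B N) = s.left
      rw [Category.assoc, ← Spec.map_comp, he]
      exact (eq_toSpecΓ_comp _).symm

variable {N} {M : Type} [AddCommMonoid M] (f : N →+ M)

/-- The ring map of monoid algebras. -/
def chartMapRing (B : Type u) [CommRing B] : CommRingCat.of (MonoidAlgebra B (Multiplicative N)) ⟶
    CommRingCat.of (MonoidAlgebra B (Multiplicative M)) :=
  CommRingCat.ofHom (MonoidAlgebra.mapDomainRingHom B (AddMonoidHom.toMultiplicative f))

theorem chartAlg_comp_chartMapRing : chartAlg B N ≫ chartMapRing f B = chartAlg B M := by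
  refine CommRingCat.hom_ext (RingHom.ext fun b => ?_)
  change MonoidAlgebra.mapDomainRingHom B _ (algebraMap B _ b) = algebraMap B _ b
  rw [MonoidAlgebra.coe_algebraMap, MonoidAlgebra.coe_algebraMap]
  simp

/-- The map of charts. -/
def chartMap : chartObj sB M ⟶ chartObj sB N :=
  Over.homMk (Spec.map (chartMapRing f B)) (by
    change Spec.map _ ≫ Spec.map _ ≫ sB = Spec.map _ ≫ sB
    rw [← Spec.map_comp_assoc, chartAlg_comp_chartMapRing])

theorem chartMap_comp_chartHom :
    chartMap sB f ≫ chartHom sB N =
      chartHom sB M ≫ (_root_.Magnet.AMonS.map S f ▷ Over.mk sB) := by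
  apply CartesianMonoidalCategory.hom_ext
  · rw [Category.assoc, Category.assoc, chartHom, chartHom, lift_fst, whiskerRight_fst, lift_fst_assoc]
    refine points_ext fun n => ?_
    rw [points_comp, points_chartPoint, points_map, points_chartPoint]
    change (Spec.map (chartMapRing f B)).appTop ((Scheme.ΓSpecIso _).inv (MonoidAlgebra.of B _ n)) =
      (Scheme.ΓSpecIso _).inv (MonoidAlgebra.of B _ (AddMonoidHom.toMultiplicative f n))
    refine ((ConcreteCategory.congr_hom (Scheme.ΓSpecIso_inv_naturality (chartMapRing f B)) _).symm.trans ?_)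
    rw [CommRingCat.comp_apply, show chartMapRing f B (MonoidAlgebra.of B (Multiplicative N) n) =
      MonoidAlgebra.of B _ (AddMonoidHom.toMultiplicative f n) from
        MonoidAlgebra.mapDomain_single (f := ⇑(AddMonoidHom.toMultiplicative f)) (a := n) (r := (1 : B))]
  · rw [Category.assoc, Category.assoc, chartHom, chartHom, lift_snd, whiskerRight_snd, lift_snd]
    apply Over.OverMorphism.ext
    change Spec.map _ ≫ Spec.map _ = Spec.map _
    rw [← Spec.map_comp, chartAlg_comp_chartMapRing]

theorem isSchemeTheoreticallyDominant_chartMap (hf : Function.Injective f) :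
    IsSchemeTheoreticallyDominant (chartMap sB f).left := by
  refine ⟨Scheme.IdealSheafData.ext_of_isAffine ?_⟩
  change (Spec.map (chartMapRing f B)).ker.ideal ⟨⊤, isAffineOpen_top _⟩ = _
  rw [Scheme.Hom.ker_apply]
  simp only [Scheme.IdealSheafData.ideal_bot, Pi.bot_apply]
  rw [← RingHom.injective_iff_ker_eq_bot]
  have h : (Spec.map (chartMapRing f B)).appTop =
      (Scheme.ΓSpecIso _).hom ≫ chartMapRing f B ≫ (Scheme.ΓSpecIso _).inv := by
    rw [← Scheme.ΓSpecIso_naturality_assoc, Iso.hom_inv_id, Category.comp_id]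
  change Function.Injective (Spec.map (chartMapRing f B)).appTop
  rw [h]
  exact ((ConcreteCategory.bijective_of_isIso (Scheme.ΓSpecIso _).inv).1.comp
    (MonoidAlgebra.mapDomain_injective (f := ⇑(AddMonoidHom.toMultiplicative f)) fun a b e => hf e)).comp
    (ConcreteCategory.bijective_of_isIso (Scheme.ΓSpecIso _).hom).1

end Chart

variable {N M : Type} [AddCommMonoid N] [AddCommMonoid M]

/-- Morphisms out of `A(N)_S ×_S T` into a separated scheme are determined by their restriction along an
injective map of monoids. -/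
theorem eq_of_map_whiskerRight_eq (f : N →+ M) (hf : Function.Injective f) {T X : Over S}
    [IsSeparated X.hom] (u v : _root_.Magnet.AMonS S N ⊗ T ⟶ X)
    (h : (_root_.Magnet.AMonS.map S f ▷ T) ≫ u = (_root_.Magnet.AMonS.map S f ▷ T) ≫ v) : u = v := by
  apply Over.OverMorphism.ext
  let A := _root_.Magnet.AMonS S N
  let O : T.left.affineOpens → (A ⊗ T).left.Opens := fun U => (snd A T).left ⁻¹ᵁ U.1
  have hO : iSup O = ⊤ := by
    refine top_le_iff.1 fun x _ => TopologicalSpace.Opens.mem_iSup.2 ?_
    obtain ⟨_, ⟨U, hU, rfl⟩, hxU, -⟩ := T.left.isBasis_affineOpens.exists_subset_of_mem_open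
      (Set.mem_univ ((snd A T).left x)) isOpen_univ
    exact ⟨⟨U, hU⟩, hxU⟩
  refine Scheme.Cover.hom_ext ((A ⊗ T).left.openCoverOfIsOpenCover O hO) _ _ fun U => ?_
  let sB := U.2.fromSpec ≫ T.hom
  let j : Over.mk sB ⟶ T := Over.homMk U.2.fromSpec rfl
  have := isIso_chartHom sB N
  have := isSchemeTheoreticallyDominant_chartMap sB f hf
  have hB : (A ◁ j) ≫ u = (A ◁ j) ≫ v := by
    rw [← cancel_epi (chartHom sB N)]
    apply Over.OverMorphism.ext
    refine Groth.Agent.NeronLib.ext_of_schemeTheoreticallyDominant X.hom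
      ((Over.w (chartHom sB N ≫ (A ◁ j) ≫ u)).trans (Over.w (chartHom sB N ≫ (A ◁ j) ≫ v)).symm)
      (chartMap sB f).left ?_
    rw [← Over.comp_left, ← Over.comp_left, reassoc_of% chartMap_comp_chartHom sB f,
      reassoc_of% chartMap_comp_chartHom sB f, ← whisker_exchange_assoc, ← whisker_exchange_assoc, h]
  let s : Over.mk ((O U).ι ≫ (A ⊗ T).hom) ⟶ A ⊗ T := Over.homMk (O U).ι rfl
  let l : Over.mk ((O U).ι ≫ (A ⊗ T).hom) ⟶ Over.mk sB :=
    Over.homMk (IsOpenImmersion.lift U.2.fromSpec ((O U).ι ≫ (snd A T).left) (by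
      erw [IsAffineOpen.range_fromSpec]
      rintro _ ⟨x, rfl⟩
      exact x.2)) (by
      change IsOpenImmersion.lift _ _ _ ≫ U.2.fromSpec ≫ T.hom = _
      rw [IsOpenImmersion.lift_fac_assoc, Category.assoc, Over.w (snd A T)]
      rfl)
  have hl : l ≫ j = s ≫ snd A T := Over.OverMorphism.ext (IsOpenImmersion.lift_fac _ _ _)
  have hs : s = lift (s ≫ fst A T) l ≫ (A ◁ j) := by
    rw [lift_whiskerLeft]
    apply CartesianMonoidalCategory.hom_ext <;> simp [hl]
  have e : s ≫ u = s ≫ v := by rw [hs, Category.assoc, Category.assoc, hB]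
  exact congrArg CommaMorphism.left e

/-- The map of attractors induced by an inclusion of magnets is injective for a separated scheme. -/
theorem attrMap_injective {X : Over S} [IsSeparated X.hom]
    (a : _root_.Magnet.MonAct (_root_.Magnet.AMonS S M) X) {L L' : AddSubmonoid M} (h : L ≤ L')
    (T : Over S) : Function.Injective (fun φ => (_root_.Magnet.attrMap a h).app (op T) φ) :=
  fun φ ψ e => Subtype.ext (eq_of_map_whiskerRight_eq (AddSubmonoid.inclusion h)
    (fun x y exy => Subtype.ext (congrArg (fun z : L' => (z : M)) exy)) φ.1 ψ.1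
    (congrArg Subtype.val e))

/-- An equivariant family is determined by the orbit of its value at the unit. -/
theorem map_subtype_whiskerRight_eq {X : Over S}
    (a : _root_.Magnet.MonAct (_root_.Magnet.AMonS S M) X) (L : AddSubmonoid M) {T : Over S}
    (φ : (_root_.Magnet.attr a L).obj (op T)) :
    (_root_.Magnet.AMonS.map S L.subtype ▷ T) ≫ φ.1 =
      (_root_.Magnet.AMonS S M ◁ (lift (toUnit T ≫ η[_root_.Magnet.AMonS S L]) (𝟙 T) ≫ φ.1)) ≫ a.act := by
  apply _root_.Magnet.hom_ext_lift₂
  intro T' g t
  rw [lift_whiskerRight_assoc, lift_whiskerLeft_assoc, comp_lift_assoc, ← Hom.one_def,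
    MonObj.comp_one, Category.comp_id]
  have h := (_root_.Magnet.MonAct.mem_eqvHom_iff φ.1).1 φ.2 T' g 1 t
  have h1 : lift g (1 : T' ⟶ _root_.Magnet.AMonS S L) ≫ (_root_.Magnet.subAct S M L).act =
      g ≫ _root_.Magnet.AMonS.map S L.subtype := by
    change lift g _ ≫ (_root_.Magnet.AMonS.map S L.subtype ▷ _) ≫ μ[_] = _
    rw [lift_whiskerRight_assoc, ← Hom.mul_def, mul_one]
  rw [h1] at h
  exact h

theorem attrToX_injective {X : Over S} [IsSeparated X.hom]
    (a : _root_.Magnet.MonAct (_root_.Magnet.AMonS S M) X) (L : AddSubmonoid M)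
    (T : Over S) : Function.Injective (fun φ => (_root_.Magnet.attrToX a L).app (op T) φ) := by
  intro φ ψ e
  refine Subtype.ext (eq_of_map_whiskerRight_eq L.subtype Subtype.val_injective φ.1 ψ.1 ?_)
  change lift (toUnit T ≫ η[_]) (𝟙 T) ≫ φ.1 = lift (toUnit T ≫ η[_]) (𝟙 T) ≫ ψ.1 at e
  rw [map_subtype_whiskerRight_eq, map_subtype_whiskerRight_eq, e]

end Groth.Agent.Magnet
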