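import Groth.Agent.Magnet.Chart
import Groth.Prelude.Def_Magnet4
import Mathlib.RingTheory.Spectrum.Prime.Basic
import Mathlib.RingTheory.Ideal.Over
import Mathlib.RingTheory.LocalRing.ResidueField.Ideal

/-!
# The origin of a diagonalizable monoid scheme

The face origin of `A(N)` lies in the closure of every orbit of `D(M)` over a field, so the only stable
open containing it is everything.
-/

set_option autoImplicit false
set_option backward.isDefEq.respectTransparency false
set_option backward.isDefEq.respectTransparency.types false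
set_option linter.style.haveILetI false

universe u

open CategoryTheory CategoryTheory.Limits MonoidalCategory CartesianMonoidalCategory AlgebraicGeometry Opposite
open scoped MonObj

attribute [-instance] Red.grpObj_bc AlgebraicGeometry.instGrpObjSpecAsOverSpec
  AlgebraicGeometry.instCommGrpObjSpecAsOverSpec

noncomputable section

namespace Groth.Agent.Magnet

variable {S : Scheme.{u}} {M : Type} [AddCommMonoid M] {N F : AddSubmonoid M}

open scoped Classical in
theorem points_faceMap (hF : _root_.Magnet.IsFace N F) {T : Over S}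
    (x : T ⟶ _root_.Magnet.AMonS S F) (n : Multiplicative N) :
    points (x ≫ _root_.Magnet.AMonS.faceMap S hF) n =
      if h : ((Multiplicative.toAdd n : N) : M) ∈ F then points x (Multiplicative.ofAdd ⟨_, h⟩) else 0 := by
  let x' : (Over.map (Limits.IsTerminal.from specULiftZIsTerminal S)).obj T ⟶
      _root_.Magnet.AMon (ULift.{u} ℤ) F :=
    Over.homMk (x.left ≫ pullback.fst _ _) (specULiftZIsTerminal.hom_ext _ _)
  let φ : CommRingCat.of (MonoidAlgebra (ULift.{u} ℤ) (Multiplicative N)) ⟶
      CommRingCat.of (MonoidAlgebra (ULift.{u} ℤ) (Multiplicative F)) :=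
    CommRingCat.ofHom (_root_.Magnet.faceAlgHom (ULift.{u} ℤ) hF).toRingHom
  have h1 : points (x ≫ _root_.Magnet.AMonS.faceMap S hF) n =
      x'.left.appTop ((Scheme.ΓSpecIso (CommRingCat.of (MonoidAlgebra (ULift.{u} ℤ) (Multiplicative F)))).inv
        (φ (MonoidAlgebra.of (ULift.{u} ℤ) (Multiplicative N) n))) := by
    have hl : (x ≫ _root_.Magnet.AMonS.faceMap S hF).left ≫ pullback.fst _ _ = x'.left ≫ Spec.map φ := by
      change (x.left ≫ _) ≫ _ = (x.left ≫ pullback.fst _ _) ≫ _
      rw [Category.assoc, Category.assoc]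
      congr 1
      exact pullback.lift_fst _ _ _
    have h2 : (Scheme.ΓSpecIso (CommRingCat.of (MonoidAlgebra (ULift.{u} ℤ) (Multiplicative N)))).inv ≫
        (x'.left ≫ Spec.map φ).appTop =
        φ ≫ (Scheme.ΓSpecIso (CommRingCat.of (MonoidAlgebra (ULift.{u} ℤ) (Multiplicative F)))).inv ≫
          x'.left.appTop := by
      rw [Scheme.Hom.comp_appTop, Scheme.ΓSpecIso_inv_naturality_assoc]
    rw [← hl] at h2
    exact ConcreteCategory.congr_hom h2 (MonoidAlgebra.of (ULift.{u} ℤ) (Multiplicative N) n)
  have h3 : φ (MonoidAlgebra.of (ULift.{u} ℤ) (Multiplicative N) n) =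
      _root_.Magnet.faceAlgHom (ULift.{u} ℤ) hF
        (MonoidAlgebra.single (Multiplicative.ofAdd (Multiplicative.toAdd n)) 1) := rfl
  rw [h1, h3]
  split
  next h =>
    rw [_root_.Magnet.faceAlgHom_single_of_mem _ hF _ h]
    rfl
  next h =>
    rw [_root_.Magnet.faceAlgHom_single_of_not_mem _ hF _ h, map_zero, map_zero]

/-- The origin of `A(N)_S`: the unit of the face of invertible elements. -/
def faceOrigin (S : Scheme.{u}) (N : AddSubmonoid M) :
    𝟙_ (Over S) ⟶ _root_.Magnet.AMonS S N :=
  η[_root_.Magnet.AMonS S (_root_.Magnet.unitFace N)] ≫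
    _root_.Magnet.AMonS.faceMap S (_root_.Magnet.isFace_unitFace N)

open scoped Classical in
theorem points_faceOrigin (N : AddSubmonoid M) {T : Over S} (n : Multiplicative N) :
    points (toUnit T ≫ faceOrigin S N) n =
      if ((Multiplicative.toAdd n : N) : M) ∈ _root_.Magnet.unitFace N then 1 else 0 := by
  rw [faceOrigin, ← Category.assoc, ← Hom.one_def, points_faceMap]
  split
  · rw [map_one]
    rfl
  · rfl

section Field

variable {M : Type} [AddCommGroup M]

open scoped Classical in
/-- A stable open of `A(N)` over a field containing the origin is everything. -/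
theorem eq_top_of_stable_open (N : AddSubmonoid M) (T : Over S) (K : Type u) [Field K]
    (eT : T.left ≅ Spec (CommRingCat.of K)) (W : (_root_.Magnet.AMonS S N ⊗ T).left.Opens)
    (hst : (snd (_root_.Magnet.AMonS S M) (_root_.Magnet.AMonS S N ⊗ T)).left ⁻¹ᵁ W ≤
      (((_root_.Magnet.subAct S M N).prod (_root_.Magnet.MonAct.trivial (_root_.Magnet.AMonS S M) T)).act).left ⁻¹ᵁ W)
    (hσ : (lift (toUnit T ≫ faceOrigin S N) (𝟙 T)).left ⁻¹ᵁ W = ⊤) : W = ⊤ := by
  let sB : Spec (CommRingCat.of K) ⟶ S := eT.inv ≫ T.hom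
  let t0 : Over.mk sB ⟶ T := Over.homMk eT.inv rfl
  have : IsIso t0 := by
    have : IsIso ((Over.forget S).map t0) := inferInstanceAs (IsIso eT.inv)
    exact isIso_of_reflects_iso t0 (Over.forget S)
  have := isIso_chartHom sB N
  let c : chartObj sB N ⟶ _root_.Magnet.AMonS S N ⊗ T := chartHom sB N ≫ (_root_.Magnet.AMonS S N ◁ t0)
  have hc : Function.Surjective c.left := by
    have : IsIso c.left := inferInstanceAs (IsIso ((Over.forget S).map c))
    exact c.left.surjective
  refine top_le_iff.1 fun w _ => ?_
  obtain ⟨P, rfl⟩ := hc w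
  by_contra hP
  -- the point at the origin
  let R := MonoidAlgebra K (Multiplicative N)
  let χ₀ : Multiplicative N →* K :=
    { toFun := fun n => if ((Multiplicative.toAdd n : N) : M) ∈ _root_.Magnet.unitFace N then 1 else 0
      map_one' := if_pos (AddSubmonoid.zero_mem _)
      map_mul' := fun a b => by
        have hab := (_root_.Magnet.isFace_unitFace N).add_mem_iff
          (Multiplicative.toAdd a : N).2 (Multiplicative.toAdd b : N).2
        change (if ((Multiplicative.toAdd a : N) : M) + ((Multiplicative.toAdd b : N) : M) ∈ _ then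
          (1 : K) else 0) = _
        by_cases ha : ((Multiplicative.toAdd a : N) : M) ∈ _root_.Magnet.unitFace N <;>
          by_cases hb : ((Multiplicative.toAdd b : N) : M) ∈ _root_.Magnet.unitFace N <;>
          simp [hab, ha, hb] }
  let e₀ : CommRingCat.of R ⟶ CommRingCat.of K :=
    CommRingCat.ofHom (MonoidAlgebra.lift K K (Multiplicative N) χ₀).toRingHom
  have he₀ : chartAlg K N ≫ e₀ = 𝟙 _ :=
    CommRingCat.hom_ext (RingHom.ext fun r => (MonoidAlgebra.lift K K (Multiplicative N) χ₀).commutes r)
  let σ' : Over.mk sB ⟶ chartObj sB N := Over.homMk (Spec.map e₀) (by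
    change Spec.map e₀ ≫ Spec.map (chartAlg K N) ≫ sB = sB
    rw [← Spec.map_comp_assoc, he₀, Spec.map_id, Category.id_comp])
  have hσ' : σ' ≫ c = t0 ≫ lift (toUnit T ≫ faceOrigin S N) (𝟙 T) := by
    apply CartesianMonoidalCategory.hom_ext
    · simp only [c, Category.assoc, whiskerLeft_fst, chartHom, lift_fst]
      refine points_ext fun n => ?_
      rw [points_comp, points_comp, points_chartPoint, points_faceOrigin]
      change (Spec.map e₀).appTop ((Scheme.ΓSpecIso _).inv (MonoidAlgebra.of K _ n)) = _
      refine ((ConcreteCategory.congr_hom (Scheme.ΓSpecIso_inv_naturality e₀) _).symm.trans ?_)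
      rw [CommRingCat.comp_apply, show e₀ (MonoidAlgebra.of K _ n) = χ₀ n from MonoidAlgebra.lift_of χ₀ n]
      change (Scheme.ΓSpecIso _).inv (if _ then 1 else 0) = _
      split <;> simp only [map_one, map_zero] <;> rfl
    · simp only [c, Category.assoc, whiskerLeft_snd, chartHom, lift_snd_assoc, lift_snd, Category.comp_id]
      rw [← Category.assoc]
      have : σ' ≫ chartPr sB N = 𝟙 _ := by
        apply Over.OverMorphism.ext
        change Spec.map e₀ ≫ Spec.map (chartAlg K N) = 𝟙 _
        rw [← Spec.map_comp, he₀, Spec.map_id]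
      rw [this, Category.id_comp]
  let pσ : PrimeSpectrum R := PrimeSpectrum.comap e₀.hom ⟨⊥, Ideal.isPrime_bot⟩
  have hpσ : c.left pσ ∈ W := by
    change (σ' ≫ c).left (⟨⊥, Ideal.isPrime_bot⟩ : PrimeSpectrum K) ∈ W
    rw [hσ']
    exact hσ.ge (show _ ∈ (⊤ : T.left.Opens) from trivial)
  -- the generic orbit of `P`
  let P' : PrimeSpectrum R := P
  let L := P'.asIdeal.ResidueField
  let q : R →+* L := algebraMap R L
  let x : Multiplicative N →* L := q.toMonoidHom.comp (MonoidAlgebra.of K (Multiplicative N))
  let LM := MonoidAlgebra L (Multiplicative M)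
  let g : Multiplicative N →* LM :=
    { toFun := fun n => MonoidAlgebra.single
        (Multiplicative.ofAdd ((Multiplicative.toAdd n : N) : M)) (x n)
      map_one' := by simp only [map_one]; rfl
      map_mul' := fun a b => by
        simp only [map_mul, toAdd_mul, AddSubmonoid.coe_add, ofAdd_add]
        exact (MonoidAlgebra.single_mul_single ..).symm }
  let r : R →+* LM := MonoidAlgebra.singleOneRingHom.comp q
  have hcomm : ∀ a b, Commute (r (algebraMap K R a)) (g b) := fun _ _ => Commute.all _ _
  let ψ : R →+* LM := MonoidAlgebra.liftNCRingHom (r.comp (algebraMap K R)) g hcomm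
  have hψof : ∀ n, ψ (MonoidAlgebra.of K _ n) = g n := fun n => by
    change MonoidAlgebra.liftNCRingHom _ _ _ (MonoidAlgebra.single n 1) = _
    rw [MonoidAlgebra.liftNCRingHom_single, map_one, one_mul]
  have halg1 : ∀ a : K, algebraMap K R a = MonoidAlgebra.single 1 a := fun a => by
    simp [R, MonoidAlgebra.coe_algebraMap]
  have hψalg : ψ.comp (algebraMap K R) = r.comp (algebraMap K R) := RingHom.ext fun a => by
    change ψ (algebraMap K R a) = r (algebraMap K R a)
    conv_lhs => rw [halg1]
    refine (MonoidAlgebra.liftNCRingHom_single _ _ hcomm 1 a).trans ?_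
    rw [map_one, mul_one]
    rfl
  have hcoeff : ∀ (h : R) (n : Multiplicative N),
      (ψ h).coeff (Multiplicative.ofAdd ((Multiplicative.toAdd n : N) : M)) =
        q (algebraMap K R (h.coeff n)) * x n := by
    intro h n
    induction h using MonoidAlgebra.induction_linear with
    | zero => simp
    | add a b ha hb =>
      rw [map_add, MonoidAlgebra.coeff_add, Finsupp.add_apply, ha, hb, MonoidAlgebra.coeff_add,
        Finsupp.add_apply, map_add, map_add, add_mul]
    | single m a =>
      rw [show ψ (MonoidAlgebra.single m a) = r (algebraMap K R a) * g m from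
        MonoidAlgebra.liftNCRingHom_single _ _ hcomm m a]
      change (MonoidAlgebra.single (1 : Multiplicative M) (q (algebraMap K R a)) *
        MonoidAlgebra.single (Multiplicative.ofAdd ((Multiplicative.toAdd m : N) : M)) (x m)).coeff _ = _
      rw [MonoidAlgebra.single_mul_single, one_mul]
      rcases eq_or_ne m n with rfl | hmn
      · simp
      · have : Multiplicative.ofAdd ((Multiplicative.toAdd m : N) : M) ≠
            Multiplicative.ofAdd ((Multiplicative.toAdd n : N) : M) := fun e =>
          hmn (Multiplicative.toAdd.injective (Subtype.ext (Multiplicative.ofAdd.injective e)))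
        simp [this.symm, hmn.symm]
  have hker : ∀ h, ψ h = 0 → e₀ h = 0 := by
    intro h hh
    change MonoidAlgebra.lift K K (Multiplicative N) χ₀ h = 0
    rw [MonoidAlgebra.lift_apply]
    refine Finset.sum_eq_zero fun n _ => ?_
    change h.coeff n • (if _ then (1 : K) else 0) = 0
    split
    next hn =>
      obtain ⟨-, y, hy, hny⟩ := hn
      have hu : IsUnit (x n) := by
        refine IsUnit.of_mul_eq_one (x (Multiplicative.ofAdd ⟨y, hy⟩)) ?_
        rw [← map_mul, show n * Multiplicative.ofAdd (⟨y, hy⟩ : N) = 1 from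
          Multiplicative.toAdd.injective (Subtype.ext hny), map_one]
      have h0 := hcoeff h n
      rw [hh, MonoidAlgebra.coeff_zero, Finsupp.zero_apply, eq_comm, hu.mul_left_eq_zero] at h0
      rw [(q.comp (algebraMap K R)).injective (h0.trans (map_zero (q.comp (algebraMap K R))).symm)]
      simp
    next => simp
  -- an orbit point near the origin
  let V : TopologicalSpace.Opens (PrimeSpectrum R) := (c.left ⁻¹ᵁ W : (chartObj sB N).left.Opens)
  obtain ⟨_, ⟨h, rfl⟩, hh, hhV⟩ :=
    PrimeSpectrum.isTopologicalBasis_basic_opens.exists_subset_of_mem_open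
      (show pσ ∈ (V : Set (PrimeSpectrum R)) from hpσ) V.2
  obtain ⟨z, hz⟩ : ∃ z : PrimeSpectrum LM, ψ h ∉ z.asIdeal := by
    by_contra hall
    push_neg at hall
    have hnil : ψ h ∈ nilradical LM := by
      rw [nilradical_eq_sInf, Ideal.mem_sInf]
      exact fun I hI => hall ⟨I, hI⟩
    obtain ⟨m, hm⟩ := hnil
    refine hh ?_
    change e₀ h ∈ (⊥ : Ideal K)
    rw [← map_pow] at hm
    have := hker _ hm
    rw [map_pow] at this
    exact Ideal.mem_bot.2 (pow_eq_zero_iff'.1 this).1
  let str : Spec (CommRingCat.of LM) ⟶ S :=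
    Spec.map (CommRingCat.ofHom (r.comp (algebraMap K R))) ≫ sB
  let T' : Over S := Over.mk str
  let uψ : T' ⟶ chartObj sB N := Over.homMk (Spec.map (CommRingCat.ofHom ψ)) (by
    change Spec.map _ ≫ Spec.map (chartAlg K N) ≫ sB = _
    rw [← Spec.map_comp_assoc]
    change Spec.map (CommRingCat.ofHom (ψ.comp (algebraMap K R))) ≫ sB = _
    rw [hψalg]
    rfl)
  let ur : T' ⟶ chartObj sB N := Over.homMk (Spec.map (CommRingCat.ofHom r)) (by
    change Spec.map _ ≫ Spec.map (chartAlg K N) ≫ sB = _
    rw [← Spec.map_comp_assoc]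
    rfl)
  let ginv : T' ⟶ _root_.Magnet.AMonS S M := points.symm
    ((Scheme.ΓSpecIso (CommRingCat.of LM)).inv.hom.toMonoidHom.comp
      ((MonoidAlgebra.of L (Multiplicative M)).comp invMonoidHom))
  have hfst : ∀ (v : R →+* LM) (hv : Spec.map (CommRingCat.ofHom v) ≫ Spec.map (chartAlg K N) ≫ sB = str)
      (n : Multiplicative N),
      points ((Over.homMk (Spec.map (CommRingCat.ofHom v)) hv : T' ⟶ chartObj sB N) ≫ chartPoint sB N) n =
        (Scheme.ΓSpecIso (CommRingCat.of LM)).inv (v (MonoidAlgebra.of K _ n)) := by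
    intro v hv n
    rw [points_comp, points_chartPoint]
    exact (ConcreteCategory.congr_hom
      (Scheme.ΓSpecIso_inv_naturality (CommRingCat.ofHom v)) (MonoidAlgebra.of K _ n)).symm
  have hact : lift ginv (uψ ≫ c) ≫
      ((_root_.Magnet.subAct S M N).prod (_root_.Magnet.MonAct.trivial (_root_.Magnet.AMonS S M) T)).act =
        ur ≫ c := by
    have hc1 : ∀ v : T' ⟶ chartObj sB N, (v ≫ c) ≫ fst _ _ = v ≫ chartPoint sB N := by
      intro v
      simp only [c, chartHom, Category.assoc, whiskerLeft_fst, lift_fst]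
    have hc2 : ∀ v : T' ⟶ chartObj sB N, (v ≫ c) ≫ snd _ _ = (v ≫ chartPr sB N) ≫ t0 := by
      intro v
      simp only [c, chartHom, Category.assoc, whiskerLeft_snd, lift_snd_assoc]
    have hfun : points (uψ ≫ chartPoint sB N) = (Scheme.ΓSpecIso (CommRingCat.of LM)).inv.hom.toMonoidHom.comp g :=
      MonoidHom.ext fun n => (hfst ψ _ n).trans (congrArg _ (hψof n))
    have hpr : uψ ≫ chartPr sB N = ur ≫ chartPr sB N := by
      apply Over.OverMorphism.ext
      change Spec.map (CommRingCat.ofHom ψ) ≫ Spec.map (chartAlg K N) =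
        Spec.map (CommRingCat.ofHom r) ≫ Spec.map (chartAlg K N)
      rw [← Spec.map_comp, ← Spec.map_comp]
      exact congrArg (fun v => Spec.map (CommRingCat.ofHom v)) hψalg
    rw [← lift_comp_fst_snd (uψ ≫ c), ← lift_comp_fst_snd (ur ≫ c), hc1, hc2, hc1, hc2,
      _root_.Magnet.MonAct.lift_prod_act, _root_.Magnet.MonAct.lift_trivial_act, hpr,
      _root_.Magnet.subAct, _root_.Magnet.MonAct.lift_restrict_act,
      _root_.Magnet.MonAct.lift_regular_act]
    congr 1
    refine points_ext fun n => ?_
    let m : M := ((Multiplicative.toAdd n : N) : M)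
    have hmul : (MonoidAlgebra.single (Multiplicative.ofAdd m)⁻¹ (1 : L) : LM) *
        MonoidAlgebra.single (Multiplicative.ofAdd m) (x n) = r (MonoidAlgebra.of K _ n) := by
      refine (MonoidAlgebra.single_mul_single ..).trans ?_
      rw [inv_mul_cancel, one_mul]
      rfl
    have hg1 : points ginv ((AddMonoidHom.toMultiplicative N.subtype) n) =
        (Scheme.ΓSpecIso (CommRingCat.of LM)).inv (MonoidAlgebra.single (Multiplicative.ofAdd m)⁻¹ (1 : L)) := by
      rw [MulEquiv.apply_symm_apply]
      rfl
    rw [map_mul, MonoidHom.mul_apply, points_map, MonoidHom.comp_apply, hg1, hfun, hfst r _ n]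
    exact (map_mul (Scheme.ΓSpecIso (CommRingCat.of LM)).inv.hom _ _).symm.trans (congrArg _ hmul)
  have hzW : (uψ ≫ c).left z ∈ W := hhV hz
  have hzr : (ur ≫ c).left z ∈ W := by
    have hy : (lift ginv (uψ ≫ c)).left z ∈
        (snd (_root_.Magnet.AMonS S M) (_root_.Magnet.AMonS S N ⊗ T)).left ⁻¹ᵁ W := by
      change ((lift ginv (uψ ≫ c)) ≫ snd _ _).left z ∈ W
      rw [lift_snd]
      exact hzW
    rw [← hact]
    exact hst hy
  have hzP : PrimeSpectrum.comap r z = P' := by
    refine PrimeSpectrum.ext ?_
    change Ideal.comap r z.asIdeal = P'.asIdeal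
    rw [show r = MonoidAlgebra.singleOneRingHom.comp q from rfl, ← Ideal.comap_comap,
      Ideal.eq_bot_of_prime (Ideal.comap MonoidAlgebra.singleOneRingHom z.asIdeal)]
    exact P'.asIdeal.ker_algebraMap_residueField
  refine hP ?_
  change c.left P' ∈ W
  rw [← hzP]
  exact hzr

end Field

end Groth.Agent.Magnet
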