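import Groth.Agent.Magnet.Extend
import Groth.Agent.Magnet.Chart

/-!
# The attractor of a scheme affine over the base is a closed subscheme
-/

set_option autoImplicit false
set_option backward.isDefEq.respectTransparency false
set_option backward.isDefEq.respectTransparency.types false
set_option linter.style.haveILetI false

universe u

open CategoryTheory CategoryTheory.Limits MonoidalCategory CartesianMonoidalCategory AlgebraicGeometry Opposite
open scoped MonObj

attribute [-instance] Red.grpObj_bc AlgebraicGeometry.instGrpObjSpecAsOverSpec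
  AlgebraicGeometry.instCommGrpObjSpecAsOverSpec

noncomputable section

namespace Groth.Agent.Magnet

variable {S : Scheme.{u}}

section ChartBase

variable {A A' : Type u} [CommRing A] [CommRing A'] (φ : A →+* A') (str : Spec (CommRingCat.of A) ⟶ S)
  (str' : Spec (CommRingCat.of A') ⟶ S) (h : Spec.map (CommRingCat.ofHom φ) ≫ str = str')
  (N : Type) [AddCommMonoid N]

/-- Change of coefficients on monoid algebras. -/
def coeffRing : CommRingCat.of (MonoidAlgebra A (Multiplicative N)) ⟶
    CommRingCat.of (MonoidAlgebra A' (Multiplicative N)) :=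
  CommRingCat.ofHom (MonoidAlgebra.mapRingHom (Multiplicative N) φ)

theorem chartAlg_comp_coeffRing :
    chartAlg A N ≫ coeffRing φ N = CommRingCat.ofHom φ ≫ chartAlg A' N := by
  refine CommRingCat.hom_ext (RingHom.ext fun a => ?_)
  change MonoidAlgebra.mapRingHom _ φ (algebraMap A _ a) = algebraMap A' _ (φ a)
  rw [MonoidAlgebra.coe_algebraMap, MonoidAlgebra.coe_algebraMap]
  simp

/-- Change of base on charts. -/
def chartBase : chartObj str' N ⟶ chartObj str N :=
  Over.homMk (Spec.map (coeffRing φ N)) (by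
    change Spec.map _ ≫ Spec.map _ ≫ str = Spec.map _ ≫ str'
    rw [← Spec.map_comp_assoc, chartAlg_comp_coeffRing, Spec.map_comp_assoc, h])

theorem chartBase_comp_chartHom :
    chartBase φ str str' h N ≫ chartHom str N = chartHom str' N ≫
      (_root_.Magnet.AMonS S N ◁ (Over.homMk (Spec.map (CommRingCat.ofHom φ)) h :
        Over.mk str' ⟶ Over.mk str)) := by
  apply CartesianMonoidalCategory.hom_ext
  · rw [Category.assoc, Category.assoc, chartHom, chartHom, lift_fst, whiskerLeft_fst, lift_fst]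
    refine points_ext fun n => ?_
    rw [points_comp, points_chartPoint, points_chartPoint]
    change (Spec.map (coeffRing φ N)).appTop ((Scheme.ΓSpecIso _).inv (MonoidAlgebra.of A _ n)) =
      (Scheme.ΓSpecIso _).inv (MonoidAlgebra.of A' _ n)
    refine ((ConcreteCategory.congr_hom
      (Scheme.ΓSpecIso_inv_naturality (coeffRing φ N)) _).symm.trans ?_)
    rw [CommRingCat.comp_apply, show coeffRing φ N (MonoidAlgebra.of A (Multiplicative N) n) =
      MonoidAlgebra.of A' _ n from by simp [coeffRing]]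
  · rw [Category.assoc, Category.assoc, chartHom, chartHom, lift_snd, whiskerLeft_snd, lift_snd_assoc]
    apply Over.OverMorphism.ext
    change Spec.map _ ≫ Spec.map _ = Spec.map _ ≫ Spec.map _
    rw [← Spec.map_comp, ← Spec.map_comp, chartAlg_comp_coeffRing]

end ChartBase

/-- Ring-theoretic core: a ring map to `C[M]` factors through `C[N]` iff its values are supported on
`N`. -/
theorem exists_factor_iff {R A C : Type u} [CommRing R] [CommRing A] [CommRing C] {M : Type}
    [AddCommMonoid M] (N : AddSubmonoid M) (ω : R →+* MonoidAlgebra A (Multiplicative M)) (ψ : A →+* C) :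
    (∃ θ : R →+* MonoidAlgebra C (Multiplicative N),
      (MonoidAlgebra.mapDomainRingHom C (AddMonoidHom.toMultiplicative N.subtype)).comp θ =
        (MonoidAlgebra.mapRingHom (Multiplicative M) ψ).comp ω) ↔
      Ideal.span {x : A | ∃ c m, Multiplicative.toAdd m ∉ N ∧ x = (ω c).coeff m} ≤ RingHom.ker ψ := by
  let ρ := MonoidAlgebra.mapDomainRingHom C (AddMonoidHom.toMultiplicative N.subtype)
  have hinj : Function.Injective ρ :=
    MonoidAlgebra.mapDomain_injective (f := ⇑(AddMonoidHom.toMultiplicative N.subtype))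
      fun a b e => Subtype.ext e
  constructor
  · rintro ⟨θ, hθ⟩
    rw [Ideal.span_le]
    rintro x ⟨c, m, hm, rfl⟩
    have h := congrArg (fun g => (g c).coeff m) hθ
    simp only [RingHom.comp_apply, MonoidAlgebra.coeff_mapRingHom] at h
    change ψ ((ω c).coeff m) = 0
    rw [← h]
    exact Finsupp.mapDomain_notin_range _ _ fun ⟨n, hn⟩ => hm (hn ▸ n.2)
  · intro h
    have hmem : ∀ c, MonoidAlgebra.mapRingHom (Multiplicative M) ψ (ω c) ∈ ρ.range := by
      intro c
      rw [← MonoidAlgebra.sum_single (MonoidAlgebra.mapRingHom (Multiplicative M) ψ (ω c))]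
      refine Subring.sum_mem _ fun m hm => ?_
      have hmN : Multiplicative.toAdd m ∈ N := by
        by_contra hm'
        refine Finsupp.mem_support_iff.1 hm ?_
        rw [MonoidAlgebra.coeff_mapRingHom]
        exact h (Ideal.subset_span ⟨c, m, hm', rfl⟩)
      exact ⟨MonoidAlgebra.single (Multiplicative.ofAdd ⟨_, hmN⟩) _,
        MonoidAlgebra.mapDomain_single⟩
    let e := RingEquiv.ofBijective ρ.rangeRestrict
      ⟨fun a b e => hinj (congrArg Subtype.val e), ρ.rangeRestrict_surjective⟩
    refine ⟨e.symm.toRingHom.comp (((MonoidAlgebra.mapRingHom (Multiplicative M) ψ).comp ω).codRestrict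
      ρ.range hmem), RingHom.ext fun c => ?_⟩
    exact congrArg Subtype.val (e.apply_symm_apply ⟨_, hmem c⟩)

variable {M : Type} [AddCommMonoid M] (N : AddSubmonoid M) {X : Over S} [IsAffineHom X.hom]
  (a : _root_.Magnet.MonAct (_root_.Magnet.AMonS S M) X)

theorem extends_loc (p : X.left) : ∃ V : X.left.affineOpens, p ∈ V.1 ∧ ∃ L : Ideal Γ(X.left, V.1),
    ∀ (C : CommRingCat.{u}) (ψ : Γ(X.left, V.1) ⟶ C),
      Extends (_root_.Magnet.AMonS.map S N.subtype) a (Over.homMk (Spec.map ψ ≫ V.2.fromSpec) rfl :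
        Over.mk ((Spec.map ψ ≫ V.2.fromSpec) ≫ X.hom) ⟶ X) ↔ L ≤ RingHom.ker ψ.hom := by
  obtain ⟨_, ⟨V, hV, rfl⟩, hpV, -⟩ := S.isBasis_affineOpens.exists_subset_of_mem_open
    (Set.mem_univ (X.hom p)) isOpen_univ
  have hW : IsAffineOpen (X.hom ⁻¹ᵁ V) := hV.preimage X.hom
  let R := Γ(X.left, X.hom ⁻¹ᵁ V)
  let sR : Spec R ⟶ S := hW.fromSpec ≫ X.hom
  let x₀ : Over.mk sR ⟶ X := Over.homMk hW.fromSpec rfl
  let σ := X.hom.appLE V (X.hom ⁻¹ᵁ V) le_rfl
  have hsR : sR = Spec.map σ ≫ hV.fromSpec :=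
    (IsAffineOpen.SpecMap_appLE_fromSpec X.hom hV hW le_rfl).symm
  let Ω : chartObj sR M ⟶ X := chartHom sR M ≫ (_root_.Magnet.AMonS S M ◁ x₀) ≫ a.act
  let K := CommRingCat.of (MonoidAlgebra R (Multiplicative M))
  have hrange : Set.range Ω.left ⊆ Set.range hW.fromSpec := by
    rw [IsAffineOpen.range_fromSpec]
    rintro _ ⟨q, rfl⟩
    change X.hom (Ω.left q) ∈ V
    rw [← Scheme.Hom.comp_apply, Over.w Ω]
    exact (show hW.fromSpec (Spec.map (chartAlg R M) q) ∈ (X.hom ⁻¹ᵁ V : Set X.left) from
      hW.range_fromSpec ▸ Set.mem_range_self _)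
  obtain ⟨ω, hω⟩ : ∃ ω : R ⟶ K, Spec.map ω ≫ hW.fromSpec = Ω.left :=
    ⟨Spec.preimage (IsOpenImmersion.lift hW.fromSpec Ω.left hrange),
      by rw [Spec.map_preimage, IsOpenImmersion.lift_fac]⟩
  refine ⟨⟨_, hW⟩, hpV, Ideal.span {x | ∃ c m, Multiplicative.toAdd m ∉ N ∧ x = (ω.hom c).coeff m},
    fun C ψ => ?_⟩
  rw [← exists_factor_iff N ω.hom ψ.hom]
  let sC := (Spec.map ψ ≫ hW.fromSpec) ≫ X.hom
  let u : Over.mk sC ⟶ Over.mk sR := Over.homMk (Spec.map ψ) (Category.assoc _ _ _).symm
  let x : Over.mk sC ⟶ X := Over.homMk (Spec.map ψ ≫ hW.fromSpec) rfl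
  have hx : u ≫ x₀ = x := Over.OverMorphism.ext rfl
  let b : chartObj sC M ⟶ chartObj sR M :=
    chartBase ψ.hom sR sC (Category.assoc _ _ _).symm M
  have hb : chartHom sC M ≫ (_root_.Magnet.AMonS S M ◁ x) ≫ a.act = b ≫ Ω := by
    rw [← hx, whiskerLeft_comp, Category.assoc]
    exact ((chartBase_comp_chartHom ψ.hom sR sC (Category.assoc _ _ _).symm M) =≫
      ((_root_.Magnet.AMonS S M ◁ x₀) ≫ a.act)).symm.trans (Category.assoc _ _ _)
  have hbl : (b ≫ Ω).left =
      Spec.map (ω ≫ coeffRing ψ.hom M) ≫ hW.fromSpec := by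
    change Spec.map (coeffRing ψ.hom M) ≫ Ω.left = _
    rw [← hω, Spec.map_comp, Category.assoc]
  have := isIso_chartHom sC N
  have := isIso_chartHom sC M
  constructor
  · rintro ⟨φ, hφ⟩
    let φ' : chartObj sC N ⟶ X := chartHom sC N ≫ φ
    have hl : chartMap sC N.subtype ≫ φ' = b ≫ Ω := by
      rw [← hb, ← hφ, reassoc_of% chartMap_comp_chartHom sC N.subtype]
    have hr : Set.range φ'.left ⊆ Set.range hW.fromSpec := by
      rw [IsAffineOpen.range_fromSpec]
      rintro _ ⟨q, rfl⟩
      change X.hom (φ'.left q) ∈ V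
      rw [← Scheme.Hom.comp_apply, Over.w φ']
      exact (show hW.fromSpec (Spec.map ψ (Spec.map (chartAlg C N) q)) ∈ (X.hom ⁻¹ᵁ V : Set X.left) from
        hW.range_fromSpec ▸ Set.mem_range_self _)
    obtain ⟨θ, hθ⟩ : ∃ θ : R ⟶ CommRingCat.of (MonoidAlgebra C (Multiplicative N)),
        Spec.map θ ≫ hW.fromSpec = φ'.left :=
      ⟨Spec.preimage (IsOpenImmersion.lift hW.fromSpec φ'.left hr),
        by rw [Spec.map_preimage, IsOpenImmersion.lift_fac]⟩
    refine ⟨θ.hom, congrArg CommRingCat.Hom.hom (Spec.map_injective ?_ :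
      θ ≫ chartMapRing N.subtype C = ω ≫ coeffRing ψ.hom M)⟩
    rw [← cancel_mono hW.fromSpec, Spec.map_comp, Category.assoc, hθ, ← hbl, ← hl]
    rfl
  · rintro ⟨θ, hθ⟩
    let θ' : R ⟶ CommRingCat.of (MonoidAlgebra C (Multiplicative N)) := CommRingCat.ofHom θ
    have hθ' : θ' ≫ chartMapRing N.subtype C = ω ≫ coeffRing ψ.hom M := CommRingCat.hom_ext hθ
    have hinj : Mono (chartMapRing N.subtype C) := ConcreteCategory.mono_of_injective _
      (MonoidAlgebra.mapDomain_injective (f := ⇑(AddMonoidHom.toMultiplicative N.subtype))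
        fun a b e => Subtype.ext e)
    have hstr : sC = Spec.map (σ ≫ ψ) ≫ hV.fromSpec := by
      rw [Spec.map_comp, Category.assoc, ← hsR]
      exact Category.assoc _ _ _
    have hw : σ ≫ θ' = σ ≫ ψ ≫ chartAlg C N := by
      have h1 : σ ≫ ω ≫ coeffRing ψ.hom M = σ ≫ ψ ≫ chartAlg C M := by
        refine Spec.map_injective ?_
        rw [← cancel_mono hV.fromSpec, Spec.map_comp, Category.assoc, ← hsR,
          ← Category.assoc, ← hbl]
        refine (Over.w (b ≫ Ω)).trans ?_
        change Spec.map (chartAlg C M) ≫ sC = _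
        rw [hstr, ← Category.assoc, ← Spec.map_comp, Category.assoc]
      rw [← cancel_mono (chartMapRing N.subtype C), Category.assoc, hθ', h1, Category.assoc,
        Category.assoc, chartAlg_comp_chartMapRing]
    let φ' : chartObj sC N ⟶ X := Over.homMk (Spec.map θ' ≫ hW.fromSpec) (by
      change _ = Spec.map (chartAlg C N) ≫ sC
      rw [Category.assoc, show hW.fromSpec ≫ X.hom = _ from hsR, ← Spec.map_comp_assoc, hw, hstr,
        ← Spec.map_comp_assoc, Category.assoc])
    have hl : chartMap sC N.subtype ≫ φ' = b ≫ Ω := by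
      apply Over.OverMorphism.ext
      rw [hbl, ← hθ', Spec.map_comp, Category.assoc]
      rfl
    refine ⟨inv (chartHom sC N) ≫ φ', ?_⟩
    rw [← cancel_epi (chartHom sC M), ← reassoc_of% chartMap_comp_chartHom sC N.subtype,
      IsIso.hom_inv_id_assoc, hl]
    exact hb.symm

/-- The attractor of a scheme affine over the base is represented by a closed subscheme. -/
theorem exists_attr_closed :
    ∃ (Z : Over S) (i : Z ⟶ X) (e : (_root_.Magnet.attr a N).RepresentableBy Z),
      IsClosedImmersion i.left ∧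
      ∀ (T : Over S) (z : T ⟶ Z),
        (_root_.Magnet.attrToX a N).app (op T) (e.homEquiv z) = z ≫ i :=
  exists_representableBy_of_local_ideal
    (inc := _root_.Magnet.AMonS.map S N.subtype)
    (fun _ u v h => eq_of_map_whiskerRight_eq N.subtype Subtype.val_injective u v h)
    (extends_loc N a)

end Groth.Agent.Magnet
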