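import Groth.Agent.Magnet.Chart

/-!
# Changing the monoid along an injective map
-/

set_option autoImplicit false
set_option backward.isDefEq.respectTransparency false
set_option backward.isDefEq.respectTransparency.types false

universe u

open CategoryTheory CategoryTheory.Limits MonoidalCategory CartesianMonoidalCategory AlgebraicGeometry Opposite
open scoped MonObj

attribute [-instance] Red.grpObj_bc AlgebraicGeometry.instGrpObjSpecAsOverSpec
  AlgebraicGeometry.instCommGrpObjSpecAsOverSpec

noncomputable section

namespace Groth.Agent.Magnet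

variable {S : Scheme.{u}} {M Z : Type} [AddCommMonoid M] [AddCommMonoid Z]

theorem AMonS_map_id (S : Scheme.{u}) (M : Type) [AddCommMonoid M] :
    _root_.Magnet.AMonS.map S (AddMonoidHom.id M) = 𝟙 (_root_.Magnet.AMonS S M) := by
  have h : points (𝟙 _ ≫ _root_.Magnet.AMonS.map S (AddMonoidHom.id M)) =
      points (𝟙 (_root_.Magnet.AMonS S M)) := by
    rw [points_map]
    exact MonoidHom.ext fun m => rfl
  exact (Category.id_comp _).symm.trans (points.injective h)

theorem isIso_attrComap_of_injective (f : M →+ Z) (hf : Function.Injective f) (Y : AddSubmonoid Z)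
    (hY : Y ≤ AddMonoidHom.mrange f) {X : Over S} [IsSeparated X.hom]
    (a : _root_.Magnet.MonAct (_root_.Magnet.AMonS S M) X) : IsIso (_root_.Magnet.attrComap a f Y) := by
  let N : AddSubmonoid M := Y.comap f
  let c : N →+ Y := (f.comp N.subtype).codRestrict Y fun x => x.2
  have hc : Function.Bijective c := by
    constructor
    · exact fun x y h => Subtype.ext (hf (congrArg Subtype.val h))
    · intro y
      obtain ⟨m, hm⟩ := hY y.2
      exact ⟨⟨m, by change f m ∈ Y; rw [hm]; exact y.2⟩, Subtype.ext hm⟩
  let ce := AddEquiv.ofBijective c hc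
  let d : Y →+ N := ce.symm.toAddMonoidHom
  have hcd : _root_.Magnet.AMonS.map S c ≫ _root_.Magnet.AMonS.map S d = 𝟙 _ := by
    rw [← _root_.Magnet.AMonS.map_comp, show c.comp d = AddMonoidHom.id _ from
      AddMonoidHom.ext fun y => ce.apply_symm_apply y, AMonS_map_id]
  have hdc : _root_.Magnet.AMonS.map S d ≫ _root_.Magnet.AMonS.map S c = 𝟙 _ := by
    rw [← _root_.Magnet.AMonS.map_comp, show d.comp c = AddMonoidHom.id _ from
      AddMonoidHom.ext fun x => ce.symm_apply_apply x, AMonS_map_id]
  refine (NatTrans.isIso_iff_isIso_app _).2 fun T => (isIso_iff_bijective _).2 ⟨?_, ?_⟩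
  · intro φ ψ e
    refine Subtype.ext ?_
    have := congrArg (fun z => (_root_.Magnet.AMonS.map S d ▷ unop T) ≫ z) (congrArg Subtype.val e)
    simp only [_root_.Magnet.attrComap_app_coe] at this
    rw [← comp_whiskerRight_assoc, ← comp_whiskerRight_assoc, hdc, id_whiskerRight,
      Category.id_comp, Category.id_comp] at this
    exact this
  · intro ψ
    have hψ := (_root_.Magnet.MonAct.mem_eqvHom_iff ψ.1).1 ψ.2
    refine ⟨⟨(_root_.Magnet.AMonS.map S d ▷ unop T) ≫ ψ.1, ?_⟩, Subtype.ext ?_⟩
    · refine eq_of_map_whiskerRight_eq f hf _ _ ?_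
      apply _root_.Magnet.hom_ext_lift₂
      intro T' g z
      rw [lift_whiskerRight_assoc, lift_whiskerRight_assoc, lift_whiskerLeft_assoc,
        ← lift_comp_fst_snd z, _root_.Magnet.MonAct.lift_prod_act_assoc,
        _root_.Magnet.MonAct.lift_trivial_act, lift_whiskerRight_assoc, lift_whiskerRight_assoc]
      generalize z ≫ fst _ _ = b
      generalize z ≫ snd _ _ = t
      have e := hψ T' g (b ≫ _root_.Magnet.AMonS.map S d) t
      rw [_root_.Magnet.MonAct.lift_restrict_act] at e
      refine Eq.trans ?_ e
      congr 2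
      simp only [_root_.Magnet.subAct, _root_.Magnet.MonAct.lift_restrict_act,
        _root_.Magnet.MonAct.lift_regular_act]
      rw [MonObj.mul_comp, Category.assoc, Category.assoc, ← _root_.Magnet.AMonS.map_comp,
        ← _root_.Magnet.AMonS.map_comp]
      congr 3
      exact AddMonoidHom.ext fun y => congrArg Subtype.val (ce.apply_symm_apply y)
    · change (_root_.Magnet.AMonS.map S c ▷ unop T) ≫ (_root_.Magnet.AMonS.map S d ▷ unop T) ≫ ψ.1 = ψ.1
      rw [← comp_whiskerRight_assoc, hcd, id_whiskerRight, Category.id_comp]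

end Groth.Agent.Magnet
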