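import Groth.Agent.Magnet.AffineAttr
import Groth.Agent.Magnet.Comap

/-!
# Change of monoid for attractors of schemes affine over the base
-/

set_option autoImplicit false
set_option backward.isDefEq.respectTransparency false
set_option backward.isDefEq.respectTransparency.types false
set_option linter.style.haveILetI false

universe u

open CategoryTheory CategoryTheory.Limits MonoidalCategory CartesianMonoidalCategory AlgebraicGeometry Opposite
open scoped MonObj

attribute [-instance] Red.grpObj_bc AlgebraicGeometry.instGrpObjSpecAsOverSpec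
  AlgebraicGeometry.instCommGrpObjSpecAsOverSpec

noncomputable section

namespace Groth.Agent.Magnet

variable {S : Scheme.{u}} {M : Type} [AddCommMonoid M]

theorem AMonS_hom_mul_comm {T : Over S} (g h : T ⟶ _root_.Magnet.AMonS S M) : g * h = h * g :=
  points.injective (by rw [map_mul, map_mul, mul_comm])

/-- The diagonal ring map `C[M] ⟶ C[M][M]`, `m ↦ m ⊗ m`. -/
def diagRing (C : Type u) [CommRing C] (M : Type) [AddCommMonoid M] :
    MonoidAlgebra C (Multiplicative M) →+*
      MonoidAlgebra (MonoidAlgebra C (Multiplicative M)) (Multiplicative M) :=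
  MonoidAlgebra.liftNCRingHom
    ((algebraMap (MonoidAlgebra C (Multiplicative M))
      (MonoidAlgebra (MonoidAlgebra C (Multiplicative M)) (Multiplicative M))).comp
        (algebraMap C (MonoidAlgebra C (Multiplicative M))))
    { toFun := fun m => MonoidAlgebra.single m (MonoidAlgebra.single m 1)
      map_one' := rfl
      map_mul' := fun m m' => by simp [MonoidAlgebra.single_mul_single] }
    fun _ _ => Commute.all _ _

theorem diagRing_single (C : Type u) [CommRing C] (m : Multiplicative M) (r : C) :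
    diagRing C M (MonoidAlgebra.single m r) = MonoidAlgebra.single m (MonoidAlgebra.single m r) := by
  simp [diagRing, MonoidAlgebra.liftNCRingHom_single, MonoidAlgebra.coe_algebraMap,
    MonoidAlgebra.single_mul_single]

variable {C : CommRingCat.{u}} (sC : Spec C ⟶ S)

/-- The base of the chart. -/
abbrev chartBaseStr (M : Type) [AddCommMonoid M] :
    Spec (CommRingCat.of (MonoidAlgebra C (Multiplicative M))) ⟶ S :=
  Spec.map (chartAlg C M) ≫ sC

/-- The diagonal of charts. -/
def chartDiag : chartObj (chartBaseStr sC M) M ⟶ chartObj sC M :=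
  Over.homMk (Spec.map (CommRingCat.ofHom (diagRing C M))) (by
    change Spec.map _ ≫ Spec.map _ ≫ sC = Spec.map _ ≫ Spec.map _ ≫ sC
    rw [← Spec.map_comp_assoc, ← Spec.map_comp_assoc]
    congr 2
    refine CommRingCat.hom_ext (RingHom.ext fun b => ?_)
    change diagRing C M (algebraMap C _ b) = algebraMap (MonoidAlgebra C (Multiplicative M))
      (MonoidAlgebra (MonoidAlgebra C (Multiplicative M)) (Multiplicative M)) (algebraMap C _ b)
    simp [MonoidAlgebra.coe_algebraMap, diagRing_single])

theorem chartDiag_comp_chartPr :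
    chartDiag sC ≫ chartPr sC M = chartPr (chartBaseStr sC M) M ≫ chartPr sC M := by
  apply Over.OverMorphism.ext
  change Spec.map _ ≫ Spec.map _ = Spec.map _ ≫ Spec.map _
  rw [← Spec.map_comp, ← Spec.map_comp]
  congr 1
  refine CommRingCat.hom_ext (RingHom.ext fun b => ?_)
  change diagRing C M (algebraMap C _ b) = algebraMap (MonoidAlgebra C (Multiplicative M))
    (MonoidAlgebra (MonoidAlgebra C (Multiplicative M)) (Multiplicative M)) (algebraMap C _ b)
  simp [MonoidAlgebra.coe_algebraMap, diagRing_single]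

theorem chartDiag_comp_chartPoint :
    chartDiag sC ≫ chartPoint sC M =
      chartPoint (chartBaseStr sC M) M *
        ((chartPr (chartBaseStr sC M) M : chartObj (chartBaseStr sC M) M ⟶ chartObj sC M) ≫
          chartPoint sC M) := by
  refine points_ext fun m => ?_
  rw [points_comp, map_mul, MonoidHom.mul_apply, points_comp, points_chartPoint, points_chartPoint]
  erw [points_chartPoint]
  change (Spec.map (CommRingCat.ofHom (diagRing C M))).appTop
      ((Scheme.ΓSpecIso _).inv (MonoidAlgebra.of C _ m)) =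
    (Scheme.ΓSpecIso _).inv (MonoidAlgebra.of (MonoidAlgebra C (Multiplicative M)) _ m) *
      (Spec.map (chartAlg (MonoidAlgebra C (Multiplicative M)) M)).appTop
        ((Scheme.ΓSpecIso _).inv (MonoidAlgebra.of C _ m))
  refine ((ConcreteCategory.congr_hom
    (Scheme.ΓSpecIso_inv_naturality (CommRingCat.ofHom (diagRing C M))) _).symm.trans ?_)
  refine Eq.trans ?_ (congrArg _ (ConcreteCategory.congr_hom
    (Scheme.ΓSpecIso_inv_naturality (chartAlg (MonoidAlgebra C (Multiplicative M)) M)) _))
  rw [CommRingCat.comp_apply, CommRingCat.comp_apply, ← map_mul]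
  congr 1
  change diagRing C M (MonoidAlgebra.single m 1) =
    MonoidAlgebra.single m 1 * algebraMap (MonoidAlgebra C (Multiplicative M))
      (MonoidAlgebra (MonoidAlgebra C (Multiplicative M)) (Multiplicative M)) (MonoidAlgebra.single m 1)
  simp [MonoidAlgebra.coe_algebraMap, diagRing_single, MonoidAlgebra.single_mul_single]

variable {X : Over S} (a : _root_.Magnet.MonAct (_root_.Magnet.AMonS S M) X)

/-- The translate of a point by the universal element. -/
def translate (x : Over.mk sC ⟶ X) : Over.mk (chartBaseStr sC M) ⟶ X :=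
  (chartHom sC M : Over.mk (chartBaseStr sC M) ⟶ _) ≫ (_root_.Magnet.AMonS S M ◁ x) ≫ a.act

theorem chartHom_translate (x : Over.mk sC ⟶ X) :
    chartHom (chartBaseStr sC M) M ≫ (_root_.Magnet.AMonS S M ◁ translate sC a x) ≫ a.act =
      chartDiag sC ≫ chartHom sC M ≫ (_root_.Magnet.AMonS S M ◁ x) ≫ a.act := by
  let q : chartObj (chartBaseStr sC M) M ⟶ chartObj sC M := chartPr (chartBaseStr sC M) M
  let r : Over.mk (chartBaseStr sC M) ⟶ X := translate sC a x
  have hr : r = lift (chartPoint sC M) (chartPr sC M ≫ x) ≫ a.act := by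
    simp only [r, translate, chartHom, lift_whiskerLeft_assoc]
  have h1 : chartPr (chartBaseStr sC M) M ≫ r =
      lift (q ≫ chartPoint sC M) (q ≫ chartPr sC M ≫ x) ≫ a.act := by
    rw [hr, ← comp_lift_assoc]
  rw [chartHom, lift_whiskerLeft_assoc, chartHom, lift_whiskerLeft_assoc, comp_lift_assoc,
    chartDiag_comp_chartPoint, reassoc_of% chartDiag_comp_chartPr]
  change lift _ (chartPr (chartBaseStr sC M) M ≫ r) ≫ a.act = _
  rw [h1, ← _root_.Magnet.MonAct.lift_mul_act]

theorem Extends.translate {Z : Type} [AddCommMonoid Z] {Y : AddSubmonoid Z} {f : M →+ Z}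
    {x : Over.mk sC ⟶ X}
    (h : Extends (_root_.Magnet.AMonS.map S Y.subtype) (a.restrict (_root_.Magnet.AMonS.map S f)) x) :
    Extends (_root_.Magnet.AMonS.map S Y.subtype) (a.restrict (_root_.Magnet.AMonS.map S f))
      (Magnet.translate sC a x) := by
  obtain ⟨φ, hφ⟩ := h
  let W := _root_.Magnet.AMonS S Y
  let T' : Over S := Over.mk (chartBaseStr sC M)
  let p : T' ⟶ _root_.Magnet.AMonS S M := chartPoint sC M
  let pr : T' ⟶ Over.mk sC := chartPr sC M
  have hr : Magnet.translate sC a x = lift p (pr ≫ x) ≫ a.act := by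
    simp only [Magnet.translate, chartHom, lift_whiskerLeft_assoc]
    rfl
  refine ⟨lift (snd W T' ≫ p) ((W ◁ pr) ≫ φ) ≫ a.act, ?_⟩
  apply _root_.Magnet.hom_ext_lift₂
  intro T'' g t
  have e : lift g (t ≫ pr) ≫ (_root_.Magnet.AMonS.map S Y.subtype ▷ Over.mk sC) ≫ φ =
      lift g (t ≫ pr ≫ x) ≫ (a.restrict (_root_.Magnet.AMonS.map S f)).act := by
    rw [hφ, lift_whiskerLeft_assoc, Category.assoc]
  rw [lift_whiskerRight_assoc, comp_lift_assoc, lift_snd_assoc, lift_whiskerLeft_assoc, hr,
    lift_whiskerLeft_assoc, _root_.Magnet.MonAct.lift_restrict_act, comp_lift_assoc]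
  rw [lift_whiskerRight_assoc, _root_.Magnet.MonAct.lift_restrict_act] at e
  rw [e, ← _root_.Magnet.MonAct.lift_mul_act, ← _root_.Magnet.MonAct.lift_mul_act, AMonS_hom_mul_comm]

section Criterion

variable (N : AddSubmonoid M) [IsAffineHom X.hom] {V : S.Opens} (hV : IsAffineOpen V)
  (hs : Set.range sC ⊆ (V : Set S)) (x : Over.mk sC ⟶ X)

include hs in
theorem range_chartObj_subset {N' : Type} [AddCommMonoid N'] (φ : chartObj sC N' ⟶ X) :
    Set.range φ.left ⊆ Set.range (hV.preimage X.hom).fromSpec := by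
  rw [IsAffineOpen.range_fromSpec]
  rintro _ ⟨q, rfl⟩
  change X.hom (φ.left q) ∈ V
  rw [← Scheme.Hom.comp_apply, Over.w φ]
  exact hs ⟨Spec.map (chartAlg C N') q, rfl⟩

include hs in
theorem exists_orbitRing :
    ∃ ω : Γ(X.left, X.hom ⁻¹ᵁ V) ⟶ CommRingCat.of (MonoidAlgebra C (Multiplicative M)),
      Spec.map ω ≫ (hV.preimage X.hom).fromSpec =
        (chartHom sC M ≫ (_root_.Magnet.AMonS S M ◁ x) ≫ a.act).left :=
  ⟨Spec.preimage (IsOpenImmersion.lift _ _ (range_chartObj_subset sC hV hs _)),
    by rw [Spec.map_preimage, IsOpenImmersion.lift_fac]⟩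

include hs in
theorem extends_iff (ω : Γ(X.left, X.hom ⁻¹ᵁ V) ⟶ CommRingCat.of (MonoidAlgebra C (Multiplicative M)))
    (hω : Spec.map ω ≫ (hV.preimage X.hom).fromSpec =
      (chartHom sC M ≫ (_root_.Magnet.AMonS S M ◁ x) ≫ a.act).left) :
    Extends (_root_.Magnet.AMonS.map S N.subtype) a x ↔
      ∀ c m, Multiplicative.toAdd m ∉ N → (ω.hom c).coeff m = 0 := by
  have hW := hV.preimage X.hom
  let R := Γ(X.left, X.hom ⁻¹ᵁ V)
  let σ := X.hom.appLE V (X.hom ⁻¹ᵁ V) le_rfl
  let K := CommRingCat.of (MonoidAlgebra C (Multiplicative M))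
  have hσ : (hV.preimage X.hom).fromSpec ≫ X.hom = Spec.map σ ≫ hV.fromSpec :=
    (IsAffineOpen.SpecMap_appLE_fromSpec X.hom hV hW le_rfl).symm
  let Ω : chartObj sC M ⟶ X := chartHom sC M ≫ (_root_.Magnet.AMonS S M ◁ x) ≫ a.act
  have hiff : (∃ θ : R →+* MonoidAlgebra C (Multiplicative N),
      (MonoidAlgebra.mapDomainRingHom C (AddMonoidHom.toMultiplicative N.subtype)).comp θ = ω.hom) ↔
      ∀ c m, Multiplicative.toAdd m ∉ N → (ω.hom c).coeff m = 0 := by
    have hid : (MonoidAlgebra.mapRingHom (Multiplicative M) (RingHom.id C)).comp ω.hom = ω.hom :=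
      RingHom.ext fun c => MonoidAlgebra.ext (Finsupp.ext fun m => by simp [MonoidAlgebra.coeff_mapRingHom])
    have := exists_factor_iff N ω.hom (RingHom.id C)
    rw [hid] at this
    rw [this, Ideal.span_le]
    exact ⟨fun h c m hm => h ⟨c, m, hm, rfl⟩, fun h y ⟨c, m, hm, e⟩ => e ▸ h c m hm⟩
  rw [← hiff]
  have := isIso_chartHom sC N
  have := isIso_chartHom sC M
  constructor
  · rintro ⟨φ, hφ⟩
    let φ' : chartObj sC N ⟶ X := chartHom sC N ≫ φ
    have hl : chartMap sC N.subtype ≫ φ' = Ω := by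
      simp only [Ω, φ']
      rw [← hφ, reassoc_of% chartMap_comp_chartHom sC N.subtype]
    obtain ⟨θ, hθ⟩ : ∃ θ : R ⟶ CommRingCat.of (MonoidAlgebra C (Multiplicative N)),
        Spec.map θ ≫ (hV.preimage X.hom).fromSpec = φ'.left :=
      ⟨Spec.preimage (IsOpenImmersion.lift _ _ (range_chartObj_subset sC hV hs φ')),
        by rw [Spec.map_preimage, IsOpenImmersion.lift_fac]⟩
    refine ⟨θ.hom, congrArg CommRingCat.Hom.hom (Spec.map_injective ?_ :
      θ ≫ chartMapRing N.subtype C = ω)⟩
    rw [← cancel_mono (hV.preimage X.hom).fromSpec, Spec.map_comp, Category.assoc, hθ, hω]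
    exact congrArg CommaMorphism.left hl
  · rintro ⟨θ, hθ⟩
    let θ' : R ⟶ CommRingCat.of (MonoidAlgebra C (Multiplicative N)) := CommRingCat.ofHom θ
    have hθ' : θ' ≫ chartMapRing N.subtype C = ω := CommRingCat.hom_ext hθ
    have hinj : Mono (chartMapRing N.subtype C) := ConcreteCategory.mono_of_injective _
      (MonoidAlgebra.mapDomain_injective (f := ⇑(AddMonoidHom.toMultiplicative N.subtype))
        fun a b e => Subtype.ext e)
    obtain ⟨ψ, hψ⟩ : ∃ ψ : Γ(S, V) ⟶ C, Spec.map ψ ≫ hV.fromSpec = sC :=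
      ⟨Spec.preimage (IsOpenImmersion.lift hV.fromSpec sC (by rwa [IsAffineOpen.range_fromSpec])),
        by rw [Spec.map_preimage, IsOpenImmersion.lift_fac]⟩
    have hw : σ ≫ θ' = ψ ≫ chartAlg C N := by
      have h1 : σ ≫ ω = ψ ≫ chartAlg C M := by
        refine Spec.map_injective ?_
        rw [← cancel_mono hV.fromSpec, Spec.map_comp, Category.assoc, ← hσ, ← Category.assoc, hω,
          Spec.map_comp, Category.assoc, hψ]
        exact Over.w Ω
      rw [← cancel_mono (chartMapRing N.subtype C), Category.assoc, hθ', h1, Category.assoc,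
        chartAlg_comp_chartMapRing]
    let φ' : chartObj sC N ⟶ X := Over.homMk (Spec.map θ' ≫ (hV.preimage X.hom).fromSpec) (by
      change _ = Spec.map (chartAlg C N) ≫ sC
      rw [Category.assoc, hσ, ← Spec.map_comp_assoc, hw, Spec.map_comp_assoc, hψ])
    have hl : chartMap sC N.subtype ≫ φ' = Ω := by
      apply Over.OverMorphism.ext
      simp only [Ω]
      rw [← hω, ← hθ', Spec.map_comp, Category.assoc]
      rfl
    refine ⟨inv (chartHom sC N) ≫ φ', ?_⟩
    rw [← cancel_epi (chartHom sC M), ← reassoc_of% chartMap_comp_chartHom sC N.subtype,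
      IsIso.hom_inv_id_assoc, hl]

end Criterion

theorem coeff_mapDomain_diagRing {Z : Type} [AddCommMonoid Z] (f : M →+ Z)
    (w : MonoidAlgebra C (Multiplicative M)) (m : Multiplicative M) :
    ((MonoidAlgebra.mapDomainRingHom (MonoidAlgebra C (Multiplicative M))
      (AddMonoidHom.toMultiplicative f) (diagRing C M w)).coeff
        (AddMonoidHom.toMultiplicative f m)).coeff m = w.coeff m := by
  induction w using MonoidAlgebra.induction_linear with
  | zero => simp
  | add a b ha hb => rw [map_add, map_add]; simp only [MonoidAlgebra.coeff_add, Finsupp.add_apply, ha, hb]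
  | single n r =>
    rw [diagRing_single, show MonoidAlgebra.mapDomainRingHom (MonoidAlgebra C (Multiplicative M))
      (AddMonoidHom.toMultiplicative f) (MonoidAlgebra.single n (MonoidAlgebra.single n r)) =
      MonoidAlgebra.single (AddMonoidHom.toMultiplicative f n) (MonoidAlgebra.single n r) from
        MonoidAlgebra.mapDomain_single]
    rcases eq_or_ne m n with rfl | h
    · simp
    · rcases eq_or_ne (AddMonoidHom.toMultiplicative f m) (AddMonoidHom.toMultiplicative f n) with e | e
      · simp [e, h]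
      · rw [MonoidAlgebra.coeff_single, Finsupp.single_eq_of_ne e]
        simp [h]

theorem extends_comap_affine [IsAffineHom X.hom] {Z : Type} [AddCommMonoid Z] (f : M →+ Z)
    (Y : AddSubmonoid Z) {V : S.Opens} (hV : IsAffineOpen V) (hs : Set.range sC ⊆ (V : Set S))
    (x : Over.mk sC ⟶ X)
    (h : Extends (_root_.Magnet.AMonS.map S Y.subtype) (a.restrict (_root_.Magnet.AMonS.map S f)) x) :
    Extends (_root_.Magnet.AMonS.map S (Y.comap f).subtype) a x := by
  have hs' : Set.range (chartBaseStr sC M) ⊆ (V : Set S) := by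
    rintro _ ⟨q, rfl⟩
    exact hs ⟨Spec.map (chartAlg C M) q, rfl⟩
  obtain ⟨ω, hω⟩ := exists_orbitRing sC a hV hs x
  rw [extends_iff sC a (Y.comap f) hV hs x ω hω]
  let ω' : Γ(X.left, X.hom ⁻¹ᵁ V) ⟶ CommRingCat.of
      (MonoidAlgebra (MonoidAlgebra C (Multiplicative M)) (Multiplicative Z)) :=
    ω ≫ CommRingCat.ofHom (diagRing C M) ≫ chartMapRing f (MonoidAlgebra C (Multiplicative M))
  have hω' : Spec.map ω' ≫ (hV.preimage X.hom).fromSpec =
      (chartHom (chartBaseStr sC M) Z ≫ (_root_.Magnet.AMonS S Z ◁ translate sC a x) ≫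
        (a.restrict (_root_.Magnet.AMonS.map S f)).act).left := by
    rw [_root_.Magnet.MonAct.restrict_act, whisker_exchange_assoc,
      ← reassoc_of% chartMap_comp_chartHom (chartBaseStr sC M) f, chartHom_translate,
      Spec.map_comp, Spec.map_comp, Category.assoc, Category.assoc, hω]
    rfl
  have h' := (extends_iff (C := CommRingCat.of _) (chartBaseStr sC M)
    (a.restrict (_root_.Magnet.AMonS.map S f)) Y hV hs' (translate sC a x) ω' hω').1
    (Extends.translate sC a h)
  intro c m hm
  have h0 := h' c (AddMonoidHom.toMultiplicative f m) hm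
  rw [← coeff_mapDomain_diagRing f (ω.hom c) m]
  exact Eq.trans (congrArg (fun y : MonoidAlgebra C (Multiplicative M) => y.coeff m) h0) (by rfl)

/-- For a scheme affine over the base, change of monoid is an isomorphism of attractors. -/
theorem isIso_attrComap_of_isAffineHom [IsAffineHom X.hom] {Z : Type} [AddCommMonoid Z] (f : M →+ Z)
    (Y : AddSubmonoid Z) : IsIso (_root_.Magnet.attrComap a f Y) := by
  let c : (Y.comap f) →+ Y := (f.comp (Y.comap f).subtype).codRestrict Y fun x => x.2
  have heval : ∀ (T : Over S) (φ : (_root_.Magnet.attr a (Y.comap f)).obj (op T)),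
      lift (toUnit T ≫ η[_root_.Magnet.AMonS S Y]) (𝟙 T) ≫
          ((_root_.Magnet.attrComap a f Y).app (op T) φ).1 =
        lift (toUnit T ≫ η[_root_.Magnet.AMonS S (Y.comap f)]) (𝟙 T) ≫ φ.1 := by
    intro T φ
    rw [_root_.Magnet.attrComap_app_coe, lift_whiskerRight_assoc, Category.assoc,
      IsMonHom.one_hom]
  have hextM : ∀ (T : Over S) (u v : _root_.Magnet.AMonS S (Y.comap f) ⊗ T ⟶ X),
      (_root_.Magnet.AMonS.map S (Y.comap f).subtype ▷ T) ≫ u =
        (_root_.Magnet.AMonS.map S (Y.comap f).subtype ▷ T) ≫ v → u = v :=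
    fun T u v h => eq_of_map_whiskerRight_eq _ Subtype.val_injective u v h
  refine (NatTrans.isIso_iff_isIso_app _).2 fun T => (isIso_iff_bijective _).2 ⟨?_, ?_⟩
  · intro φ ψ e
    refine eqvHom_ext hextM φ ψ ?_
    rw [← heval (unop T) φ, e, heval (unop T) ψ]
  · intro φ'
    let x : unop T ⟶ X :=
      lift (toUnit (unop T) ≫ η[_root_.Magnet.AMonS S Y]) (𝟙 (unop T)) ≫ φ'.1
    have hx : Extends (_root_.Magnet.AMonS.map S Y.subtype) (a.restrict (_root_.Magnet.AMonS.map S f)) x :=
      ⟨φ'.1, orbit_of_mem φ'⟩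
    let ι' := {U : (unop T).left.affineOpens //
      ∃ V : S.affineOpens, (U.1 : Set (unop T).left) ⊆ (unop T).hom ⁻¹' V.1}
    let 𝒱 : Scheme.OpenCover.{u, u} (unop T).left :=
      { I₀ := ι'
        X := fun U => Spec Γ((unop T).left, U.1.1)
        f := fun U => U.1.2.fromSpec
        mem₀ := by
          rw [Scheme.presieve₀_mem_precoverage_iff]
          refine ⟨fun t => ?_, fun U => inferInstance⟩
          obtain ⟨_, ⟨V, hV, rfl⟩, htV, -⟩ := S.isBasis_affineOpens.exists_subset_of_mem_open
            (Set.mem_univ ((unop T).hom t)) isOpen_univ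
          obtain ⟨_, ⟨U, hU, rfl⟩, htU, hUV⟩ := (unop T).left.isBasis_affineOpens.exists_subset_of_mem_open
            (show t ∈ ((unop T).hom ⁻¹ᵁ V : Set (unop T).left) from htV) ((unop T).hom ⁻¹ᵁ V).2
          exact ⟨⟨⟨U, hU⟩, ⟨V, hV⟩, hUV⟩, (hU.range_fromSpec ▸ htU : t ∈ Set.range hU.fromSpec)⟩ }
    have hext' : Extends (_root_.Magnet.AMonS.map S (Y.comap f).subtype) a x := by
      refine Extends.of_cover hextM 𝒱 fun U => ?_
      obtain ⟨V, hUV⟩ := U.2
      refine extends_comap_affine (U.1.2.fromSpec ≫ (unop T).hom) a f Y V.2 ?_ _ (hx.comp _)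
      rintro _ ⟨q, rfl⟩
      exact hUV (show U.1.2.fromSpec q ∈ (U.1.1 : Set (unop T).left) from
        U.1.2.range_fromSpec ▸ Set.mem_range_self q)
    obtain ⟨ψ, hψ⟩ := hext'
    let ψ' : (_root_.Magnet.attr a (Y.comap f)).obj (op (unop T)) :=
      ⟨ψ, isEquivariant_of_orbit hextM x ψ hψ⟩
    refine ⟨ψ', eqvHom_ext (inc := _root_.Magnet.AMonS.map S Y.subtype)
      (fun T u v h => eq_of_map_whiskerRight_eq _ Subtype.val_injective u v h) _ φ' ?_⟩
    refine (heval (unop T) ψ').trans ?_
    exact eval_eq_of_orbit x ψ hψ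

end Groth.Agent.Magnet
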