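import Groth.Prelude.Def_Magnet3
import Groth.Prelude.Def_ActBC

/-!
# Equivariant maps and iterated base change
-/

set_option autoImplicit false
set_option backward.isDefEq.respectTransparency false
set_option backward.isDefEq.respectTransparency.types false

universe u

open CategoryTheory CategoryTheory.Limits MonoidalCategory CartesianMonoidalCategory AlgebraicGeometry Opposite
open scoped MonObj

noncomputable section

namespace Groth.Agent.Magnet

variable {S S' S'' : Scheme.{u}} (f : S'' ⟶ S') (g : S' ⟶ S) {A B X : Over S} [MonObj A]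

theorem bc_bc_act_comp (a : _root_.Magnet.MonAct A X) :
    ((a.bc g).bc f).act ≫ (ActBC.bcCompIso f g X rfl).hom =
      ((ActBC.bcCompIso f g A rfl).hom ⊗ₘ (ActBC.bcCompIso f g X rfl).hom) ≫ (a.bc (f ≫ g)).act := by
  ext
  apply pullback.hom_ext
  · simp only [_root_.Magnet.MonAct.bc_act, Over.comp_left, Category.assoc,
      ActBC.bcCompIso_hom_left_fst, ActBC.pullback_map_left_fst, ActBC.pullback_map_left_fst_assoc]
    simp only [← Category.assoc]
    congr 1
    simp only [Category.assoc]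
    apply pullback.hom_ext
    · simp only [Category.assoc]
      rw [ActBC.μ_left_fst_fst, ActBC.μ_left_fst_fst_assoc, ActBC.μ_left_fst_fst,
        ActBC.tensorHom_left_fst'_assoc, ActBC.bcCompIso_hom_left_fst]
    · simp only [Category.assoc]
      rw [ActBC.μ_left_fst_snd, ActBC.μ_left_fst_snd_assoc, ActBC.μ_left_fst_snd,
        ActBC.tensorHom_left_snd'_assoc, ActBC.bcCompIso_hom_left_fst]
  · exact (Over.w _).trans (Over.w _).symm

theorem isEquivariant_bcComp_iff (ρ : _root_.Magnet.MonAct A B) (a : _root_.Magnet.MonAct A X)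
    (ψ : Red.bc f (Red.bc g B) ⟶ Red.bc f (Red.bc g X)) (χ : Red.bc (f ≫ g) B ⟶ Red.bc (f ≫ g) X)
    (h : ψ ≫ (ActBC.bcCompIso f g X rfl).hom = (ActBC.bcCompIso f g B rfl).hom ≫ χ) :
    _root_.Magnet.MonAct.IsEquivariant ((ρ.bc g).bc f) ((a.bc g).bc f) ψ ↔
      _root_.Magnet.MonAct.IsEquivariant (ρ.bc (f ≫ g)) (a.bc (f ≫ g)) χ := by
  unfold _root_.Magnet.MonAct.IsEquivariant
  have hψ : (Red.bc f (Red.bc g A) ◁ ψ) ≫
      ((ActBC.bcCompIso f g A rfl).hom ⊗ₘ (ActBC.bcCompIso f g X rfl).hom) =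
      ((ActBC.bcCompIso f g A rfl).hom ⊗ₘ (ActBC.bcCompIso f g B rfl).hom) ≫ (Red.bc (f ≫ g) A ◁ χ) := by
    rw [← id_tensorHom, ← id_tensorHom, tensorHom_comp_tensorHom, tensorHom_comp_tensorHom, h,
      Category.id_comp, Category.comp_id]
  constructor
  · intro e
    have e' := e =≫ (ActBC.bcCompIso f g X rfl).hom
    rw [Category.assoc, h, ← Category.assoc, bc_bc_act_comp, Category.assoc, Category.assoc,
      bc_bc_act_comp, reassoc_of% hψ] at e'
    exact (cancel_epi _).1 e'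
  · intro e
    rw [← cancel_mono (ActBC.bcCompIso f g X rfl).hom, Category.assoc, h, ← Category.assoc,
      bc_bc_act_comp, Category.assoc, Category.assoc, bc_bc_act_comp, reassoc_of% hψ, e]

theorem exists_attr_equiv_bc {T : Over S} (T'' : Over T.left) (ρ : _root_.Magnet.MonAct A B)
    (a : _root_.Magnet.MonAct A X) :
    ∃ Φ : (_root_.Magnet.MonAct.eqvHom ρ a).obj (op ((Over.map T.hom).obj T'')) ≃
        (_root_.Magnet.MonAct.eqvHom (ρ.bc T.hom) (a.bc T.hom)).obj (op T''),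
      ∀ φ, (_root_.Magnet.eqvHomEquivBc T'' (ρ.bc T.hom) (a.bc T.hom) (Φ φ)).1 ≫
          (ActBC.bcCompIso T''.hom T.hom X rfl).hom =
        (ActBC.bcCompIso T''.hom T.hom B rfl).hom ≫
          (_root_.Magnet.eqvHomEquivBc ((Over.map T.hom).obj T'') ρ a φ).1 := by
  let e : {χ : Red.bc (T''.hom ≫ T.hom) B ⟶ Red.bc (T''.hom ≫ T.hom) X //
        _root_.Magnet.MonAct.IsEquivariant (ρ.bc (T''.hom ≫ T.hom)) (a.bc (T''.hom ≫ T.hom)) χ} ≃
      {ψ : Red.bc T''.hom (Red.bc T.hom B) ⟶ Red.bc T''.hom (Red.bc T.hom X) //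
        _root_.Magnet.MonAct.IsEquivariant ((ρ.bc T.hom).bc T''.hom) ((a.bc T.hom).bc T''.hom) ψ} :=
    ((ActBC.bcCompIso T''.hom T.hom B rfl).homCongr (ActBC.bcCompIso T''.hom T.hom X rfl)).symm.subtypeEquiv
      fun χ => ((isEquivariant_bcComp_iff T''.hom T.hom ρ a _ χ (by simp [Iso.homCongr])).symm)
  refine ⟨(_root_.Magnet.eqvHomEquivBc ((Over.map T.hom).obj T'') ρ a).trans
    (e.trans (_root_.Magnet.eqvHomEquivBc T'' (ρ.bc T.hom) (a.bc T.hom)).symm), fun φ => ?_⟩
  rw [Equiv.trans_apply, Equiv.trans_apply, Equiv.apply_symm_apply]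
  change (((ActBC.bcCompIso T''.hom T.hom B rfl).homCongr (ActBC.bcCompIso T''.hom T.hom X rfl)).symm _) ≫ _ = _
  simp [Iso.homCongr]

end Groth.Agent.Magnet
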