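import Groth.Agent.Magnet.MonActBasic
import Groth.Agent.NeronLib.SchDom
import Groth.Prelude.Def_Magnet2

/-!
# Actions on closed subschemes extend along schematically dense submonoids
-/

set_option autoImplicit false
set_option backward.isDefEq.respectTransparency false

universe u

open CategoryTheory CategoryTheory.Limits MonoidalCategory CartesianMonoidalCategory AlgebraicGeometry Opposite
open scoped MonObj

noncomputable section

namespace Groth.Agent.Magnet

open _root_.Magnet.MonAct

theorem flat_to_Spec_field {k : Type u} [Field k] {X : Scheme.{u}} (f : X ⟶ Spec (CommRingCat.of k)) :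
    Flat f := by
  rw [HasRingHomProperty.iff_appLE (P := @Flat)]
  intro U V e
  have hU : U.1 = ⊥ ∨ U.1 = ⊤ := by
    rcases em (∃ x, x ∈ U.1) with ⟨x, hx⟩ | h
    · exact Or.inr (top_le_iff.1 fun y _ => (Subsingleton.elim x y) ▸ hx)
    · exact Or.inl (le_bot_iff.1 fun y hy => (h ⟨y, hy⟩).elim)
  rcases hU with h | h
  · have : Subsingleton Γ(X, V.1) := by
      have : V.1 = ⊥ := le_bot_iff.1 (e.trans (by rw [h]; exact le_rfl))
      rw [this]
      exact CommRingCat.subsingleton_of_isTerminal X.sheaf.isTerminalOfEmpty
    letI := (f.appLE U.1 V.1 e).hom.toAlgebra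
    exact Module.Flat.of_free
  · have hfld : IsField Γ(Spec (CommRingCat.of k), U.1) := by
      rw [h]
      exact (Scheme.ΓSpecIso (CommRingCat.of k)).commRingCatIsoToRingEquiv.toMulEquiv.isField
        (Field.toIsField k)
    letI := hfld.toField
    letI := (f.appLE U.1 V.1 e).hom.toAlgebra
    exact Module.Flat.of_free

theorem exists_monAct_extend {k : Type u} [Field k]
    {M G X Z : Over (Spec (CommRingCat.of k))} [MonObj M] [GrpObj G]
    (i : G ⟶ M) [IsMonHom i] [QuasiCompact i.left] [IsSchemeTheoreticallyDominant i.left]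
    (a : _root_.Magnet.MonAct M X) (b : AlgGrp.Action G Z) (j : Z ⟶ X) [IsClosedImmersion j.left]
    (hj : IsEquivariant (ofAction b) (a.restrict i) j) :
    ∃ c : _root_.Magnet.MonAct M Z, IsEquivariant c a j ∧ c.restrict i = ofAction b := by
  let q : M ⊗ Z ⟶ X := (M ◁ j) ≫ a.act
  have hb : b.act ≫ j = (i ▷ Z) ≫ q := by
    have h := hj
    unfold IsEquivariant at h
    rw [restrict_act, whisker_exchange_assoc] at h
    exact h
  let e := pullback.snd j.left q.left
  have he : IsClosedImmersion e := MorphismProperty.pullback_snd _ _ ‹_›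
  have hdom : IsSchemeTheoreticallyDominant (i ▷ Z).left := by
    have hfl : Flat (fst M Z).left := by
      have := flat_to_Spec_field Z.hom
      exact MorphismProperty.pullback_fst _ _ this
    have hpb : IsPullback (fst G Z).left (i ▷ Z).left i.left (fst M Z).left := by
      have : IsPullback (fst G Z) (i ▷ Z) i (fst M Z) :=
        IsPullback.of_isLimit' ⟨(whiskerRight_fst _ _).symm⟩ (PullbackCone.IsLimit.mk _
          (fun s => lift s.fst (s.snd ≫ snd M Z)) (fun s => lift_fst _ _)
          (fun s => by
            apply CartesianMonoidalCategory.hom_ext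
            · rw [Category.assoc, whiskerRight_fst, lift_fst_assoc, s.condition]
            · rw [Category.assoc, whiskerRight_snd, lift_snd])
          (fun s m h₁ h₂ => by
            apply CartesianMonoidalCategory.hom_ext
            · rw [lift_fst, h₁]
            · rw [lift_snd, ← h₂, Category.assoc, whiskerRight_snd]))
      exact this.map (Over.forget _)
    exact IsSchemeTheoreticallyDominant.of_isPullback hpb
  have hiso : IsIso e := by
    rw [IsClosedImmersion.isIso_iff_ker_eq_bot, ← le_bot_iff, ← (i ▷ Z).left.ker_eq_bot,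
      ← show pullback.lift b.act.left (i ▷ Z).left (congrArg CommaMorphism.left hb) ≫ e = (i ▷ Z).left
        from pullback.lift_snd _ _ _]
    exact Scheme.Hom.le_ker_comp _ _
  let act : M ⊗ Z ⟶ Z := Over.homMk (inv e ≫ pullback.fst j.left q.left) (by
    rw [Category.assoc, IsIso.inv_comp_eq, ← Over.w j, pullback.condition_assoc, Over.w q])
  have hact : act ≫ j = q := by
    apply Over.OverMorphism.ext
    change (inv e ≫ pullback.fst j.left q.left) ≫ j.left = q.left
    rw [Category.assoc, pullback.condition, IsIso.inv_hom_id_assoc]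
  have : Mono j := Over.mono_of_mono_left j
  have hq : ∀ (T : Over (Spec (CommRingCat.of k))) (m : T ⟶ M) (z : T ⟶ Z),
      (lift m z ≫ act) ≫ j = lift m (z ≫ j) ≫ a.act := by
    intro T m z
    rw [Category.assoc, hact, lift_whiskerLeft_assoc]
  let c : _root_.Magnet.MonAct M Z := mk' act
    (fun T z => by rw [← cancel_mono j, hq, lift_one_act])
    (fun T g h z => by rw [← cancel_mono j, hq, hq, lift_mul_act, hq])
  refine ⟨c, ?_, ext' ?_⟩
  · rw [isEquivariant_iff]
    intro T m z
    exact (Category.assoc _ _ _).symm.trans (hq T m z)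
  · change (i ▷ Z) ≫ act = b.act
    rw [← cancel_mono j, Category.assoc, hact, hb]

end Groth.Agent.Magnet
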