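import Groth.Agent.Magnet.Extend
import Groth.Agent.Magnet.Chart
import Groth.Agent.Magnet.ExtendAct
import Mathlib.AlgebraicGeometry.Morphisms.ClosedImmersion

/-!
# Equivariant families in closed stable subschemes
-/

set_option autoImplicit false
set_option backward.isDefEq.respectTransparency false
set_option backward.isDefEq.respectTransparency.types false

universe u

open CategoryTheory CategoryTheory.Limits MonoidalCategory CartesianMonoidalCategory AlgebraicGeometry Opposite
open scoped MonObj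

attribute [-instance] Red.grpObj_bc AlgebraicGeometry.instGrpObjSpecAsOverSpec
  AlgebraicGeometry.instCommGrpObjSpecAsOverSpec

noncomputable section

namespace Groth.Agent.Magnet

open _root_.Magnet.MonAct

theorem exists_lift_of_schemeTheoreticallyDominant {W X Y Z : Scheme.{u}} (f : Z ⟶ Y)
    [IsClosedImmersion f] (g : X ⟶ Y) (d : W ⟶ X) [IsSchemeTheoreticallyDominant d] (h : W ⟶ Z)
    (w : h ≫ f = d ≫ g) : ∃ l : X ⟶ Z, l ≫ f = g := by
  let e := pullback.snd f g
  have he : IsClosedImmersion e := MorphismProperty.pullback_snd _ _ ‹_›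
  have : IsIso e := by
    rw [IsClosedImmersion.isIso_iff_ker_eq_bot, ← le_bot_iff, ← d.ker_eq_bot,
      ← show pullback.lift h d w ≫ e = d from pullback.lift_snd _ _ _]
    exact Scheme.Hom.le_ker_comp _ _
  exact ⟨inv e ≫ pullback.fst f g, by rw [Category.assoc, pullback.condition, IsIso.inv_hom_id_assoc]⟩

variable {S : Scheme.{u}}

theorem isPullback_postcomp_evalAt_of_isClosedImmersion {A B X Z : Over S} [MonObj A] [MonObj B]
    (inc : A ⟶ B) [IsMonHom inc] (aX : _root_.Magnet.MonAct A X) (aZ : _root_.Magnet.MonAct A Z)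
    (j : Z ⟶ X) [IsClosedImmersion j.left] (hj : IsEquivariant aZ aX j)
    (hlift : ∀ (T : Over S) (φ : B ⊗ T ⟶ X) (q : A ⊗ T ⟶ Z), q ≫ j = (inc ▷ T) ≫ φ →
      ∃ ψ : B ⊗ T ⟶ Z, ψ ≫ j = φ) :
    IsPullback (eqvHom.postcomp ((regular B).restrict inc) j hj)
      (eqvHom.evalAt ((regular B).restrict inc) aZ η[B])
      (eqvHom.evalAt ((regular B).restrict inc) aX η[B]) (yoneda.map j) := by
  have : Mono j := Over.mono_of_mono_left j
  refine IsPullback.of_forall_isPullback_app fun T => (Types.isPullback_iff _ _ _ _).2 ⟨?_, ?_, ?_⟩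
  · ext φ
    exact (Category.assoc _ _ _).symm
  · rintro φ ψ ⟨h₁, -⟩
    exact Subtype.ext ((cancel_mono j).1 (congrArg Subtype.val h₁))
  · intro φ z h
    have h : lift (toUnit (unop T) ≫ η[B]) (𝟙 (unop T)) ≫ φ.1 = z ≫ j := h
    have hj' : aZ.act ≫ j = (A ◁ j) ≫ aX.act := hj
    have horb : ((A ◁ z) ≫ aZ.act) ≫ j = (inc ▷ unop T) ≫ φ.1 := by
      rw [Category.assoc, hj', orbit_of_mem φ, h, whiskerLeft_comp_assoc]
    obtain ⟨ψ, hψ⟩ := hlift _ φ.1 _ horb
    refine ⟨⟨ψ, ?_⟩, Subtype.ext hψ, ?_⟩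
    · have e₁ := φ.2
      unfold IsEquivariant at e₁ ⊢
      rw [← cancel_mono j, Category.assoc, hψ, e₁, Category.assoc, hj', ← whiskerLeft_comp_assoc, hψ]
    · change lift (toUnit (unop T) ≫ η[B]) (𝟙 (unop T)) ≫ ψ = z
      rw [← cancel_mono j, Category.assoc, hψ, h]

theorem exists_lift_of_map_whiskerRight {N M : Type} [AddCommMonoid N] [AddCommMonoid M] (f : N →+ M)
    (hf : Function.Injective f) {T X Z : Over S} (j : Z ⟶ X) [IsClosedImmersion j.left]
    (φ : _root_.Magnet.AMonS S N ⊗ T ⟶ X) (q : _root_.Magnet.AMonS S M ⊗ T ⟶ Z)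
    (hq : q ≫ j = (_root_.Magnet.AMonS.map S f ▷ T) ≫ φ) :
    ∃ ψ : _root_.Magnet.AMonS S N ⊗ T ⟶ Z, ψ ≫ j = φ := by
  let A := _root_.Magnet.AMonS S N
  let O : T.left.affineOpens → (A ⊗ T).left.Opens := fun U => (snd A T).left ⁻¹ᵁ U.1
  have hO : iSup O = ⊤ := by
    refine top_le_iff.1 fun x _ => TopologicalSpace.Opens.mem_iSup.2 ?_
    obtain ⟨_, ⟨U, hU, rfl⟩, hxU, -⟩ := T.left.isBasis_affineOpens.exists_subset_of_mem_open
      (Set.mem_univ ((snd A T).left x)) isOpen_univ
    exact ⟨⟨U, hU⟩, hxU⟩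
  let 𝒰 := (A ⊗ T).left.openCoverOfIsOpenCover O hO
  have hloc : ∀ U, ∃ l : (𝒰.X U) ⟶ Z.left, l ≫ j.left = 𝒰.f U ≫ φ.left := by
    intro U
    let sB := U.2.fromSpec ≫ T.hom
    let k : Over.mk sB ⟶ T := Over.homMk U.2.fromSpec rfl
    have := isIso_chartHom sB N
    have := isSchemeTheoreticallyDominant_chartMap sB f hf
    have hB : (chartHom sB M ≫ (_root_.Magnet.AMonS S M ◁ k) ≫ q) ≫ j =
        chartMap sB f ≫ chartHom sB N ≫ (A ◁ k) ≫ φ := by
      rw [Category.assoc, Category.assoc, hq, whisker_exchange_assoc,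
        ← reassoc_of% chartMap_comp_chartHom sB f]
    obtain ⟨l, hl⟩ := exists_lift_of_schemeTheoreticallyDominant j.left
      (chartHom sB N ≫ (A ◁ k) ≫ φ).left (chartMap sB f).left _ (congrArg CommaMorphism.left hB)
    let s : Over.mk ((O U).ι ≫ (A ⊗ T).hom) ⟶ A ⊗ T := Over.homMk (O U).ι rfl
    let m : Over.mk ((O U).ι ≫ (A ⊗ T).hom) ⟶ Over.mk sB :=
      Over.homMk (IsOpenImmersion.lift U.2.fromSpec ((O U).ι ≫ (snd A T).left) (by
        erw [IsAffineOpen.range_fromSpec]
        rintro _ ⟨x, rfl⟩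
        exact x.2)) (by
        change IsOpenImmersion.lift _ _ _ ≫ U.2.fromSpec ≫ T.hom = _
        rw [IsOpenImmersion.lift_fac_assoc, Category.assoc, Over.w (snd A T)]
        rfl)
    have hm : m ≫ k = s ≫ snd A T := Over.OverMorphism.ext (IsOpenImmersion.lift_fac _ _ _)
    have hs : s = (lift (s ≫ fst A T) m ≫ inv (chartHom sB N)) ≫ chartHom sB N ≫ (A ◁ k) := by
      rw [Category.assoc, IsIso.inv_hom_id_assoc, lift_whiskerLeft]
      apply CartesianMonoidalCategory.hom_ext <;> simp [hm]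
    refine ⟨(lift (s ≫ fst A T) m ≫ inv (chartHom sB N)).left ≫ l, ?_⟩
    rw [Category.assoc, hl, ← Over.comp_left]
    change _ = (s ≫ φ).left
    congr 1
    conv_rhs => rw [hs]
    simp only [Category.assoc]
  choose l hl using hloc
  obtain ⟨g, hg⟩ : ∃ g : (A ⊗ T).left ⟶ Z.left, g ≫ j.left = φ.left := ⟨Scheme.Cover.glueMorphisms 𝒰 l (fun U V => by
      rw [← cancel_mono j.left, Category.assoc, Category.assoc, hl, hl, pullback.condition_assoc]),
    Scheme.Cover.hom_ext 𝒰 _ _ fun U => by rw [Scheme.Cover.ι_glueMorphisms_assoc, hl]⟩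
  exact ⟨Over.homMk g (by rw [← Over.w j, reassoc_of% hg, Over.w φ]), Over.OverMorphism.ext hg⟩

theorem isPullback_attr_of_isClosedImmersion {M : Type} [AddCommMonoid M] (N : AddSubmonoid M)
    {Y Z : Over S} (aY : _root_.Magnet.MonAct (_root_.Magnet.AMonS S M) Y)
    (aZ : _root_.Magnet.MonAct (_root_.Magnet.AMonS S M) Z) (f : Z ⟶ Y) [IsClosedImmersion f.left]
    (hf : IsEquivariant aZ aY f) :
    IsPullback (eqvHom.postcomp (_root_.Magnet.subAct S M N) f hf) (_root_.Magnet.attrToX aZ N)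
      (_root_.Magnet.attrToX aY N) (yoneda.map f) :=
  isPullback_postcomp_evalAt_of_isClosedImmersion (_root_.Magnet.AMonS.map S N.subtype) aY aZ f hf
    (fun _ φ q h => exists_lift_of_map_whiskerRight N.subtype Subtype.val_injective f φ q h)

theorem isSchemeTheoreticallyDominant_whiskerRight {k : Type u} [Field k]
    {M G : Over (Spec (CommRingCat.of k))} (i : G ⟶ M) [QuasiCompact i.left]
    [IsSchemeTheoreticallyDominant i.left] (Z : Over (Spec (CommRingCat.of k))) :
    IsSchemeTheoreticallyDominant (i ▷ Z).left := by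
  have hfl : Flat (fst M Z).left := by
    have := flat_to_Spec_field Z.hom
    exact MorphismProperty.pullback_fst _ _ this
  have hpb : IsPullback (fst G Z).left (i ▷ Z).left i.left (fst M Z).left := by
    have : IsPullback (fst G Z) (i ▷ Z) i (fst M Z) :=
      IsPullback.of_isLimit' ⟨(whiskerRight_fst _ _).symm⟩ (PullbackCone.IsLimit.mk _
        (fun s => lift s.fst (s.snd ≫ snd M Z)) (fun s => lift_fst _ _)
        (fun s => by
          apply CartesianMonoidalCategory.hom_ext
          · rw [Category.assoc, whiskerRight_fst, lift_fst_assoc, s.condition]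
          · rw [Category.assoc, whiskerRight_snd, lift_snd])
        (fun s m h₁ h₂ => by
          apply CartesianMonoidalCategory.hom_ext
          · rw [lift_fst, h₁]
          · rw [lift_snd, ← h₂, Category.assoc, whiskerRight_snd]))
    exact this.map (Over.forget _)
  exact IsSchemeTheoreticallyDominant.of_isPullback hpb

theorem isPullback_field_of_isClosedImmersion {k : Type u} [Field k]
    {M G X Z : Over (Spec (CommRingCat.of k))} [MonObj M] [MonObj G] (i : G ⟶ M) [IsMonHom i]
    [QuasiCompact i.left] [IsSchemeTheoreticallyDominant i.left]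
    (aX : _root_.Magnet.MonAct G X) (aZ : _root_.Magnet.MonAct G Z) (j : Z ⟶ X)
    [IsClosedImmersion j.left] (hj : IsEquivariant aZ aX j) :
    IsPullback (eqvHom.postcomp ((regular M).restrict i) j hj)
      (eqvHom.evalAt ((regular M).restrict i) aZ η[M])
      (eqvHom.evalAt ((regular M).restrict i) aX η[M]) (yoneda.map j) :=
  isPullback_postcomp_evalAt_of_isClosedImmersion i aX aZ j hj fun T φ q h => by
    have := isSchemeTheoreticallyDominant_whiskerRight i T
    obtain ⟨l, hl⟩ := exists_lift_of_schemeTheoreticallyDominant j.left φ.left (i ▷ T).left q.left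
      (congrArg CommaMorphism.left h)
    exact ⟨Over.homMk l (by rw [← Over.w j, reassoc_of% hl, Over.w φ]), Over.OverMorphism.ext hl⟩

end Groth.Agent.Magnet
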