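import Groth.Agent.Magnet.Extend
import Groth.Agent.Magnet.Chart
import Groth.Agent.LimSch.OpenMap
import Mathlib.AlgebraicGeometry.AffineTransitionLimit

/-!
# Attractors for directed unions of magnets
-/

set_option autoImplicit false
set_option backward.isDefEq.respectTransparency false
set_option backward.isDefEq.respectTransparency.types false
set_option linter.style.haveILetI false

universe u

open CategoryTheory CategoryTheory.Limits MonoidalCategory CartesianMonoidalCategory AlgebraicGeometry Opposite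
open scoped MonObj

attribute [-instance] Red.grpObj_bc AlgebraicGeometry.instGrpObjSpecAsOverSpec
  AlgebraicGeometry.instCommGrpObjSpecAsOverSpec

noncomputable section

namespace Groth.Agent.Magnet

variable {S : Scheme.{u}}

/-- The map of charts as an algebra map. -/
def chartAlgHom (B : Type u) [CommRing B] {N M : Type} [AddCommMonoid N] [AddCommMonoid M] (f : N →+ M) :
    MonoidAlgebra B (Multiplicative N) →ₐ[B] MonoidAlgebra B (Multiplicative M) :=
  { MonoidAlgebra.mapDomainRingHom B (AddMonoidHom.toMultiplicative f) with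
    commutes' := fun b => ConcreteCategory.congr_hom (chartAlg_comp_chartMapRing f (B := B)) b }

theorem exists_stage {M : Type} [AddCommMonoid M] {X : Over S} [LocallyOfFinitePresentation X.hom]
    {J : Type} [Preorder J] [IsDirected J (· ≤ ·)] [Nonempty J] (N : J → AddSubmonoid M) (hN : Monotone N)
    {B : CommRingCat.{u}} (sB : Spec B ⟶ S) (φ : chartObj sB ↥(⨆ i, N i) ⟶ X) :
    ∃ (i : J) (ψ : chartObj sB (N i) ⟶ X),
      chartMap sB (AddSubmonoid.inclusion (le_iSup N i)) ≫ ψ = φ := by
  classical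
  let U : AddSubmonoid M := ⨆ i, N i
  let incl : ∀ i, N i →+ U := fun i => AddSubmonoid.inclusion (le_iSup N i)
  let Q := MonoidAlgebra B (Multiplicative U)
  let P : ULift.{u} J → Subalgebra B Q := fun i => (chartAlgHom B (incl i.down)).range
  have hP : Monotone P := by
    intro i j hij
    rintro _ ⟨x, rfl⟩
    refine ⟨chartAlgHom B (AddSubmonoid.inclusion (hN hij)) x, ?_⟩
    induction x using MonoidAlgebra.induction_linear with
    | zero => simp
    | add a b ha hb => simp only [map_add, ha, hb]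
    | single n r =>
      change MonoidAlgebra.mapDomain _ (MonoidAlgebra.mapDomain _ (MonoidAlgebra.single n r)) =
        MonoidAlgebra.mapDomain _ (MonoidAlgebra.single n r)
      rw [MonoidAlgebra.mapDomain_single, MonoidAlgebra.mapDomain_single, MonoidAlgebra.mapDomain_single]
      rfl
  have hdir : IsDirected (ULift.{u} J) (· ≤ ·) := ⟨fun a b => by
    obtain ⟨c, h₁, h₂⟩ := exists_ge_ge a.down b.down
    exact ⟨⟨c⟩, h₁, h₂⟩⟩
  have hcov : ∀ x : Q, ∃ i, x ∈ P i := by
    intro x
    induction x using MonoidAlgebra.induction_linear with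
    | zero => exact ⟨Classical.arbitrary _, zero_mem _⟩
    | add a b ha hb =>
      obtain ⟨i, hi⟩ := ha
      obtain ⟨j, hj⟩ := hb
      obtain ⟨k, hik, hjk⟩ := exists_ge_ge i j
      exact ⟨k, add_mem (hP hik hi) (hP hjk hj)⟩
    | single n r =>
      obtain ⟨i, hi⟩ := (AddSubmonoid.mem_iSup_of_directed hN.directed_le).1 (Multiplicative.toAdd n).2
      exact ⟨⟨i⟩, MonoidAlgebra.single (Multiplicative.ofAdd ⟨_, hi⟩) r, MonoidAlgebra.mapDomain_single⟩
  let D := LimSch.subalgDiag P hP
  let c := LimSch.subalgCone P hP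
  have hc : IsLimit c := LimSch.isLimitSubalgCone P hP hcov
  have : ∀ {i j : (ULift.{u} J)ᵒᵖ} (f : i ⟶ j), IsAffineHom (D.map f) :=
    fun f => LimSch.isAffineHom_subalgDiag P hP _ _ f
  have haff : ∀ i, IsAffine (D.obj i) := fun i =>
    inferInstanceAs (IsAffine (Spec (CommRingCat.of (P i.unop))))
  let t : D ⟶ (Functor.const _).obj S :=
    { app := fun i => Spec.map (CommRingCat.ofHom (algebraMap B (P i.unop))) ≫ sB
      naturality := fun i j f => by
        simp only [D, LimSch.subalgDiag, Functor.comp_map, Functor.op_map, Scheme.Spec_map,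
          Quiver.Hom.unop_op, Functor.const_obj_map, Category.comp_id, ← Spec.map_comp_assoc]
        rfl }
  have : ∀ i, CompactSpace (D.obj i) := fun i => inferInstance
  have : ∀ i, QuasiSeparatedSpace (D.obj i) := fun i => inferInstance
  have hφ : φ.left ≫ X.hom = Spec.map (chartAlg B U) ≫ sB := Over.w φ
  obtain ⟨i, g, hg, hgt⟩ := Scheme.exists_π_app_comp_eq_of_locallyOfFinitePresentation D t X.hom c hc
    φ.left (by
      ext i
      change Spec.map (CommRingCat.ofHom (P i.unop).val.toRingHom) ≫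
        Spec.map (CommRingCat.ofHom (algebraMap B (P i.unop))) ≫ sB = φ.left ≫ X.hom
      rw [← Spec.map_comp_assoc, hφ]
      rfl)
  let ρ : MonoidAlgebra B (Multiplicative (N i.unop.down)) →ₐ[B] P i.unop :=
    (chartAlgHom B (incl i.unop.down)).rangeRestrict
  have hρ : Function.Bijective ρ := by
    refine ⟨fun a b e => ?_, AlgHom.rangeRestrict_surjective _⟩
    exact MonoidAlgebra.mapDomain_injective (f := ⇑(AddMonoidHom.toMultiplicative (incl i.unop.down)))
      (fun a b e => Subtype.ext (congrArg (fun z : U => (z : M)) e)) (congrArg Subtype.val e)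
  let e := AlgEquiv.ofBijective ρ hρ
  let eh : CommRingCat.of (P i.unop) ⟶ CommRingCat.of (MonoidAlgebra B (Multiplicative (N i.unop.down))) :=
    CommRingCat.ofHom e.symm.toAlgHom.toRingHom
  let ψ : chartObj sB (N i.unop.down) ⟶ X := Over.homMk (Spec.map eh ≫ g) (by
    rw [Category.assoc, hgt]
    change Spec.map eh ≫ Spec.map (CommRingCat.ofHom (algebraMap B (P i.unop))) ≫ sB = Spec.map _ ≫ sB
    rw [← Spec.map_comp_assoc]
    congr 2
    exact CommRingCat.hom_ext e.symm.toAlgHom.comp_algebraMap)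
  refine ⟨i.unop.down, ψ, Over.OverMorphism.ext ?_⟩
  change Spec.map (chartMapRing _ B) ≫ Spec.map eh ≫ g = φ.left
  rw [← hg, ← Spec.map_comp_assoc]
  change Spec.map (eh ≫ chartMapRing _ B) ≫ g = Spec.map (CommRingCat.ofHom (P i.unop).val.toRingHom) ≫ g
  congr 2
  refine CommRingCat.hom_ext (RingHom.ext fun x => ?_)
  exact congrArg Subtype.val (e.apply_symm_apply x)

theorem exists_attrMap_eq {M : Type} [AddCommMonoid M] {X : Over S} [IsSeparated X.hom]
    [LocallyOfFinitePresentation X.hom] (a : _root_.Magnet.MonAct (_root_.Magnet.AMonS S M) X)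
    {J : Type} [Preorder J] [IsDirected J (· ≤ ·)] [Nonempty J] (N : J → AddSubmonoid M) (hN : Monotone N)
    (T : Over S) [IsAffine T.left] (φ : (_root_.Magnet.attr a (⨆ i, N i)).obj (op T)) :
    ∃ (i : J) (ψ : (_root_.Magnet.attr a (N i)).obj (op T)),
      (_root_.Magnet.attrMap a (le_iSup N i)).app (op T) ψ = φ := by
  let sB : Spec Γ(T.left, ⊤) ⟶ S := T.left.isoSpec.inv ≫ T.hom
  let k : Over.mk sB ⟶ T := Over.homMk T.left.isoSpec.inv rfl
  have : IsIso k := by
    have : IsIso ((Over.forget S).map k) := inferInstanceAs (IsIso T.left.isoSpec.inv)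
    exact isIso_of_reflects_iso k (Over.forget S)
  let U : AddSubmonoid M := ⨆ i, N i
  have := isIso_chartHom sB U
  obtain ⟨i, ψ₀, hψ₀⟩ := exists_stage N hN sB (chartHom sB U ≫ (_root_.Magnet.AMonS S U ◁ k) ≫ φ.1)
  have := isIso_chartHom sB (N i)
  let inc := AddSubmonoid.inclusion (le_iSup N i)
  let ψ : _root_.Magnet.AMonS S (N i) ⊗ T ⟶ X :=
    (_root_.Magnet.AMonS S (N i) ◁ inv k) ≫ inv (chartHom sB (N i)) ≫ ψ₀
  have hψ : (_root_.Magnet.AMonS.map S inc ▷ T) ≫ ψ = φ.1 := by
    have h1 : inv (chartHom sB U) ≫ chartMap sB inc =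
        (_root_.Magnet.AMonS.map S inc ▷ Over.mk sB) ≫ inv (chartHom sB (N i)) := by
      rw [IsIso.inv_comp_eq, ← Category.assoc, IsIso.eq_comp_inv, chartMap_comp_chartHom]
    simp only [ψ]
    rw [← whisker_exchange_assoc, ← reassoc_of% h1, hψ₀, IsIso.inv_hom_id_assoc, ← whiskerLeft_comp_assoc,
      IsIso.inv_hom_id, MonoidalCategory.whiskerLeft_id, Category.id_comp]
  let x : T ⟶ X := lift (toUnit T ≫ η[_root_.Magnet.AMonS S U]) (𝟙 T) ≫ φ.1
  have horb : (_root_.Magnet.AMonS.map S (N i).subtype ▷ T) ≫ ψ =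
      (_root_.Magnet.AMonS S M ◁ x) ≫ a.act := by
    rw [show _root_.Magnet.AMonS.map S (N i).subtype =
        _root_.Magnet.AMonS.map S U.subtype ≫ _root_.Magnet.AMonS.map S inc from
      _root_.Magnet.AMonS.map_comp S U.subtype inc, comp_whiskerRight_assoc, hψ]
    exact map_subtype_whiskerRight_eq a U φ
  exact ⟨i, ⟨ψ, isEquivariant_of_orbit
    (fun T' u v h => eq_of_map_whiskerRight_eq _ Subtype.val_injective u v h) x ψ horb⟩, Subtype.ext hψ⟩

end Groth.Agent.Magnet
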