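import Groth.Agent.Magnet.Sheaf
import Groth.Agent.Magnet.MonActBasic
import Groth.Agent.ClosedLocus.Basic

/-!
# Points with extendable orbit map

For a monoid morphism `inc : A ⟶ B` along which maps to `X` are determined, the equivariant families
`B × T ⟶ X` are the points of `X` whose orbit map extends along `ι`; when this locus is cut out locally
by ideals it is a closed subscheme.
-/

set_option autoImplicit false
set_option backward.isDefEq.respectTransparency false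
set_option backward.isDefEq.respectTransparency.types false

universe u

open CategoryTheory CategoryTheory.Limits MonoidalCategory CartesianMonoidalCategory AlgebraicGeometry Opposite
open scoped MonObj

noncomputable section

namespace Groth.Agent.Magnet

open _root_.Magnet.MonAct

variable {S : Scheme.{u}} {A B X : Over S} [MonObj A] [MonObj B]

/-- The orbit map of `x` extends along `ι`. -/
def Extends (inc : A ⟶ B) (a : _root_.Magnet.MonAct A X) {T : Over S} (x : T ⟶ X) : Prop :=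
  ∃ φ : B ⊗ T ⟶ X, (inc ▷ T) ≫ φ = (A ◁ x) ≫ a.act

variable {inc : A ⟶ B} {a : _root_.Magnet.MonAct A X}

theorem Extends.comp {T T' : Over S} {x : T ⟶ X} (h : Extends inc a x) (t : T' ⟶ T) :
    Extends inc a (t ≫ x) := by
  obtain ⟨φ, hφ⟩ := h
  exact ⟨(B ◁ t) ≫ φ, by rw [← whisker_exchange_assoc, hφ, ← whiskerLeft_comp_assoc]⟩

variable [IsMonHom inc]
  (hext : ∀ (T : Over S) (u v : B ⊗ T ⟶ X), (inc ▷ T) ≫ u = (inc ▷ T) ≫ v → u = v)

include hext in
theorem isEquivariant_of_orbit {T : Over S} (x : T ⟶ X) (φ : B ⊗ T ⟶ X)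
    (hφ : (inc ▷ T) ≫ φ = (A ◁ x) ≫ a.act) :
    IsEquivariant (((regular B).restrict inc).prod (trivial A T)) a φ := by
  let σ : B ⊗ (A ⊗ T) ⟶ A ⊗ (B ⊗ T) :=
    lift (snd _ _ ≫ fst _ _) (lift (fst _ _) (snd _ _ ≫ snd _ _))
  let τ : A ⊗ (B ⊗ T) ⟶ B ⊗ (A ⊗ T) :=
    lift (snd _ _ ≫ fst _ _) (lift (fst _ _) (snd _ _ ≫ snd _ _))
  have hτσ : τ ≫ σ = 𝟙 _ := by
    apply CartesianMonoidalCategory.hom_ext
    · simp [σ, τ]
    · apply CartesianMonoidalCategory.hom_ext <;> simp [σ, τ]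
  unfold IsEquivariant
  rw [← Category.id_comp ((((regular B).restrict inc).prod (trivial A T)).act ≫ φ),
    ← Category.id_comp ((A ◁ φ) ≫ a.act), ← hτσ, Category.assoc, Category.assoc]
  congr 1
  apply hext
  apply _root_.Magnet.hom_ext_lift₂
  intro T' h z
  rw [lift_whiskerRight_assoc, lift_whiskerRight_assoc, ← lift_comp_fst_snd z]
  generalize z ≫ fst _ _ = g
  generalize z ≫ snd _ _ = t
  have e : ∀ h' : T' ⟶ A, lift (h' ≫ inc) t ≫ φ = lift h' (t ≫ x) ≫ a.act := by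
    intro h'
    rw [← lift_whiskerRight_assoc, hφ, lift_whiskerLeft_assoc]
  have hσ : lift (h ≫ inc) (lift g t) ≫ σ = lift g (lift (h ≫ inc) t) := by
    simp [σ]
  rw [reassoc_of% hσ, lift_prod_act_assoc, lift_trivial_act, lift_restrict_act, lift_regular_act,
    reassoc_of% hσ, lift_whiskerLeft_assoc, e, ← lift_mul_act, ← MonObj.mul_comp, e]

theorem eval_eq_of_orbit {T : Over S} (x : T ⟶ X) (φ : B ⊗ T ⟶ X)
    (hφ : (inc ▷ T) ≫ φ = (A ◁ x) ≫ a.act) : lift (toUnit T ≫ η[B]) (𝟙 T) ≫ φ = x := by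
  rw [← Hom.one_def, show (1 : T ⟶ B) = (1 : T ⟶ A) ≫ inc from (MonObj.one_comp inc).symm,
    ← lift_whiskerRight_assoc, hφ, lift_whiskerLeft_assoc, Category.id_comp, lift_one_act]

theorem orbit_of_mem {T : Over S} (φ : (eqvHom ((regular B).restrict inc) a).obj (op T)) :
    (inc ▷ T) ≫ φ.1 = (A ◁ (lift (toUnit T ≫ η[B]) (𝟙 T) ≫ φ.1)) ≫ a.act := by
  apply _root_.Magnet.hom_ext_lift₂
  intro T' g t
  rw [lift_whiskerRight_assoc, lift_whiskerLeft_assoc, comp_lift_assoc, ← Hom.one_def,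
    MonObj.comp_one, Category.comp_id]
  have h := (mem_eqvHom_iff φ.1).1 φ.2 T' g 1 t
  rw [lift_restrict_act, lift_regular_act, mul_one] at h
  exact h

include hext in
theorem eqvHom_ext {T : Over S} (φ ψ : (eqvHom ((regular B).restrict inc) a).obj (op T))
    (h : lift (toUnit T ≫ η[B]) (𝟙 T) ≫ φ.1 = lift (toUnit T ≫ η[B]) (𝟙 T) ≫ ψ.1) : φ = ψ :=
  Subtype.ext (hext T _ _ (by rw [orbit_of_mem, orbit_of_mem, h]))

include hext in
/-- Extendability is local on the source. -/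
theorem Extends.of_cover {T : Over S} {x : T ⟶ X} (𝒱 : Scheme.OpenCover.{u, u} T.left)
    (h : ∀ i, Extends inc a ((Over.homMk (𝒱.f i) rfl : Over.mk (𝒱.f i ≫ T.hom) ⟶ T) ≫ x)) :
    Extends inc a x := by
  let g : ∀ i, Over.mk (𝒱.f i ≫ T.hom) ⟶ T := fun i => Over.homMk (𝒱.f i) rfl
  let R : Sieve T := Sieve.ofArrows _ g
  have hR : R ∈ Scheme.zariskiTopology.over S T := by
    rw [GrothendieckTopology.mem_over_iff, Sieve.overEquiv_ofArrows]
    exact 𝒱.mem_grothendieckTopology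
  have hex : ∀ {Z : Over S} (k : Z ⟶ T), R k → Extends inc a (k ≫ x) := by
    rintro Z k ⟨W, u, _, ⟨i⟩, rfl⟩
    rw [Category.assoc]
    exact (h i).comp u
  let fam : Presieve.FamilyOfElements (eqvHom ((regular B).restrict inc) a) R.arrows := fun Z k hk =>
    ⟨(hex k hk).choose, isEquivariant_of_orbit hext (k ≫ x) _ (hex k hk).choose_spec⟩
  have heval : ∀ (Z : Over S) (k : Z ⟶ T) (hk : R k),
      lift (toUnit Z ≫ η[B]) (𝟙 Z) ≫ (fam k hk).1 = k ≫ x :=
    fun Z k hk => eval_eq_of_orbit _ _ (hex k hk).choose_spec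
  have hfam : fam.Compatible := by
    rw [Presieve.compatible_iff_sieveCompatible]
    intro Z₂ Z₁ k u hk
    apply eqvHom_ext hext
    rw [heval _ _ (R.downward_closed hk u), eqvHom_map_coe, Quiver.Hom.unop_op, lift_whiskerLeft_assoc, Category.id_comp,
      Category.assoc, ← heval Z₂ k hk, comp_lift_assoc, Category.comp_id, ← Category.assoc u,
      toUnit_unique (u ≫ toUnit Z₂) (toUnit Z₁)]
  have hsh := (isSheaf_iff_isSheaf_of_type _ _).1
    (isSheaf_eqvHom (Scheme.zariskiTopology.over S) ((regular B).restrict inc) a)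
  obtain ⟨φ, hφ, -⟩ := hsh R hR fam hfam
  refine ⟨φ.1, ?_⟩
  have he : lift (toUnit T ≫ η[B]) (𝟙 T) ≫ φ.1 = x := by
    refine (isSheaf_yonedaObj (Scheme.zariskiTopology.over S) X R hR).isSeparatedFor.ext fun Z k hk => ?_
    change k ≫ lift (toUnit T ≫ η[B]) (𝟙 T) ≫ φ.1 = k ≫ x
    rw [← heval Z k hk, ← hφ k hk, eqvHom_map_coe, Quiver.Hom.unop_op, lift_whiskerLeft_assoc,
      Category.id_comp, comp_lift_assoc, Category.comp_id, ← Category.assoc k,
      toUnit_unique (k ≫ toUnit T) (toUnit Z)]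
  rw [orbit_of_mem, he]

include hext in
/-- If the extendable locus is locally cut out by ideals, the functor of equivariant families is a
closed subscheme of `X`. -/
theorem exists_representableBy_of_local_ideal
    (hloc : ∀ p : X.left, ∃ V : X.left.affineOpens, p ∈ V.1 ∧ ∃ L : Ideal Γ(X.left, V.1),
      ∀ (C : CommRingCat.{u}) (ψ : Γ(X.left, V.1) ⟶ C),
        Extends inc a (Over.homMk (Spec.map ψ ≫ V.2.fromSpec) rfl :
          Over.mk ((Spec.map ψ ≫ V.2.fromSpec) ≫ X.hom) ⟶ X) ↔ L ≤ RingHom.ker ψ.hom) :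
    ∃ (Z : Over S) (i : Z ⟶ X) (e : (eqvHom ((regular B).restrict inc) a).RepresentableBy Z),
      IsClosedImmersion i.left ∧ ∀ (T : Over S) (z : T ⟶ Z),
        (eqvHom.evalAt ((regular B).restrict inc) a η[B]).app (op T) (e.homEquiv z) = z ≫ i := by
  let P : ∀ {T' : Scheme.{u}}, (T' ⟶ X.left) → Prop := fun {T'} f =>
    Extends inc a (Over.homMk f rfl : Over.mk (f ≫ X.hom) ⟶ X)
  have hcomp : ∀ {T' T'' : Scheme.{u}} {f : T' ⟶ X.left} (c : T'' ⟶ T'), P f → P (c ≫ f) := by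
    intro T' T'' f c hf
    have := hf.comp (Over.homMk c (Category.assoc _ _ _).symm :
      Over.mk ((c ≫ f) ≫ X.hom) ⟶ Over.mk (f ≫ X.hom))
    exact this
  have hcover : ∀ {T' : Scheme.{u}} (f : T' ⟶ X.left) (𝒱 : Scheme.OpenCover.{u, u} T'),
      (∀ i, P (𝒱.f i ≫ f)) → P f := fun f 𝒱 hf => Extends.of_cover hext 𝒱 fun i => by
    have := (hf i).comp (Over.homMk (𝟙 _) (by simp) :
      Over.mk (𝒱.f i ≫ f ≫ X.hom) ⟶ Over.mk ((𝒱.f i ≫ f) ≫ X.hom))
    refine ⟨this.choose, this.choose_spec.trans ?_⟩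
    congr 2
    all_goals (apply Over.OverMorphism.ext; simp)
  obtain ⟨Z, i, hi, hZ⟩ := ClosedLocus.exists_closed (P := P) hcomp hcover hloc
  let Z' : Over S := Over.mk (i ≫ X.hom)
  let i' : Z' ⟶ X := Over.homMk i rfl
  have key : ∀ {T : Over S} (x : T ⟶ X), (∃ z : T ⟶ Z', z ≫ i' = x) ↔ Extends inc a x := by
    intro T x
    let x₀ : Over.mk (x.left ≫ X.hom) ⟶ X := Over.homMk x.left rfl
    let u : T ⟶ Over.mk (x.left ≫ X.hom) := Over.homMk (𝟙 _) (by simp)
    let v : Over.mk (x.left ≫ X.hom) ⟶ T := Over.homMk (𝟙 _) (by simp)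
    have hu : u ≫ x₀ = x := Over.OverMorphism.ext (Category.id_comp _)
    have hv : v ≫ x = x₀ := Over.OverMorphism.ext (Category.id_comp _)
    have h1 : Extends inc a x ↔ P x.left :=
      ⟨fun h => show Extends inc a x₀ by rw [← hv]; exact h.comp v,
        fun h => by rw [← hu]; exact (show Extends inc a x₀ from h).comp u⟩
    rw [h1, ← hZ]
    refine ⟨fun ⟨z, hz⟩ => ⟨z.left, congrArg CommaMorphism.left hz⟩, fun ⟨z, hz⟩ =>
      ⟨Over.homMk z (by change z ≫ i ≫ X.hom = T.hom; rw [← Category.assoc, hz, Over.w x]),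
        Over.OverMorphism.ext hz⟩⟩
  have : Mono i' := Over.mono_of_mono_left i'
  have hchoice : ∀ {T : Over S} (z : T ⟶ Z'), ∃ φ : B ⊗ T ⟶ X,
      (inc ▷ T) ≫ φ = (A ◁ (z ≫ i')) ≫ a.act := fun {T} z => (key _).1 ⟨z, rfl⟩
  let toφ : ∀ T : Over S, (T ⟶ Z') → (eqvHom ((regular B).restrict inc) a).obj (op T) := fun T z =>
    ⟨(hchoice z).choose, isEquivariant_of_orbit hext (z ≫ i') _ (hchoice z).choose_spec⟩
  have heval : ∀ (T : Over S) (z : T ⟶ Z'),
      lift (toUnit T ≫ η[B]) (𝟙 T) ≫ (toφ T z).1 = z ≫ i' :=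
    fun T z => eval_eq_of_orbit _ _ (hchoice z).choose_spec
  have hbij : ∀ T, Function.Bijective (toφ T) := by
    refine fun T => ⟨fun z z' h => ?_, fun φ => ?_⟩
    · rw [← cancel_mono i', ← heval, h, heval]
    · obtain ⟨z, hz⟩ := (key _).2 ⟨φ.1, orbit_of_mem φ⟩
      exact ⟨z, eqvHom_ext hext _ _ ((heval T z).trans hz)⟩
  refine ⟨Z', i', ⟨fun {T} => Equiv.ofBijective _ (hbij T), fun {T T'} t z => ?_⟩, hi, heval⟩
  apply eqvHom_ext hext
  change lift (toUnit T ≫ η[B]) (𝟙 T) ≫ (toφ T (t ≫ z)).1 =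
    lift (toUnit T ≫ η[B]) (𝟙 T) ≫ (B ◁ t) ≫ (toφ T' z).1
  rw [heval, lift_whiskerLeft_assoc, Category.id_comp, Category.assoc, ← heval T' z, comp_lift_assoc,
    Category.comp_id, ← Category.assoc t, toUnit_unique (t ≫ toUnit T') (toUnit T)]

end Groth.Agent.Magnet
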