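import Groth.Agent.Magnet.MonActBasic
import Groth.Prelude.Def_Magnet4
import Mathlib.AlgebraicGeometry.ResidueField
import Mathlib.AlgebraicGeometry.PullbackCarrier
import Mathlib.AlgebraicGeometry.Morphisms.OpenImmersion

/-!
# Equivariant families landing in a stable open subscheme

If stable open neighbourhoods of the origin of `B` over fields are everything, an equivariant family
`B × T ⟶ X` factors through a stable open subscheme as soon as its value at the origin does.
-/

set_option autoImplicit false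
set_option backward.isDefEq.respectTransparency false
set_option backward.isDefEq.respectTransparency.types false

universe u

open CategoryTheory CategoryTheory.Limits MonoidalCategory CartesianMonoidalCategory AlgebraicGeometry Opposite
open scoped MonObj

noncomputable section

namespace Groth.Agent.Magnet

open _root_.Magnet.MonAct

variable {S : Scheme.{u}} {A B X U : Over S} [MonObj A]

theorem isPullback_whiskerLeft_left {Y Z : Over S} (Q : Over S) (f : Y ⟶ Z) :
    IsPullback (Q ◁ f).left (snd Q Y).left (snd Q Z).left f.left := by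
  have : IsPullback (Q ◁ f) (snd Q Y) (snd Q Z) f :=
    IsPullback.of_isLimit' ⟨whiskerLeft_snd _ _⟩ (PullbackCone.IsLimit.mk _
      (fun s => lift (s.fst ≫ fst Q Z) s.snd)
      (fun s => by
        apply CartesianMonoidalCategory.hom_ext
        · rw [Category.assoc, whiskerLeft_fst, lift_fst]
        · rw [Category.assoc, whiskerLeft_snd, lift_snd_assoc, s.condition])
      (fun s => lift_snd _ _)
      (fun s m h₁ h₂ => by
        apply CartesianMonoidalCategory.hom_ext
        · rw [lift_fst, ← h₁, Category.assoc, whiskerLeft_fst]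
        · rw [lift_snd, h₂]))
  exact this.map (Over.forget _)

theorem stable_preimage {ρ : _root_.Magnet.MonAct A B} {aX : _root_.Magnet.MonAct A X}
    {aU : _root_.Magnet.MonAct A U} (j : U ⟶ X) [IsOpenImmersion j.left] (hj : IsEquivariant aU aX j)
    {T : Over S} (φ : B ⊗ T ⟶ X) (hφ : IsEquivariant (ρ.prod (trivial A T)) aX φ) :
    (snd A (B ⊗ T)).left ⁻¹ᵁ (φ.left ⁻¹ᵁ j.left.opensRange) ≤
      ((ρ.prod (trivial A T)).act).left ⁻¹ᵁ (φ.left ⁻¹ᵁ j.left.opensRange) := by
  intro z hz
  obtain ⟨x, hx⟩ := hz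
  obtain ⟨y, hy, -⟩ := Scheme.exists_preimage_of_isPullback (isPullback_whiskerLeft_left A j)
    ((A ◁ φ).left z) x (by
      rw [hx, ← Scheme.Hom.comp_apply, ← Scheme.Hom.comp_apply, ← Over.comp_left, ← Over.comp_left,
        whiskerLeft_snd])
  refine ⟨aU.act.left y, ?_⟩
  have e₁ : aU.act ≫ j = (A ◁ j) ≫ aX.act := hj
  have e₂ : (ρ.prod (trivial A T)).act ≫ φ = (A ◁ φ) ≫ aX.act := hφ
  rw [← Scheme.Hom.comp_apply, ← Over.comp_left, e₁, Over.comp_left, Scheme.Hom.comp_apply, hy,
    ← Scheme.Hom.comp_apply, ← Over.comp_left, ← e₂]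
  rfl

theorem isPullback_postcomp_evalAt_of_isOpenImmersion (ρ : _root_.Magnet.MonAct A B) (o : 𝟙_ (Over S) ⟶ B)
    (hM : ∀ (T : Over S) (K : Type u) [Field K] (_ : T.left ≅ Spec (CommRingCat.of K))
      (W : (B ⊗ T).left.Opens),
      (snd A (B ⊗ T)).left ⁻¹ᵁ W ≤ ((ρ.prod (trivial A T)).act).left ⁻¹ᵁ W →
      (lift (toUnit T ≫ o) (𝟙 T)).left ⁻¹ᵁ W = ⊤ → W = ⊤)
    (aX : _root_.Magnet.MonAct A X) (aU : _root_.Magnet.MonAct A U) (j : U ⟶ X)
    [IsOpenImmersion j.left] (hj : IsEquivariant aU aX j) :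
    IsPullback (eqvHom.postcomp ρ j hj) (eqvHom.evalAt ρ aU o) (eqvHom.evalAt ρ aX o) (yoneda.map j) := by
  have : Mono j := Over.mono_of_mono_left j
  refine IsPullback.of_forall_isPullback_app fun T => (Types.isPullback_iff _ _ _ _).2 ⟨?_, ?_, ?_⟩
  · ext φ
    exact (Category.assoc _ _ _).symm
  · rintro φ ψ ⟨h₁, -⟩
    exact Subtype.ext ((cancel_mono j).1 (congrArg Subtype.val h₁))
  · intro φ v h
    let σ : unop T ⟶ B ⊗ unop T := lift (toUnit (unop T) ≫ o) (𝟙 (unop T))
    have h : σ ≫ φ.1 = v ≫ j := h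
    let W := φ.1.left ⁻¹ᵁ j.left.opensRange
    have hW : W = ⊤ := by
      refine top_le_iff.1 fun w _ => ?_
      let t := (snd B (unop T)).left w
      let T' : Over S := Over.mk ((unop T).left.fromSpecResidueField t ≫ (unop T).hom)
      let tK : T' ⟶ unop T := Over.homMk ((unop T).left.fromSpecResidueField t) rfl
      let φ' := (eqvHom ρ aX).map tK.op φ
      have h' := hM T' ((unop T).left.residueField t) (Iso.refl _)
        (φ'.1.left ⁻¹ᵁ j.left.opensRange) (stable_preimage j hj φ'.1 φ'.2) (top_le_iff.1 fun p _ => ?_)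
      · obtain ⟨p, hp⟩ : t ∈ Set.range tK.left := by
          rw [show Set.range tK.left = {t} from Scheme.range_fromSpecResidueField t]
          rfl
        obtain ⟨q, hq, -⟩ := Scheme.exists_preimage_of_isPullback (isPullback_whiskerLeft_left B tK)
          w p hp.symm
        have hmem : φ'.1.left q ∈ j.left.opensRange := h'.ge (show q ∈ (⊤ : (B ⊗ T').left.Opens) from trivial)
        change φ.1.left w ∈ j.left.opensRange
        rw [← hq]
        exact hmem
      · have e : lift (toUnit T' ≫ o) (𝟙 T') ≫ φ'.1 = tK ≫ v ≫ j := by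
          rw [← h, eqvHom_map_coe, Quiver.Hom.unop_op, lift_whiskerLeft_assoc, Category.id_comp,
            comp_lift_assoc, ← Category.assoc tK, Category.comp_id]
          congr 2
        refine ⟨(tK ≫ v).left p, ?_⟩
        rw [← Scheme.Hom.comp_apply, ← Over.comp_left, Category.assoc, ← e]
        rfl
    have hsub : Set.range φ.1.left ⊆ Set.range j.left := by
      rintro _ ⟨w, rfl⟩
      exact hW.ge (show w ∈ (⊤ : (B ⊗ unop T).left.Opens) from trivial)
    let ψ : B ⊗ unop T ⟶ U := Over.homMk (IsOpenImmersion.lift j.left φ.1.left hsub) (by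
      rw [← Over.w j, IsOpenImmersion.lift_fac_assoc, Over.w φ.1])
    have hψ : ψ ≫ j = φ.1 := Over.OverMorphism.ext (IsOpenImmersion.lift_fac _ _ _)
    refine ⟨⟨ψ, ?_⟩, Subtype.ext hψ, ?_⟩
    · have e₁ := φ.2
      unfold IsEquivariant at e₁ hj ⊢
      rw [← cancel_mono j, Category.assoc, hψ, e₁, Category.assoc, hj, ← whiskerLeft_comp_assoc, hψ]
    · change σ ≫ ψ = v
      rw [← cancel_mono j, Category.assoc, hψ, h]

/-- The same for representing schemes. -/
theorem isOpenImmersion_of_representsPostcomp (ρ : _root_.Magnet.MonAct A B) (o : 𝟙_ (Over S) ⟶ B)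
    (hM : ∀ (T : Over S) (K : Type u) [Field K] (_ : T.left ≅ Spec (CommRingCat.of K))
      (W : (B ⊗ T).left.Opens),
      (snd A (B ⊗ T)).left ⁻¹ᵁ W ≤ ((ρ.prod (trivial A T)).act).left ⁻¹ᵁ W →
      (lift (toUnit T ≫ o) (𝟙 T)).left ⁻¹ᵁ W = ⊤ → W = ⊤)
    (aX : _root_.Magnet.MonAct A X) (aU : _root_.Magnet.MonAct A U) (j : U ⟶ X)
    [IsOpenImmersion j.left] (hj : IsEquivariant aU aX j) {ZU ZX : Over S}
    (eU : (eqvHom ρ aU).RepresentableBy ZU) (eX : (eqvHom ρ aX).RepresentableBy ZX) (k : ZU ⟶ ZX)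
    (hk : ∀ (T : Over S) (z : T ⟶ ZU),
      eX.homEquiv (z ≫ k) = (eqvHom.postcomp ρ j hj).app (op T) (eU.homEquiv z)) :
    IsOpenImmersion k.left := by
  obtain ⟨εU, hεU⟩ : ∃ εU : ZU ⟶ U, yoneda.map εU = eU.toIso.hom ≫ eqvHom.evalAt ρ aU o :=
    ⟨_, Functor.map_preimage _ _⟩
  obtain ⟨εX, hεX⟩ : ∃ εX : ZX ⟶ X, yoneda.map εX = eX.toIso.hom ≫ eqvHom.evalAt ρ aX o :=
    ⟨_, Functor.map_preimage _ _⟩
  have hk' : yoneda.map k ≫ eX.toIso.hom = eU.toIso.hom ≫ eqvHom.postcomp ρ j hj := by
    ext T z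
    exact hk (unop T) z
  have sq := isPullback_postcomp_evalAt_of_isOpenImmersion ρ o hM aX aU j hj
  have sq' : IsPullback (yoneda.map k) (yoneda.map εU) (yoneda.map εX) (yoneda.map j) := by
    refine sq.of_iso eU.toIso.symm eX.toIso.symm (Iso.refl _) (Iso.refl _) ?_ ?_ ?_ ?_
    · rw [Iso.symm_hom, Iso.symm_hom, Iso.eq_inv_comp, ← Category.assoc, ← hk', Category.assoc,
        Iso.hom_inv_id, Category.comp_id]
    · rw [Iso.symm_hom, hεU, Iso.inv_hom_id_assoc, Iso.refl_hom, Category.comp_id]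
    · rw [Iso.symm_hom, hεX, Iso.inv_hom_id_assoc, Iso.refl_hom, Category.comp_id]
    · simp
  have hpb : IsPullback k εU εX j :=
    IsPullback.of_map yoneda (yoneda.map_injective (by rw [Functor.map_comp, Functor.map_comp, sq'.w])) sq'
  exact MorphismProperty.of_isPullback (P := @IsOpenImmersion) (hpb.map (Over.forget S)).flip
    ‹IsOpenImmersion j.left›

end Groth.Agent.Magnet
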