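import Groth.Agent.Magnet.FaceOrigin
import Groth.Agent.Magnet.OpenSub
import Groth.Agent.Magnet.Extend
import Groth.Agent.Ferrand.Basic

/-!
# Face squares of diagonalizable monoid schemes are pushouts
-/

set_option autoImplicit false
set_option backward.isDefEq.respectTransparency false
set_option backward.isDefEq.respectTransparency.types false
set_option linter.style.haveILetI false
set_option maxHeartbeats 1000000

universe u

open CategoryTheory CategoryTheory.Limits MonoidalCategory CartesianMonoidalCategory AlgebraicGeometry Opposite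
open scoped MonObj

attribute [-instance] Red.grpObj_bc AlgebraicGeometry.instGrpObjSpecAsOverSpec
  AlgebraicGeometry.instCommGrpObjSpecAsOverSpec

noncomputable section

namespace Groth.Agent.Magnet

variable {S : Scheme.{u}} {M : Type} [AddCommMonoid M]

/-- The ring map of a face of charts. -/
def faceRing {N F : AddSubmonoid M} (hF : _root_.Magnet.IsFace N F) (B : Type u) [CommRing B] :
    CommRingCat.of (MonoidAlgebra B (Multiplicative N)) ⟶ CommRingCat.of (MonoidAlgebra B (Multiplicative F)) :=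
  CommRingCat.ofHom (_root_.Magnet.faceAlgHom B hF).toRingHom

theorem chartAlg_comp_faceRing {N F : AddSubmonoid M} (hF : _root_.Magnet.IsFace N F) (B : Type u)
    [CommRing B] : chartAlg B N ≫ faceRing hF B = chartAlg B F :=
  CommRingCat.hom_ext (_root_.Magnet.faceAlgHom B hF).comp_algebraMap

/-- The face map of charts. -/
def chartFace {N F : AddSubmonoid M} (hF : _root_.Magnet.IsFace N F) {B : Type u} [CommRing B]
    (sB : Spec (CommRingCat.of B) ⟶ S) : chartObj sB F ⟶ chartObj sB N :=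
  Over.homMk (Spec.map (faceRing hF B)) (by
    change Spec.map _ ≫ Spec.map _ ≫ sB = Spec.map _ ≫ sB
    rw [← Spec.map_comp_assoc, chartAlg_comp_faceRing])

theorem chartFace_comp_chartHom {N F : AddSubmonoid M} (hF : _root_.Magnet.IsFace N F) {B : Type u}
    [CommRing B] (sB : Spec (CommRingCat.of B) ⟶ S) :
    chartFace hF sB ≫ chartHom sB N =
      chartHom sB F ≫ (_root_.Magnet.AMonS.faceMap S hF ▷ Over.mk sB) := by
  classical
  apply CartesianMonoidalCategory.hom_ext
  · rw [Category.assoc, Category.assoc, chartHom, chartHom, lift_fst, whiskerRight_fst, lift_fst_assoc]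
    refine points_ext fun n => ?_
    rw [points_comp, points_chartPoint, points_faceMap, points_chartPoint]
    change (Spec.map (faceRing hF B)).appTop ((Scheme.ΓSpecIso _).inv (MonoidAlgebra.of B _ n)) = _
    refine ((ConcreteCategory.congr_hom (Scheme.ΓSpecIso_inv_naturality (faceRing hF B)) _).symm.trans ?_)
    rw [CommRingCat.comp_apply]
    split
    next h =>
      rw [show faceRing hF B (MonoidAlgebra.of B (Multiplicative N) n) =
        MonoidAlgebra.of B (Multiplicative F) (Multiplicative.ofAdd ⟨_, h⟩) from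
          _root_.Magnet.faceAlgHom_single_of_mem B hF (Multiplicative.toAdd n) h 1]
      rfl
    next h =>
      rw [show faceRing hF B (MonoidAlgebra.of B (Multiplicative N) n) = 0 from
          _root_.Magnet.faceAlgHom_single_of_not_mem B hF (Multiplicative.toAdd n) h 1, map_zero]
  · rw [Category.assoc, Category.assoc, chartHom, chartHom, lift_snd, whiskerRight_snd, lift_snd]
    apply Over.OverMorphism.ext
    change Spec.map _ ≫ Spec.map _ = Spec.map _
    rw [← Spec.map_comp, chartAlg_comp_faceRing]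

variable {N N' L L' : AddSubmonoid M} (hNL : N ≤ L) (hN'L' : N' ≤ L') (hL : _root_.Magnet.IsFace L' L)
  (hN : _root_.Magnet.IsFace N' N) (hdiff : (N' : Set M) = (L' : Set M) \ ((L : Set M) \ (N : Set M)))

include hdiff in
theorem mem_N_of_mem (m : M) (hm' : m ∈ N') (hm : m ∈ L) : m ∈ N := by
  have := (Set.ext_iff.1 hdiff m).1 hm'
  by_contra h
  exact this.2 ⟨hm, h⟩

include hdiff in
theorem square_ring (B : Type u) [CommRing B] :
    Ferrand.Square (faceRing hL B).hom (chartMapRing (AddSubmonoid.inclusion hNL) B).hom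
      (chartMapRing (AddSubmonoid.inclusion hN'L') B).hom (faceRing hN B).hom := by
  classical
  let p := (faceRing hL B).hom
  let q := (chartMapRing (AddSubmonoid.inclusion hNL) B).hom
  let π₁ := (chartMapRing (AddSubmonoid.inclusion hN'L') B).hom
  let π₂ := (faceRing hN B).hom
  have hπ₁ : Function.Injective π₁ :=
    MonoidAlgebra.mapDomain_injective (f := ⇑(AddMonoidHom.toMultiplicative (AddSubmonoid.inclusion hN'L')))
      fun a b e => Subtype.ext (congrArg (fun z : L' => (z : M)) e)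
  have hq : Function.Injective q :=
    MonoidAlgebra.mapDomain_injective (f := ⇑(AddMonoidHom.toMultiplicative (AddSubmonoid.inclusion hNL)))
      fun a b e => Subtype.ext (congrArg (fun z : L => (z : M)) e)
  have hcoeff : ∀ (x : MonoidAlgebra B (Multiplicative L')) (l : L),
      (p x).coeff (Multiplicative.ofAdd l) = x.coeff (Multiplicative.ofAdd ⟨l, hL.le l.2⟩) := by
    intro x l
    induction x using MonoidAlgebra.induction_linear with
    | zero => rw [map_zero]; simp
    | add a b ha hb => rw [map_add]; simp only [MonoidAlgebra.coeff_add, Finsupp.add_apply, ha, hb]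
    | single n r =>
      by_cases h : ((Multiplicative.toAdd n : L') : M) ∈ L
      · rw [show p (MonoidAlgebra.single n r) = MonoidAlgebra.single (Multiplicative.ofAdd ⟨_, h⟩) r from
          _root_.Magnet.faceAlgHom_single_of_mem B hL (Multiplicative.toAdd n) h r]
        rw [MonoidAlgebra.coeff_single, MonoidAlgebra.coeff_single, Finsupp.single_apply, Finsupp.single_apply]
        refine if_congr ⟨fun e => ?_, fun e => ?_⟩ rfl rfl
        · obtain rfl : (⟨_, h⟩ : L) = l := e
          rfl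
        · exact congrArg Multiplicative.ofAdd (Subtype.ext (congrArg (fun z : L' => (z : M)) e))
      · rw [show p (MonoidAlgebra.single n r) = 0 from
          _root_.Magnet.faceAlgHom_single_of_not_mem B hL (Multiplicative.toAdd n) h r]
        rw [MonoidAlgebra.coeff_zero, MonoidAlgebra.coeff_single, Finsupp.zero_apply,
          Finsupp.single_eq_of_ne]
        intro e
        refine h ?_
        rw [← e]
        exact l.2
  have hcomm : ∀ c, p (π₁ c) = q (π₂ c) := by
    intro c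
    induction c using MonoidAlgebra.induction_linear with
    | zero => simp
    | add a b ha hb => rw [map_add, map_add, map_add, map_add, ha, hb]
    | single n r =>
      rw [show π₁ (MonoidAlgebra.single n r) = MonoidAlgebra.single
          (Multiplicative.ofAdd (AddSubmonoid.inclusion hN'L' (Multiplicative.toAdd n))) r from
        MonoidAlgebra.mapDomain_single]
      by_cases h : ((Multiplicative.toAdd n : N') : M) ∈ N
      · rw [show π₂ (MonoidAlgebra.single n r) = MonoidAlgebra.single (Multiplicative.ofAdd ⟨_, h⟩) r from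
          _root_.Magnet.faceAlgHom_single_of_mem B hN (Multiplicative.toAdd n) h r]
        refine (_root_.Magnet.faceAlgHom_single_of_mem B hL _ (show
          ((AddSubmonoid.inclusion hN'L' (Multiplicative.toAdd n) : L') : M) ∈ L from hNL h) r).trans ?_
        exact (MonoidAlgebra.mapDomain_single (f := ⇑(AddMonoidHom.toMultiplicative (AddSubmonoid.inclusion hNL)))
          (a := Multiplicative.ofAdd (⟨_, h⟩ : N)) (r := r)).symm
      · rw [show π₂ (MonoidAlgebra.single n r) = 0 from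
          _root_.Magnet.faceAlgHom_single_of_not_mem B hN (Multiplicative.toAdd n) h r, map_zero]
        exact _root_.Magnet.faceAlgHom_single_of_not_mem B hL _
          (fun hm => h (mem_N_of_mem hdiff _ (Multiplicative.toAdd n).2 hm)) r
  refine ⟨?_, ?_, fun {c d} h _ => hπ₁ h, ?_⟩
  · intro x
    refine ⟨MonoidAlgebra.mapDomainRingHom B (AddMonoidHom.toMultiplicative (AddSubmonoid.inclusion hL.le)) x, ?_⟩
    exact DFunLike.congr_fun (_root_.Magnet.faceAlgHom_comp_mapDomain B hL) x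
  · exact hcomm
  · intro a b hab
    have hsupp : ∀ m ∈ a.coeff.support, ((Multiplicative.toAdd m : L') : M) ∈ N' := by
      intro m hm
      by_contra hmN
      have hm2 : ((Multiplicative.toAdd m : L') : M) ∈ (L : Set M) \ N := by
        by_contra h
        exact hmN ((Set.ext_iff.1 hdiff _).2 ⟨(Multiplicative.toAdd m).2, h⟩)
      refine Finsupp.mem_support_iff.1 hm ?_
      have e := hcoeff a ⟨_, hm2.1⟩
      rw [show p a = q b from hab] at e
      refine e.symm.trans ?_
      exact Finsupp.mapDomain_notin_range _ _ fun ⟨n, hn⟩ => hm2.2 (by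
        have := congrArg (fun z : Multiplicative L => ((Multiplicative.toAdd z : L) : M)) hn
        exact this ▸ (Multiplicative.toAdd n).2)
    have hmem : a ∈ π₁.range := by
      rw [← MonoidAlgebra.sum_single a]
      exact Subring.sum_mem _ fun m hm =>
        ⟨MonoidAlgebra.single (Multiplicative.ofAdd ⟨_, hsupp m hm⟩) _, MonoidAlgebra.mapDomain_single⟩
    obtain ⟨c, hc⟩ := hmem
    refine ⟨c, hc, hq ?_⟩
    exact (hcomm c).symm.trans ((congrArg p hc).trans hab)

include hdiff in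
theorem face_square_comm :
    _root_.Magnet.AMonS.faceMap S hL ≫ _root_.Magnet.AMonS.map S (AddSubmonoid.inclusion hN'L') =
      _root_.Magnet.AMonS.map S (AddSubmonoid.inclusion hNL) ≫ _root_.Magnet.AMonS.faceMap S hN := by
  classical
  refine points_ext fun n => ?_
  rw [points_map, MonoidHom.comp_apply, points_faceMap,
    show _root_.Magnet.AMonS.faceMap S hL = 𝟙 _ ≫ _ from (Category.id_comp _).symm, points_faceMap]
  by_cases h : ((Multiplicative.toAdd n : N') : M) ∈ N
  · rw [dif_pos h]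
    erw [dif_pos (show ((AddSubmonoid.inclusion hN'L' (Multiplicative.toAdd n) : L') : M) ∈ L from hNL h)]
    rw [show _root_.Magnet.AMonS.map S (AddSubmonoid.inclusion hNL) = 𝟙 _ ≫ _ from (Category.id_comp _).symm,
      points_map]
    rfl
  · rw [dif_neg h]
    erw [dif_neg (show ¬((AddSubmonoid.inclusion hN'L' (Multiplicative.toAdd n) : L') : M) ∈ L from
      fun hm => h (mem_N_of_mem hdiff _ (Multiplicative.toAdd n).2 hm))]

section Glue

include hNL hL

include hdiff in
theorem face_chart_hom_ext {B : CommRingCat.{u}} (sB : Spec B ⟶ S) {X : Over S}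
    (u v : _root_.Magnet.AMonS S N' ⊗ Over.mk sB ⟶ X)
    (h₁ : (_root_.Magnet.AMonS.map S (AddSubmonoid.inclusion hN'L') ▷ Over.mk sB) ≫ u =
      (_root_.Magnet.AMonS.map S (AddSubmonoid.inclusion hN'L') ▷ Over.mk sB) ≫ v)
    (h₂ : (_root_.Magnet.AMonS.faceMap S hN ▷ Over.mk sB) ≫ u =
      (_root_.Magnet.AMonS.faceMap S hN ▷ Over.mk sB) ≫ v) : u = v := by
  have := isIso_chartHom sB N'
  rw [← cancel_epi (chartHom sB N')]
  apply Over.OverMorphism.ext
  refine (square_ring hNL hN'L' hL hN hdiff B).hom_ext ?_ ?_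
  · change (chartMap sB (AddSubmonoid.inclusion hN'L') ≫ chartHom sB N' ≫ u).left =
      (chartMap sB (AddSubmonoid.inclusion hN'L') ≫ chartHom sB N' ≫ v).left
    rw [reassoc_of% chartMap_comp_chartHom, reassoc_of% chartMap_comp_chartHom, h₁]
  · change (chartFace hN sB ≫ chartHom sB N' ≫ u).left = (chartFace hN sB ≫ chartHom sB N' ≫ v).left
    rw [reassoc_of% chartFace_comp_chartHom, reassoc_of% chartFace_comp_chartHom, h₂]

include hdiff in
theorem face_chart_desc {B : CommRingCat.{u}} (sB : Spec B ⟶ S) {X : Over S}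
    (f₁ : _root_.Magnet.AMonS S L' ⊗ Over.mk sB ⟶ X) (f₂ : _root_.Magnet.AMonS S N ⊗ Over.mk sB ⟶ X)
    (w : (_root_.Magnet.AMonS.faceMap S hL ▷ Over.mk sB) ≫ f₁ =
      (_root_.Magnet.AMonS.map S (AddSubmonoid.inclusion hNL) ▷ Over.mk sB) ≫ f₂) :
    ∃ g : _root_.Magnet.AMonS S N' ⊗ Over.mk sB ⟶ X,
      (_root_.Magnet.AMonS.map S (AddSubmonoid.inclusion hN'L') ▷ Over.mk sB) ≫ g = f₁ ∧
      (_root_.Magnet.AMonS.faceMap S hN ▷ Over.mk sB) ≫ g = f₂ := by
  have := isIso_chartHom sB N'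
  have := isIso_chartHom sB L'
  have := isIso_chartHom sB N
  have hsq := square_ring hNL hN'L' hL hN hdiff B
  obtain ⟨g, hg₁, hg₂⟩ := hsq.exists_desc (chartHom sB L' ≫ f₁).left (chartHom sB N ≫ f₂).left (by
    change (chartFace hL sB ≫ chartHom sB L' ≫ f₁).left =
      (chartMap sB (AddSubmonoid.inclusion hNL) ≫ chartHom sB N ≫ f₂).left
    rw [reassoc_of% chartFace_comp_chartHom, reassoc_of% chartMap_comp_chartHom, w])
  have hgS : g ≫ X.hom = Spec.map (chartAlg B N') ≫ sB := by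
    refine hsq.hom_ext ?_ ?_
    · rw [reassoc_of% hg₁, Over.w (chartHom sB L' ≫ f₁)]
      change Spec.map (chartAlg B L') ≫ sB = Spec.map (chartMapRing _ B) ≫ Spec.map (chartAlg B N') ≫ sB
      rw [← Spec.map_comp_assoc, chartAlg_comp_chartMapRing]
    · rw [reassoc_of% hg₂, Over.w (chartHom sB N ≫ f₂)]
      change Spec.map (chartAlg B N) ≫ sB = Spec.map (faceRing hN B) ≫ Spec.map (chartAlg B N') ≫ sB
      rw [← Spec.map_comp_assoc, chartAlg_comp_faceRing]
  let G : chartObj sB N' ⟶ X := Over.homMk g hgS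
  have hG₁ : chartMap sB (AddSubmonoid.inclusion hN'L') ≫ G = chartHom sB L' ≫ f₁ :=
    Over.OverMorphism.ext hg₁
  have hG₂ : chartFace hN sB ≫ G = chartHom sB N ≫ f₂ := Over.OverMorphism.ext hg₂
  refine ⟨inv (chartHom sB N') ≫ G, ?_, ?_⟩
  · rw [← cancel_epi (chartHom sB L'), ← reassoc_of% chartMap_comp_chartHom, IsIso.hom_inv_id_assoc, hG₁]
  · rw [← cancel_epi (chartHom sB N), ← reassoc_of% chartFace_comp_chartHom, IsIso.hom_inv_id_assoc, hG₂]

omit hNL hL in
theorem eq_of_forall_chart {A T X : Over S} (u v : A ⊗ T ⟶ X)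
    (h : ∀ (B : CommRingCat.{u}) (sB : Spec B ⟶ S) (k : Over.mk sB ⟶ T),
      (A ◁ k) ≫ u = (A ◁ k) ≫ v) : u = v := by
  apply Over.OverMorphism.ext
  let O : T.left.affineOpens → (A ⊗ T).left.Opens := fun U => (snd A T).left ⁻¹ᵁ U.1
  have hO : iSup O = ⊤ := by
    refine top_le_iff.1 fun x _ => TopologicalSpace.Opens.mem_iSup.2 ?_
    obtain ⟨_, ⟨U, hU, rfl⟩, hxU, -⟩ := T.left.isBasis_affineOpens.exists_subset_of_mem_open
      (Set.mem_univ ((snd A T).left x)) isOpen_univ
    exact ⟨⟨U, hU⟩, hxU⟩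
  refine Scheme.Cover.hom_ext ((A ⊗ T).left.openCoverOfIsOpenCover O hO) _ _ fun U => ?_
  let sB := U.2.fromSpec ≫ T.hom
  let k : Over.mk sB ⟶ T := Over.homMk U.2.fromSpec rfl
  let s : Over.mk ((O U).ι ≫ (A ⊗ T).hom) ⟶ A ⊗ T := Over.homMk (O U).ι rfl
  let l : Over.mk ((O U).ι ≫ (A ⊗ T).hom) ⟶ Over.mk sB :=
    Over.homMk (IsOpenImmersion.lift U.2.fromSpec ((O U).ι ≫ (snd A T).left) (by
      erw [IsAffineOpen.range_fromSpec]
      rintro _ ⟨x, rfl⟩
      exact x.2)) (by
      change IsOpenImmersion.lift _ _ _ ≫ U.2.fromSpec ≫ T.hom = _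
      rw [IsOpenImmersion.lift_fac_assoc, Category.assoc, Over.w (snd A T)]
      rfl)
  have hl : l ≫ k = s ≫ snd A T := Over.OverMorphism.ext (IsOpenImmersion.lift_fac _ _ _)
  have hs : s = lift (s ≫ fst A T) l ≫ (A ◁ k) := by
    rw [lift_whiskerLeft]
    apply CartesianMonoidalCategory.hom_ext <;> simp [hl]
  have e : s ≫ u = s ≫ v := by rw [hs, Category.assoc, Category.assoc, h]
  exact congrArg CommaMorphism.left e

include hdiff in
theorem face_hom_ext {T X : Over S} (u v : _root_.Magnet.AMonS S N' ⊗ T ⟶ X)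
    (h₁ : (_root_.Magnet.AMonS.map S (AddSubmonoid.inclusion hN'L') ▷ T) ≫ u =
      (_root_.Magnet.AMonS.map S (AddSubmonoid.inclusion hN'L') ▷ T) ≫ v)
    (h₂ : (_root_.Magnet.AMonS.faceMap S hN ▷ T) ≫ u = (_root_.Magnet.AMonS.faceMap S hN ▷ T) ≫ v) :
    u = v :=
  eq_of_forall_chart u v fun B sB k => face_chart_hom_ext hNL hN'L' hL hN hdiff sB _ _
    (by rw [← whisker_exchange_assoc, ← whisker_exchange_assoc, h₁])
    (by rw [← whisker_exchange_assoc, ← whisker_exchange_assoc, h₂])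

include hdiff in
theorem face_desc {T X : Over S}
    (f₁ : _root_.Magnet.AMonS S L' ⊗ T ⟶ X) (f₂ : _root_.Magnet.AMonS S N ⊗ T ⟶ X)
    (w : (_root_.Magnet.AMonS.faceMap S hL ▷ T) ≫ f₁ =
      (_root_.Magnet.AMonS.map S (AddSubmonoid.inclusion hNL) ▷ T) ≫ f₂) :
    ∃ g : _root_.Magnet.AMonS S N' ⊗ T ⟶ X,
      (_root_.Magnet.AMonS.map S (AddSubmonoid.inclusion hN'L') ▷ T) ≫ g = f₁ ∧
      (_root_.Magnet.AMonS.faceMap S hN ▷ T) ≫ g = f₂ := by
  let A := _root_.Magnet.AMonS S N'
  let jU : ∀ U : T.left.affineOpens, Over.mk (U.2.fromSpec ≫ T.hom) ⟶ T :=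
    fun U => Over.homMk U.2.fromSpec rfl
  have hloc : ∀ U : T.left.affineOpens, ∃ g : A ⊗ Over.mk (U.2.fromSpec ≫ T.hom) ⟶ X,
      (_root_.Magnet.AMonS.map S (AddSubmonoid.inclusion hN'L') ▷ _) ≫ g = (_ ◁ jU U) ≫ f₁ ∧
      (_root_.Magnet.AMonS.faceMap S hN ▷ _) ≫ g = (_ ◁ jU U) ≫ f₂ := fun U =>
    face_chart_desc hNL hN'L' hL hN hdiff (U.2.fromSpec ≫ T.hom) _ _
      (by rw [← whisker_exchange_assoc, ← whisker_exchange_assoc, w])
  choose g hg₁ hg₂ using hloc
  have hpb : ∀ U, IsPullback (A ◁ jU U).left (snd A _).left (snd A T).left (jU U).left := fun U =>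
    isPullback_whiskerLeft_left A (jU U)
  let 𝒰 : Scheme.OpenCover.{u, u} (A ⊗ T).left :=
    { I₀ := T.left.affineOpens
      X := fun U => (A ⊗ Over.mk (U.2.fromSpec ≫ T.hom)).left
      f := fun U => (A ◁ jU U).left
      mem₀ := by
        rw [Scheme.presieve₀_mem_precoverage_iff]
        refine ⟨fun x => ?_, fun U => MorphismProperty.of_isPullback (hpb U).flip
          (show IsOpenImmersion (jU U).left from inferInstanceAs (IsOpenImmersion U.2.fromSpec))⟩
        obtain ⟨_, ⟨U, hU, rfl⟩, hxU, -⟩ := T.left.isBasis_affineOpens.exists_subset_of_mem_open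
          (Set.mem_univ ((snd A T).left x)) isOpen_univ
        obtain ⟨y, hy⟩ : (snd A T).left x ∈ Set.range hU.fromSpec := hU.range_fromSpec ▸ hxU
        obtain ⟨z, hz, -⟩ := Scheme.exists_preimage_of_isPullback (hpb ⟨U, hU⟩) x y hy.symm
        exact ⟨⟨U, hU⟩, z, hz⟩ }
  have hcompat : ∀ U V, pullback.fst (𝒰.f U) (𝒰.f V) ≫ (g U).left =
      pullback.snd (𝒰.f U) (𝒰.f V) ≫ (g V).left := by
    intro U V
    let P : Over S := Over.mk (pullback.fst (𝒰.f U) (𝒰.f V) ≫ (A ⊗ Over.mk (U.2.fromSpec ≫ T.hom)).hom)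
    let p₁ : P ⟶ A ⊗ Over.mk (U.2.fromSpec ≫ T.hom) := Over.homMk (pullback.fst (𝒰.f U) (𝒰.f V)) rfl
    let p₂ : P ⟶ A ⊗ Over.mk (V.2.fromSpec ≫ T.hom) := Over.homMk (pullback.snd (𝒰.f U) (𝒰.f V)) (by
      change pullback.snd (𝒰.f U) (𝒰.f V) ≫ _ = pullback.fst (𝒰.f U) (𝒰.f V) ≫ _
      rw [← Over.w (A ◁ jU U), ← Over.w (A ◁ jU V)]
      exact (pullback.condition_assoc (f := 𝒰.f U) (g := 𝒰.f V) _).symm)
    have hP : p₁ ≫ (A ◁ jU U) = p₂ ≫ (A ◁ jU V) :=
      Over.OverMorphism.ext (pullback.condition (f := 𝒰.f U) (g := 𝒰.f V))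
    let Q : Over S := Over.mk (pullback.fst (jU U).left (jU V).left ≫ U.2.fromSpec ≫ T.hom)
    let q₁ : Q ⟶ Over.mk (U.2.fromSpec ≫ T.hom) := Over.homMk (pullback.fst (jU U).left (jU V).left) rfl
    let q₂ : Q ⟶ Over.mk (V.2.fromSpec ≫ T.hom) := Over.homMk (pullback.snd (jU U).left (jU V).left) (by
      change pullback.snd _ _ ≫ V.2.fromSpec ≫ T.hom = pullback.fst _ _ ≫ U.2.fromSpec ≫ T.hom
      exact (pullback.condition_assoc (f := (jU U).left) (g := (jU V).left) T.hom).symm)
    have hQ : q₁ ≫ jU U = q₂ ≫ jU V :=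
      Over.OverMorphism.ext (pullback.condition (f := (jU U).left) (g := (jU V).left))
    have heq : (A ◁ q₁) ≫ g U = (A ◁ q₂) ≫ g V := by
      refine face_hom_ext hNL hN'L' hL hN hdiff _ _ ?_ ?_
      · rw [← whisker_exchange_assoc, ← whisker_exchange_assoc, hg₁, hg₁, ← whiskerLeft_comp_assoc,
          ← whiskerLeft_comp_assoc, hQ]
      · rw [← whisker_exchange_assoc, ← whisker_exchange_assoc, hg₂, hg₂, ← whiskerLeft_comp_assoc,
          ← whiskerLeft_comp_assoc, hQ]
    have hb : (p₁ ≫ snd _ _).left ≫ (jU U).left = (p₂ ≫ snd _ _).left ≫ (jU V).left := by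
      have := congrArg CommaMorphism.left (hP =≫ snd A T)
      simp only [Category.assoc, whiskerLeft_snd] at this
      exact this
    let b : P ⟶ Q := Over.homMk (pullback.lift _ _ hb) (by
      change pullback.lift _ _ hb ≫ pullback.fst _ _ ≫ _ = _
      rw [pullback.lift_fst_assoc]
      exact Over.w (p₁ ≫ snd A _))
    have h₁ : p₁ = lift (p₁ ≫ fst _ _) b ≫ (A ◁ q₁) := by
      rw [lift_whiskerLeft, show b ≫ q₁ = p₁ ≫ snd _ _ from Over.OverMorphism.ext (pullback.lift_fst _ _ _)]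
      exact (lift_comp_fst_snd p₁).symm
    have h₂ : p₂ = lift (p₁ ≫ fst _ _) b ≫ (A ◁ q₂) := by
      rw [lift_whiskerLeft, show b ≫ q₂ = p₂ ≫ snd _ _ from Over.OverMorphism.ext (pullback.lift_snd _ _ _),
        show p₁ ≫ fst A _ = p₂ ≫ fst A _ by
          have := hP =≫ fst A T
          simpa only [Category.assoc, whiskerLeft_fst] using this]
      exact (lift_comp_fst_snd p₂).symm
    have key : p₁ ≫ g U = p₂ ≫ g V := by
      rw [h₁, h₂, Category.assoc, Category.assoc, heq]
    exact congrArg CommaMorphism.left key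
  let G := Scheme.Cover.glueMorphisms 𝒰 (fun U => (g U).left) hcompat
  have hGc : ∀ U, (A ◁ jU U).left ≫ G = (g U).left :=
    fun U => Scheme.Cover.ι_glueMorphisms 𝒰 _ hcompat U
  let G' : A ⊗ T ⟶ X := Over.homMk G (Scheme.Cover.hom_ext 𝒰 _ _ fun U => by
    change (A ◁ jU U).left ≫ G ≫ X.hom = (A ◁ jU U).left ≫ (A ⊗ T).hom
    rw [reassoc_of% hGc, Over.w (g U), Over.w (A ◁ jU U)])
  have hG' : ∀ U, (A ◁ jU U) ≫ G' = g U := fun U => Over.OverMorphism.ext (hGc U)
  have key : ∀ {W : Over S} (m : W ⟶ A) (f : W ⊗ T ⟶ X),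
      (∀ U, (m ▷ _) ≫ g U = (W ◁ jU U) ≫ f) → (m ▷ T) ≫ G' = f := by
    intro W m f hm
    refine eq_of_forall_chart _ _ fun B sB k => ?_
    -- refine to a chart inside one of the affine opens
    refine eq_of_forall_chart _ _ fun C sC l => ?_
    apply Over.OverMorphism.ext
    let O : T.left.affineOpens → (W ⊗ Over.mk sC).left.Opens :=
      fun U => (snd W (Over.mk sC)).left ⁻¹ᵁ ((l ≫ k).left ⁻¹ᵁ U.1)
    have hO : iSup O = ⊤ := by
      refine top_le_iff.1 fun x _ => TopologicalSpace.Opens.mem_iSup.2 ?_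
      obtain ⟨_, ⟨U, hU, rfl⟩, hxU, -⟩ := T.left.isBasis_affineOpens.exists_subset_of_mem_open
        (Set.mem_univ ((l ≫ k).left ((snd W (Over.mk sC)).left x))) isOpen_univ
      exact ⟨⟨U, hU⟩, hxU⟩
    refine Scheme.Cover.hom_ext ((W ⊗ Over.mk sC).left.openCoverOfIsOpenCover O hO) _ _ fun U => ?_
    let s : Over.mk ((O U).ι ≫ (W ⊗ Over.mk sC).hom) ⟶ W ⊗ Over.mk sC := Over.homMk (O U).ι rfl
    let c : Over.mk ((O U).ι ≫ (W ⊗ Over.mk sC).hom) ⟶ Over.mk (U.2.fromSpec ≫ T.hom) :=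
      Over.homMk (IsOpenImmersion.lift U.2.fromSpec ((s ≫ snd _ _ ≫ l ≫ k).left) (by
        erw [IsAffineOpen.range_fromSpec]
        rintro _ ⟨x, rfl⟩
        exact x.2)) (by
        change IsOpenImmersion.lift _ _ _ ≫ U.2.fromSpec ≫ T.hom = _
        rw [IsOpenImmersion.lift_fac_assoc, Over.w (s ≫ snd _ _ ≫ l ≫ k)])
    have hc : c ≫ jU U = s ≫ snd _ _ ≫ l ≫ k := Over.OverMorphism.ext (IsOpenImmersion.lift_fac _ _ _)
    have hs : s ≫ (W ◁ l) ≫ (W ◁ k) = lift (s ≫ fst _ _) c ≫ (W ◁ jU U) := by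
      rw [lift_whiskerLeft, hc, ← whiskerLeft_comp]
      apply CartesianMonoidalCategory.hom_ext <;> simp
    have e : s ≫ (W ◁ l) ≫ (W ◁ k) ≫ (m ▷ T) ≫ G' = s ≫ (W ◁ l) ≫ (W ◁ k) ≫ f := by
      rw [reassoc_of% hs, reassoc_of% hs, whisker_exchange_assoc, hG', hm]
    exact congrArg CommaMorphism.left e
  exact ⟨G', key _ f₁ hg₁, key _ f₂ hg₂⟩

include hdiff in
theorem isPushout_face :
    IsPushout (_root_.Magnet.AMonS.faceMap S hL) (_root_.Magnet.AMonS.map S (AddSubmonoid.inclusion hNL))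
      (_root_.Magnet.AMonS.map S (AddSubmonoid.inclusion hN'L')) (_root_.Magnet.AMonS.faceMap S hN) := by
  have hnat : ∀ {P Q : Over S} (m : P ⟶ Q), (m ▷ 𝟙_ (Over S)) ≫ fst Q _ = fst P _ ≫ m :=
    fun m => whiskerRight_fst _ _
  have hsec : ∀ {P Q : Over S} (m : P ⟶ Q),
      m ≫ lift (𝟙 Q) (toUnit Q) = lift (𝟙 P) (toUnit P) ≫ (m ▷ 𝟙_ (Over S)) := by
    intro P Q m
    rw [lift_whiskerRight, comp_lift, Category.comp_id, Category.id_comp,
      toUnit_unique (m ≫ toUnit Q) (toUnit P)]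
  have hiso : ∀ P : Over S, lift (𝟙 P) (toUnit P) ≫ fst P (𝟙_ (Over S)) = 𝟙 P := fun P => lift_fst _ _
  refine IsPushout.of_isColimit' ⟨face_square_comm hNL hN'L' hL hN hdiff⟩ (PushoutCocone.IsColimit.mk _
    (fun s => lift (𝟙 _) (toUnit _) ≫ (face_desc (T := 𝟙_ (Over S)) hNL hN'L' hL hN hdiff
      (fst _ _ ≫ s.inl) (fst _ _ ≫ s.inr)
      (by rw [reassoc_of% hnat, reassoc_of% hnat, s.condition])).choose)
    (fun s => ?_) (fun s => ?_) fun s m h₁ h₂ => ?_)
  · have := (face_desc (T := 𝟙_ (Over S)) hNL hN'L' hL hN hdiff (fst _ _ ≫ s.inl) (fst _ _ ≫ s.inr)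
      (by rw [reassoc_of% hnat, reassoc_of% hnat, s.condition])).choose_spec.1
    rw [reassoc_of% hsec (_root_.Magnet.AMonS.map S (AddSubmonoid.inclusion hN'L')), this, lift_fst_assoc, Category.id_comp]
  · have := (face_desc (T := 𝟙_ (Over S)) hNL hN'L' hL hN hdiff (fst _ _ ≫ s.inl) (fst _ _ ≫ s.inr)
      (by rw [reassoc_of% hnat, reassoc_of% hnat, s.condition])).choose_spec.2
    rw [reassoc_of% hsec (_root_.Magnet.AMonS.faceMap S hN), this, lift_fst_assoc, Category.id_comp]
  · have hspec := (face_desc (T := 𝟙_ (Over S)) hNL hN'L' hL hN hdiff (fst _ _ ≫ s.inl) (fst _ _ ≫ s.inr)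
      (by rw [reassoc_of% hnat, reassoc_of% hnat, s.condition])).choose_spec
    rw [show (face_desc (T := 𝟙_ (Over S)) hNL hN'L' hL hN hdiff (fst _ _ ≫ s.inl) (fst _ _ ≫ s.inr)
      (by rw [reassoc_of% hnat, reassoc_of% hnat, s.condition])).choose = fst _ _ ≫ m from
      face_hom_ext hNL hN'L' hL hN hdiff _ _ (by rw [hspec.1, reassoc_of% hnat, h₁])
        (by rw [hspec.2, reassoc_of% hnat, h₂]), lift_fst_assoc, Category.id_comp]

end Glue

/-- The square of attractors. -/
theorem isPullback_attr_face {M : Type} [AddCommMonoid M] {N N' L L' : AddSubmonoid M} (hNL : N ≤ L)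
    (hN'L' : N' ≤ L') (hL : _root_.Magnet.IsFace L' L) (hN : _root_.Magnet.IsFace N' N)
    (hdiff : (N' : Set M) = (L' : Set M) \ ((L : Set M) \ (N : Set M))) {X : Over S}
    (a : _root_.Magnet.MonAct (_root_.Magnet.AMonS S M) X) :
    IsPullback (_root_.Magnet.attrMap a hN'L') (_root_.Magnet.attrFace a hN)
      (_root_.Magnet.attrFace a hL) (_root_.Magnet.attrMap a hNL) := by
  refine IsPullback.of_forall_isPullback_app fun T => (Types.isPullback_iff _ _ _ _).2 ⟨?_, ?_, ?_⟩
  · ext φ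
    refine Subtype.ext ?_
    change (_root_.Magnet.AMonS.faceMap S hL ▷ unop T) ≫
        (_root_.Magnet.AMonS.map S (AddSubmonoid.inclusion hN'L') ▷ unop T) ≫ φ.1 =
      (_root_.Magnet.AMonS.map S (AddSubmonoid.inclusion hNL) ▷ unop T) ≫
        (_root_.Magnet.AMonS.faceMap S hN ▷ unop T) ≫ φ.1
    rw [← comp_whiskerRight_assoc, face_square_comm hNL hN'L' hL hN hdiff, comp_whiskerRight_assoc]
  · rintro φ ψ ⟨h₁, h₂⟩
    exact Subtype.ext (face_hom_ext hNL hN'L' hL hN hdiff _ _ (congrArg Subtype.val h₁)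
      (congrArg Subtype.val h₂))
  · intro φ₁ φ₂ h
    obtain ⟨g, hg₁, hg₂⟩ := face_desc hNL hN'L' hL hN hdiff φ₁.1 φ₂.1 (congrArg Subtype.val h)
    refine ⟨⟨g, ?_⟩, Subtype.ext hg₁, Subtype.ext hg₂⟩
    let A := _root_.Magnet.AMonS S M
    let σ : ∀ W : Over S, W ⊗ (A ⊗ unop T) ⟶ A ⊗ (W ⊗ unop T) :=
      fun W => lift (snd _ _ ≫ fst _ _) (lift (fst _ _) (snd _ _ ≫ snd _ _))
    let τ : A ⊗ (_root_.Magnet.AMonS S N' ⊗ unop T) ⟶ _root_.Magnet.AMonS S N' ⊗ (A ⊗ unop T) :=
      lift (snd _ _ ≫ fst _ _) (lift (fst _ _) (snd _ _ ≫ snd _ _))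
    have hτσ : τ ≫ σ _ = 𝟙 _ := by
      apply CartesianMonoidalCategory.hom_ext
      · simp [σ, τ]
      · apply CartesianMonoidalCategory.hom_ext <;> simp [σ, τ]
    change ((_root_.Magnet.subAct S M N').prod (_root_.Magnet.MonAct.trivial A (unop T))).act ≫ g =
      (A ◁ g) ≫ a.act
    rw [← Category.id_comp (((_root_.Magnet.subAct S M N').prod (_root_.Magnet.MonAct.trivial A (unop T))).act ≫ g),
      ← Category.id_comp ((A ◁ g) ≫ a.act), ← hτσ, Category.assoc, Category.assoc]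
    congr 1
    have hnat : ∀ {W : Over S} (ρW : _root_.Magnet.MonAct A W) (m : W ⟶ _root_.Magnet.AMonS S N')
        (ψ : W ⊗ unop T ⟶ X),
        (A ◁ m) ≫ (_root_.Magnet.subAct S M N').act = ρW.act ≫ m → (m ▷ unop T) ≫ g = ψ →
        (ρW.prod (_root_.Magnet.MonAct.trivial A (unop T))).act ≫ ψ = (A ◁ ψ) ≫ a.act →
        (m ▷ (A ⊗ unop T)) ≫ σ _ ≫
            ((_root_.Magnet.subAct S M N').prod (_root_.Magnet.MonAct.trivial A (unop T))).act ≫ g =
          (m ▷ (A ⊗ unop T)) ≫ σ _ ≫ (A ◁ g) ≫ a.act := by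
      intro W ρW m ψ hm hψ heq
      apply _root_.Magnet.hom_ext_lift₂
      intro T' w z
      rw [← lift_comp_fst_snd z]
      generalize z ≫ fst _ _ = c
      generalize z ≫ snd _ _ = t
      have hσ : ∀ {V : Over S} (v : T' ⟶ V), lift v (lift c t) ≫ σ V = lift c (lift v t) := by
        intro V v; simp [σ]
      rw [lift_whiskerRight_assoc, lift_whiskerRight_assoc, reassoc_of% hσ, reassoc_of% hσ,
        lift_whiskerLeft_assoc, ← lift_whiskerRight_assoc, hψ,
        _root_.Magnet.MonAct.lift_prod_act_assoc, _root_.Magnet.MonAct.lift_trivial_act,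
        ← lift_whiskerLeft, Category.assoc, hm, ← Category.assoc (lift c w), ← lift_whiskerRight_assoc, hψ]
      have e := congrArg (fun q => lift c (lift w t) ≫ q) heq
      simp only [_root_.Magnet.MonAct.lift_prod_act_assoc, _root_.Magnet.MonAct.lift_trivial_act,
        lift_whiskerLeft_assoc] at e
      exact e
    refine face_hom_ext hNL hN'L' hL hN hdiff _ _ ?_ ?_
    · refine hnat (_root_.Magnet.subAct S M L') _ φ₁.1 ?_ hg₁ φ₁.2
      exact (_root_.Magnet.MonAct.isEquivariant_restrict_regular _ _ _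
        (by rw [← _root_.Magnet.AMonS.map_comp]; rfl)).symm
    · refine hnat (_root_.Magnet.subAct S M N) _ φ₂.1 ?_ hg₂ φ₂.2
      exact (_root_.Magnet.isEquivariant_faceMapS S hN).symm

end Groth.Agent.Magnet
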