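import Groth.Agent.Magnet.Extend
import Groth.Agent.Magnet.ClosedSub
import Mathlib.RingTheory.TensorProduct.Free
import Mathlib.LinearAlgebra.Basis.VectorSpace

/-!
# Equivariant maps from a monoid into an affine scheme with a group action, over a field
-/

set_option autoImplicit false
set_option backward.isDefEq.respectTransparency false
set_option backward.isDefEq.respectTransparency.types false
set_option linter.style.haveILetI false
set_option maxHeartbeats 400000

universe u

open CategoryTheory CategoryTheory.Limits MonoidalCategory CartesianMonoidalCategory AlgebraicGeometry Opposite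
open scoped MonObj TensorProduct

attribute [-instance] Red.grpObj_bc AlgebraicGeometry.instGrpObjSpecAsOverSpec
  AlgebraicGeometry.instCommGrpObjSpecAsOverSpec

noncomputable section

namespace Groth.Agent.Magnet

variable (k : Type u) [Field k]

/-- A vector is in the image iff all functionals vanishing on the image kill it. -/
theorem mem_range_rTensor_iff {P Q C : Type u} [AddCommGroup P] [Module k P] [AddCommGroup Q]
    [Module k Q] [AddCommGroup C] [Module k C] (inc : P →ₗ[k] Q) (hinc : Function.Injective inc)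
    (y : Q ⊗[k] C) : y ∈ LinearMap.range (inc.rTensor C) ↔
      ∀ l : Q →ₗ[k] k, l ∘ₗ inc = 0 → TensorProduct.lid k C (l.rTensor C y) = 0 := by
  constructor
  · rintro ⟨z, rfl⟩ l hl
    rw [← LinearMap.comp_apply (l.rTensor C), ← LinearMap.rTensor_comp, hl, LinearMap.rTensor_zero]
    simp
  · intro h
    obtain ⟨π, hπ⟩ := LinearMap.exists_leftInverse_of_injective inc (LinearMap.ker_eq_bot.2 hinc)
    let p := LinearMap.id - inc ∘ₗ π
    have hp : p.rTensor C y = 0 := by
      classical
      let b := Module.Basis.ofVectorSpace k Q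
      apply (TensorProduct.equivFinsuppOfBasisLeft b).injective
      rw [map_zero]
      ext j
      have hl : (b.coord j ∘ₗ p) ∘ₗ inc = 0 := by
        rw [LinearMap.comp_assoc, show p ∘ₗ inc = 0 by
          simp [p, LinearMap.sub_comp, LinearMap.comp_assoc, hπ], LinearMap.comp_zero]
      have key : ∀ z : Q ⊗[k] C, TensorProduct.equivFinsuppOfBasisLeft b z j =
          TensorProduct.lid k C ((b.coord j).rTensor C z) := by
        intro z
        induction z using TensorProduct.induction_on with
        | zero => simp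
        | tmul q c => simp
        | add z₁ z₂ h₁ h₂ => simp [h₁, h₂]
      rw [key, ← LinearMap.comp_apply, ← LinearMap.rTensor_comp]
      exact h _ hl
    refine ⟨π.rTensor C y, ?_⟩
    rw [LinearMap.rTensor_sub, LinearMap.rTensor_id, LinearMap.sub_apply, LinearMap.id_apply,
      sub_eq_zero] at hp
    rw [← LinearMap.comp_apply, ← LinearMap.rTensor_comp]
    exact hp.symm

/-- A ring map to `Q ⊗ R` followed by change of coefficients factors through `P ⊗ C` iff the components
off `P` vanish in `C`. -/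
theorem exists_factor_field_iff {P Q R C : Type u} [CommRing P] [Algebra k P] [CommRing Q] [Algebra k Q]
    [CommRing R] [Algebra k R] [CommRing C] [Algebra k C] (inc : P →ₐ[k] Q) (hinc : Function.Injective inc)
    (ω : R →ₐ[k] Q ⊗[k] R) (ψ : R →ₐ[k] C) :
    (∃ θ : R →ₐ[k] P ⊗[k] C, (Algebra.TensorProduct.map inc (AlgHom.id k C)).comp θ =
      (Algebra.TensorProduct.map (AlgHom.id k Q) ψ).comp ω) ↔
    Ideal.span {x : R | ∃ (l : Q →ₗ[k] k) (r : R), l ∘ₗ inc.toLinearMap = 0 ∧
      x = TensorProduct.lid k R (l.rTensor R (ω r))} ≤ RingHom.ker ψ := by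
  let ρ := Algebra.TensorProduct.map inc (AlgHom.id k C)
  have hρ : ∀ z, ρ z = inc.toLinearMap.rTensor C z := by
    intro z
    induction z using TensorProduct.induction_on with
    | zero => simp
    | tmul q c => simp [ρ]
    | add z₁ z₂ h₁ h₂ => rw [map_add, map_add, h₁, h₂]
  have hnat : ∀ (l : Q →ₗ[k] k) (z : Q ⊗[k] R),
      TensorProduct.lid k C (l.rTensor C (Algebra.TensorProduct.map (AlgHom.id k Q) ψ z)) =
        ψ (TensorProduct.lid k R (l.rTensor R z)) := by
    intro l z
    induction z using TensorProduct.induction_on with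
    | zero => simp
    | tmul q c => simp
    | add z₁ z₂ h₁ h₂ => simp [h₁, h₂]
  constructor
  · rintro ⟨θ, hθ⟩
    rw [Ideal.span_le]
    rintro x ⟨l, r, hl, rfl⟩
    rw [SetLike.mem_coe, RingHom.mem_ker, ← hnat]
    refine (mem_range_rTensor_iff k inc.toLinearMap hinc _).1 ⟨θ r, ?_⟩ l hl
    rw [← hρ]
    exact DFunLike.congr_fun hθ r
  · intro h
    have hmem : ∀ r, Algebra.TensorProduct.map (AlgHom.id k Q) ψ (ω r) ∈ ρ.range := by
      intro r
      obtain ⟨z, hz⟩ := (mem_range_rTensor_iff k inc.toLinearMap hinc _).2 fun l hl => by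
        rw [hnat]
        exact h (Ideal.subset_span ⟨l, r, hl, rfl⟩)
      exact ⟨z, (hρ z).trans hz⟩
    have hinj : Function.Injective ρ := by
      intro a b e
      obtain ⟨π, hπ⟩ := LinearMap.exists_leftInverse_of_injective inc.toLinearMap
        (LinearMap.ker_eq_bot.2 hinc)
      rw [hρ, hρ] at e
      have := congrArg (π.rTensor C) e
      rwa [← LinearMap.comp_apply, ← LinearMap.comp_apply, ← LinearMap.rTensor_comp, hπ,
        LinearMap.rTensor_id] at this
    let e := AlgEquiv.ofInjective ρ hinj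
    refine ⟨e.symm.toAlgHom.comp
      (((Algebra.TensorProduct.map (AlgHom.id k Q) ψ).comp ω).codRestrict ρ.range hmem),
      AlgHom.ext fun r => ?_⟩
    exact congrArg Subtype.val (e.apply_symm_apply ⟨_, hmem r⟩)

/-- The spectrum of an algebra as a scheme over `k`. -/
def specObj (A : Type u) [CommRing A] [Algebra k A] : Over (Spec (CommRingCat.of k)) :=
  Over.mk (Spec.map (CommRingCat.ofHom (algebraMap k A)))

variable {k}

/-- The morphism of spectra induced by an algebra map. -/
def specHom {A B : Type u} [CommRing A] [Algebra k A] [CommRing B] [Algebra k B] (f : A →ₐ[k] B) :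
    specObj k B ⟶ specObj k A :=
  Over.homMk (Spec.map (CommRingCat.ofHom f.toRingHom)) (by
    change Spec.map _ ≫ Spec.map _ = Spec.map _
    rw [← Spec.map_comp]
    congr 1
    exact CommRingCat.hom_ext f.comp_algebraMap)

theorem exists_specHom {A B : Type u} [CommRing A] [Algebra k A] [CommRing B] [Algebra k B]
    (g : specObj k B ⟶ specObj k A) : ∃ f : A →ₐ[k] B, specHom f = g := by
  let h := Spec.preimage g.left
  have hh : CommRingCat.ofHom (algebraMap k A) ≫ h = CommRingCat.ofHom (algebraMap k B) := by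
    apply Spec.map_injective
    rw [Spec.map_comp, Spec.map_preimage]
    exact Over.w g
  refine ⟨{ h.hom with commutes' := fun r => ConcreteCategory.congr_hom hh r }, ?_⟩
  apply Over.OverMorphism.ext
  exact Spec.map_preimage g.left

theorem specHom_injective {A B : Type u} [CommRing A] [Algebra k A] [CommRing B] [Algebra k B]
    {f f' : A →ₐ[k] B} (h : specHom f = specHom f') : f = f' := by
  have := Spec.map_injective (congrArg CommaMorphism.left h)
  exact AlgHom.ext fun a => ConcreteCategory.congr_hom this a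

theorem specHom_comp {A B D : Type u} [CommRing A] [Algebra k A] [CommRing B] [Algebra k B]
    [CommRing D] [Algebra k D] (f : A →ₐ[k] B) (g : B →ₐ[k] D) :
    specHom (g.comp f) = specHom g ≫ specHom f := by
  apply Over.OverMorphism.ext
  exact Spec.map_comp (CommRingCat.ofHom f.toRingHom) (CommRingCat.ofHom g.toRingHom)

/-- `Spec (A ⊗ B)` as a product. -/
def specProd (A B : Type u) [CommRing A] [Algebra k A] [CommRing B] [Algebra k B] :
    specObj k (A ⊗[k] B) ⟶ specObj k A ⊗ specObj k B :=
  lift (specHom Algebra.TensorProduct.includeLeft) (specHom Algebra.TensorProduct.includeRight)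

theorem isIso_lift_of_isPullback {S : Scheme.{u}} {T X Y : Over S} (f : T ⟶ X) (g : T ⟶ Y)
    (h : IsPullback f.left g.left X.hom Y.hom) : IsIso (lift f g) := by
  have w : (fst X Y).left ≫ X.hom = (snd X Y).left ≫ Y.hom := by rw [Over.w, Over.w]
  let d : X ⊗ Y ⟶ T := Over.homMk (h.lift (fst X Y).left (snd X Y).left w) (by
    rw [← Over.w f, h.lift_fst_assoc, Over.w (fst X Y)])
  have hf : d ≫ f = fst X Y := Over.OverMorphism.ext (h.lift_fst _ _ _)
  have hg : d ≫ g = snd X Y := Over.OverMorphism.ext (h.lift_snd _ _ _)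
  refine ⟨d, ?_, ?_⟩
  · apply Over.OverMorphism.ext
    apply h.hom_ext
    · change ((lift f g ≫ d) ≫ f).left = (𝟙 T ≫ f).left
      rw [Category.assoc, hf, lift_fst, Category.id_comp]
    · change ((lift f g ≫ d) ≫ g).left = (𝟙 T ≫ g).left
      rw [Category.assoc, hg, lift_snd, Category.id_comp]
  · apply CartesianMonoidalCategory.hom_ext
    · rw [Category.assoc, lift_fst, hf, Category.id_comp]
    · rw [Category.assoc, lift_snd, hg, Category.id_comp]

theorem isIso_specProd (A B : Type u) [CommRing A] [Algebra k A] [CommRing B] [Algebra k B] :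
    IsIso (specProd (k := k) A B) :=
  isIso_lift_of_isPullback _ _
    (isPullback_SpecMap_of_isPushout _ _ _ _ (CommRingCat.isPushout_tensorProduct k A B))

theorem specProd_map {A A' B B' : Type u} [CommRing A] [Algebra k A] [CommRing B] [Algebra k B]
    [CommRing A'] [Algebra k A'] [CommRing B'] [Algebra k B'] (f : A →ₐ[k] A') (g : B →ₐ[k] B') :
    specHom (Algebra.TensorProduct.map f g) ≫ specProd A B = specProd A' B' ≫ (specHom f ⊗ₘ specHom g) := by
  apply CartesianMonoidalCategory.hom_ext
  · simp only [specProd, Category.assoc, lift_fst, tensorHom_fst, lift_fst_assoc, ← specHom_comp]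
    rw [Algebra.TensorProduct.map_comp_includeLeft]
  · simp only [specProd, Category.assoc, lift_snd, tensorHom_snd, lift_snd_assoc, ← specHom_comp]
    rw [Algebra.TensorProduct.map_comp_includeRight]

theorem injective_of_isSchemeTheoreticallyDominant {A B : Type u} [CommRing A] [Algebra k A]
    [CommRing B] [Algebra k B] (f : A →ₐ[k] B) [IsSchemeTheoreticallyDominant (specHom f).left] :
    Function.Injective f := by
  have hq : QuasiCompact (Spec.map (CommRingCat.ofHom f.toRingHom)) := inferInstance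
  have h : (Spec.map (CommRingCat.ofHom f.toRingHom)).ker = ⊥ := (specHom f).left.ker_eq_bot
  have h' := congrArg (fun K => K.ideal ⟨⊤, isAffineOpen_top _⟩) h
  simp only [Scheme.Hom.ker_apply, Scheme.IdealSheafData.ideal_bot, Pi.bot_apply] at h'
  have hi : Function.Injective (Spec.map (CommRingCat.ofHom f.toRingHom)).appTop :=
    (RingHom.injective_iff_ker_eq_bot _).2 h'
  intro a b e
  refine (ConcreteCategory.bijective_of_isIso (Scheme.ΓSpecIso (CommRingCat.of A)).inv).1 (hi ?_)
  refine (ConcreteCategory.congr_hom (Scheme.ΓSpecIso_inv_naturality (CommRingCat.ofHom f.toRingHom)) a).symm.trans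
    (Eq.trans ?_ (ConcreteCategory.congr_hom
      (Scheme.ΓSpecIso_inv_naturality (CommRingCat.ofHom f.toRingHom)) b))
  exact congrArg (Scheme.ΓSpecIso (CommRingCat.of B)).inv e

/-- An affine scheme over `k` is a spectrum. -/
theorem exists_specObj_iso (M : Over (Spec (CommRingCat.of k))) [IsAffine M.left] :
    ∃ (_ : Algebra k Γ(M.left, ⊤)) (e : specObj k Γ(M.left, ⊤) ≅ M), e.hom.left = M.left.isoSpec.inv := by
  let g : CommRingCat.of k ⟶ Γ(M.left, ⊤) := Spec.preimage (M.left.isoSpec.inv ≫ M.hom)
  let _ : Algebra k Γ(M.left, ⊤) := g.hom.toAlgebra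
  exact ⟨‹_›, Over.isoMk M.left.isoSpec.symm (Spec.map_preimage _).symm, rfl⟩

variable {M G X : Over (Spec (CommRingCat.of k))} [MonObj M] [MonObj G] [IsAffine M.left]
  [IsAffine G.left] [IsAffine X.left] (i : G ⟶ M) [IsMonHom i] [IsSchemeTheoreticallyDominant i.left]
  (a : _root_.Magnet.MonAct G X)

theorem exists_extends_ideal [Algebra k Γ(X.left, ⊤)] (eX : specObj k Γ(X.left, ⊤) ≅ X) :
    ∃ L : Ideal Γ(X.left, ⊤), ∀ (C : Type u) [CommRing C] [Algebra k C] (ψ : Γ(X.left, ⊤) →ₐ[k] C),
      Extends i a (specHom ψ ≫ eX.hom) ↔ L ≤ RingHom.ker ψ := by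
  obtain ⟨_, eM, -⟩ := exists_specObj_iso M
  obtain ⟨_, eG, -⟩ := exists_specObj_iso G
  obtain ⟨inc, hinc⟩ := exists_specHom (eG.hom ≫ i ≫ eM.inv)
  have : IsSchemeTheoreticallyDominant (specHom inc).left := by
    have := (Over.forget _).map_isIso eG.hom
    have := (Over.forget _).map_isIso eM.inv
    have h1 : IsSchemeTheoreticallyDominant eG.hom.left :=
      inferInstanceAs (IsSchemeTheoreticallyDominant ((Over.forget _).map eG.hom))
    have h2 : IsSchemeTheoreticallyDominant eM.inv.left :=
      inferInstanceAs (IsSchemeTheoreticallyDominant ((Over.forget _).map eM.inv))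
    rw [hinc, Over.comp_left, Over.comp_left]
    infer_instance
  have hinj := injective_of_isSchemeTheoreticallyDominant inc
  let R := Γ(X.left, ⊤)
  have := isIso_specProd (k := k) Γ(G.left, ⊤) R
  obtain ⟨ω, hω⟩ := exists_specHom
    (specProd Γ(G.left, ⊤) R ≫ (eG.hom ⊗ₘ eX.hom) ≫ a.act ≫ eX.inv)
  refine ⟨Ideal.span {x : R | ∃ (l : Γ(G.left, ⊤) →ₗ[k] k) (r : R), l ∘ₗ inc.toLinearMap = 0 ∧
      x = TensorProduct.lid k R (l.rTensor R (ω r))}, fun C _ _ ψ => ?_⟩
  rw [← exists_factor_field_iff k inc hinj ω ψ]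
  have := isIso_specProd (k := k) Γ(G.left, ⊤) C
  have := isIso_specProd (k := k) Γ(M.left, ⊤) C
  let tM := specProd Γ(M.left, ⊤) C ≫ (eM.hom ▷ specObj k C)
  let tG := specProd Γ(G.left, ⊤) C ≫ (eG.hom ▷ specObj k C)
  have hG : tG ≫ (G ◁ (specHom ψ ≫ eX.hom)) ≫ a.act =
      specHom ((Algebra.TensorProduct.map (AlgHom.id k _) ψ).comp ω) ≫ eX.hom := by
    rw [specHom_comp, hω, Category.assoc, reassoc_of% specProd_map]
    have e1 : specHom (AlgHom.id k Γ(G.left, ⊤)) = 𝟙 _ :=
      Over.OverMorphism.ext (Spec.map_id _)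
    simp only [tG, e1, Category.assoc, Iso.inv_hom_id, Category.comp_id]
    congr 1
    simp only [← Category.assoc]
    congr 1
    apply CartesianMonoidalCategory.hom_ext
    · simp [R]
    · simp [R]
  have hMG : specHom (Algebra.TensorProduct.map inc (AlgHom.id k C)) ≫ tM = tG ≫ (i ▷ specObj k C) := by
    have e1 : specHom (AlgHom.id k C) = 𝟙 _ := Over.OverMorphism.ext (Spec.map_id _)
    rw [← Category.assoc, specProd_map, hinc, e1]
    simp only [tG, Category.assoc]
    congr 1
    apply CartesianMonoidalCategory.hom_ext <;> simp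
  constructor
  · rintro ⟨φ, hφ⟩
    obtain ⟨θ, hθ⟩ := exists_specHom (tM ≫ φ ≫ eX.inv)
    refine ⟨θ, specHom_injective ?_⟩
    rw [← cancel_mono eX.hom, ← hG, specHom_comp, hθ]
    simp only [Category.assoc, Iso.inv_hom_id, Category.comp_id]
    rw [reassoc_of% hMG, hφ]
  · rintro ⟨θ, hθ⟩
    refine ⟨inv tM ≫ specHom θ ≫ eX.hom, ?_⟩
    rw [← cancel_epi tG, hG, ← reassoc_of% hMG, IsIso.hom_inv_id_assoc, ← hθ, specHom_comp,
      Category.assoc]

theorem exists_eqvHom_closed [QuasiCompact i.left] :
    ∃ (Z : Over (Spec (CommRingCat.of k))) (j : Z ⟶ X)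
      (e : (_root_.Magnet.MonAct.eqvHom ((_root_.Magnet.MonAct.regular M).restrict i) a).RepresentableBy Z),
      IsClosedImmersion j.left ∧ ∀ (T : Over (Spec (CommRingCat.of k))) (z : T ⟶ Z),
        (_root_.Magnet.MonAct.eqvHom.evalAt ((_root_.Magnet.MonAct.regular M).restrict i) a η[M]).app
          (op T) (e.homEquiv z) = z ≫ j := by
  have : IsSeparated X.hom := inferInstance
  refine exists_representableBy_of_local_ideal (fun T u v h => ?_) fun p => ?_
  · have := isSchemeTheoreticallyDominant_whiskerRight i T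
    exact Over.OverMorphism.ext (Groth.Agent.NeronLib.ext_of_schemeTheoreticallyDominant X.hom
      ((Over.w u).trans (Over.w v).symm) (i ▷ T).left (congrArg CommaMorphism.left h))
  obtain ⟨_, eX, heX⟩ := exists_specObj_iso X
  obtain ⟨L, hL⟩ := exists_extends_ideal i a eX
  refine ⟨⟨⊤, isAffineOpen_top _⟩, trivial, L, fun C ψ => ?_⟩
  let _ : Algebra k C := (ψ.hom.comp (algebraMap k Γ(X.left, ⊤))).toAlgebra
  let ψ' : Γ(X.left, ⊤) →ₐ[k] C := { ψ.hom with commutes' := fun _ => rfl }
  refine Iff.trans ?_ (hL C ψ')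
  let x : Over.mk ((Spec.map ψ ≫ (isAffineOpen_top X.left).fromSpec) ≫ X.hom) ⟶ X :=
    Over.homMk (Spec.map ψ ≫ (isAffineOpen_top X.left).fromSpec) rfl
  have he : (isAffineOpen_top X.left).fromSpec = eX.hom.left := by
    rw [heX, IsAffineOpen.fromSpec_top]
  have hw : ((Spec.map ψ ≫ (isAffineOpen_top X.left).fromSpec) ≫ X.hom) = (specObj k C).hom := by
    rw [he, Category.assoc, Over.w eX.hom]
    exact Over.w (specHom ψ')
  let e : specObj k C ⟶ Over.mk ((Spec.map ψ ≫ (isAffineOpen_top X.left).fromSpec) ≫ X.hom) :=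
    Over.homMk (𝟙 _) (by change 𝟙 _ ≫ _ = _; rw [Category.id_comp]; exact hw)
  let e' : Over.mk ((Spec.map ψ ≫ (isAffineOpen_top X.left).fromSpec) ≫ X.hom) ⟶ specObj k C :=
    Over.homMk (𝟙 _) (by change 𝟙 _ ≫ _ = _; rw [Category.id_comp]; exact hw.symm)
  have h1 : e ≫ x = specHom ψ' ≫ eX.hom := by
    apply Over.OverMorphism.ext
    change 𝟙 _ ≫ Spec.map ψ ≫ _ = Spec.map ψ ≫ eX.hom.left
    rw [he, Category.id_comp]
  have h2 : e' ≫ specHom ψ' ≫ eX.hom = x := by
    apply Over.OverMorphism.ext
    change 𝟙 _ ≫ Spec.map ψ ≫ eX.hom.left = Spec.map ψ ≫ _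
    rw [he, Category.id_comp]
  exact ⟨fun h => by rw [← h1]; exact (show Extends i a x from h).comp e,
    fun h => show Extends i a x by rw [← h2]; exact h.comp e'⟩

end Groth.Agent.Magnet
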