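import Groth.Agent.Magnet.Sheaf
import Groth.Prelude.Def_Magnet3
import Groth.Agent.AlgSpc.FppfGlue
import Groth.Agent.FpqcDescent.Embedding
import Groth.Prelude.Def_Magnet2

/-!
# The fixed-point subscheme descends along fixed-point reflecting covers
-/

set_option autoImplicit false
set_option backward.isDefEq.respectTransparency false
set_option backward.isDefEq.respectTransparency.types false

universe u

open CategoryTheory CategoryTheory.Limits MonoidalCategory CartesianMonoidalCategory AlgebraicGeometry Opposite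
open scoped MonObj

noncomputable section

namespace Groth.Agent.Magnet

open _root_.Magnet.MonAct

variable {S : Scheme.{u}} {A X U : Over S} [MonObj A]

theorem exists_representableBy_fixedPsh_of_cover (aX : _root_.Magnet.MonAct A X)
    (aU : _root_.Magnet.MonAct A U) (f : U ⟶ X) [Flat f.left] [LocallyOfFinitePresentation f.left]
    [Surjective f.left] (hf : IsEquivariant aU aX f)
    (hfpr : IsPullback (fixedPsh.map f hf) (fixedPshι aU) (fixedPshι aX) (yoneda.map f))
    {W' : Over S} (i' : W' ⟶ U) [IsClosedImmersion i'.left] (e' : (fixedPsh aU).RepresentableBy W')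
    (he' : ∀ (T : Over S) (w : T ⟶ W'), (fixedPshι aU).app (op T) (e'.homEquiv w) = w ≫ i') :
    ∃ (W : Over S) (i : W ⟶ X) (e : (fixedPsh aX).RepresentableBy W),
      IsClosedImmersion i.left ∧ ∀ (T : Over S) (w : T ⟶ W),
        (fixedPshι aX).app (op T) (e.homEquiv w) = w ≫ i := by
  have : (QuotSh.J Scheme.fppfPrecoverage S).Subcanonical :=
    inferInstanceAs ((Scheme.fppfTopology.over S).Subcanonical)
  let UL : Type u ⥤ Type (u + 1) := uliftFunctor.{u + 1}
  let D : _root_.AlgSp.Sp S :=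
    ⟨fixedPsh aX ⋙ UL, GrothendieckTopology.HasSheafCompose.isSheaf _ (isSheaf_fixedPsh _ aX)⟩
  let g : D ⟶ (_root_.AlgSp.yon S).obj X := ⟨Functor.whiskerRight (fixedPshι aX) UL⟩
  let k : yoneda.obj W' ⟶ fixedPsh aX := e'.toIso.hom ≫ fixedPsh.map f hf
  have hi : e'.toIso.hom ≫ fixedPshι aU = yoneda.map i' := by
    ext T w
    exact he' (unop T) w
  have hk : IsPullback k (yoneda.map i') (fixedPshι aX) (yoneda.map f) := by
    refine hfpr.of_iso e'.toIso.symm (Iso.refl _) (Iso.refl _) (Iso.refl _) ?_ ?_ ?_ ?_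
    · simp [k]
    · rw [Iso.symm_hom, ← hi, Iso.inv_hom_id_assoc, Iso.refl_hom, Category.comp_id]
    · simp
    · simp
  let qW : (_root_.AlgSp.yon S).obj W' ⟶ D := ⟨Functor.whiskerRight k UL⟩
  have sq : IsPullback qW ((_root_.AlgSp.yon S).map i') g ((_root_.AlgSp.yon S).map f) := by
    refine IsPullback.of_map (F := sheafToPresheaf _ _) ?_
      (hk.map ((Functor.whiskeringRight _ _ _).obj UL))
    apply (sheafToPresheaf _ _).map_injective
    exact (hk.map ((Functor.whiskeringRight _ _ _).obj UL)).w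
  obtain ⟨V, ⟨eV⟩⟩ := Groth.Agent.AlgSpc.FppfDescent.exists_yon_iso_of_fppf_cover g f sq
  obtain ⟨i, hVi⟩ : ∃ i : V ⟶ X, (_root_.AlgSp.yon S).map i = eV.hom ≫ g :=
    ⟨_, Functor.map_preimage _ _⟩
  obtain ⟨j, hj⟩ : ∃ j : W' ⟶ V, (_root_.AlgSp.yon S).map j = qW ≫ eV.inv :=
    ⟨_, Functor.map_preimage _ _⟩
  have sqV : IsPullback j i' i f := by
    refine IsPullback.of_map (F := _root_.AlgSp.yon S) ?_ ?_
    · apply (_root_.AlgSp.yon S).map_injective
      rw [Functor.map_comp, Functor.map_comp, hj, hVi, Category.assoc, Iso.inv_hom_id_assoc, sq.w]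
    · refine sq.of_iso (Iso.refl _) eV.symm (Iso.refl _) (Iso.refl _) ?_ ?_ ?_ ?_
      · simp [hj]
      · simp
      · simp [hVi]
      · simp
  let eT : ∀ T : Over S, (T ⟶ V) ≃ (fixedPsh aX).obj (op T) := fun T =>
    (Equiv.ulift.symm.trans (((sheafToPresheaf _ _).mapIso eV).app (op T)).toEquiv).trans Equiv.ulift
  refine ⟨V, i, ⟨fun {T} => eT T, fun {T T'} t w => ?_⟩, ?_, fun T w => ?_⟩
  · change ULift.down (eV.hom.hom.app (op T) ⟨t ≫ w⟩) =
      (fixedPsh aX).map t.op (ULift.down (eV.hom.hom.app (op T') ⟨w⟩))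
    exact congrArg ULift.down
      (ConcreteCategory.congr_hom (eV.hom.hom.naturality t.op) ⟨w⟩)
  · have := Groth.Agent.FpqcDescent.descendsAlong_fppf_of_fpqc
      (@IsClosedImmersion : MorphismProperty Scheme.{u})
    refine MorphismProperty.of_isPullback_of_descendsAlong (P := @IsClosedImmersion)
      (Q := @Surjective ⊓ @Flat ⊓ @LocallyOfFinitePresentation)
      ((sqV.map (Over.forget S)).flip) ⟨⟨‹Surjective f.left›, ‹Flat f.left›⟩,
        ‹LocallyOfFinitePresentation f.left›⟩ ?_
    exact ‹IsClosedImmersion i'.left›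
  · exact congrArg ULift.down
      (ConcreteCategory.congr_hom (congrArg (fun z => z.hom.app (op T)) hVi.symm) ⟨w⟩)

end Groth.Agent.Magnet
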