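import Groth.Agent.Magnet.Points
import Mathlib.AlgebraicGeometry.Morphisms.Flat
import Mathlib.AlgebraicGeometry.Cover.Open
import Mathlib.RingTheory.PowerSeries.Inverse
import Mathlib.RingTheory.Polynomial.Basic
import Mathlib.RingTheory.Flat.Basic

/-!
# Maps out of the affine line over a base are determined by the formal neighbourhood of zero

An equivariant map `𝔸¹ × Y ⟶ X` for the multiplicative group is determined by its restrictions to the
infinitesimal neighbourhoods of `{0} × Y`.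
-/

set_option autoImplicit false
set_option backward.isDefEq.respectTransparency false
set_option backward.isDefEq.respectTransparency.types false
set_option linter.style.haveILetI false

universe u

open CategoryTheory CategoryTheory.Limits MonoidalCategory CartesianMonoidalCategory
  AlgebraicGeometry Opposite Polynomial
open scoped MonObj

attribute [-instance] Red.grpObj_bc AlgebraicGeometry.instGrpObjSpecAsOverSpec
  AlgebraicGeometry.instCommGrpObjSpecAsOverSpec

noncomputable section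

namespace Groth.Agent.Magnet

section Away

variable {B : Type u} [CommRing B]

theorem exists_C_pow_mul_eq_zero (h : B) (f : B[X])
    (hf : f.map (algebraMap B (Localization.Away h)) = 0) : ∃ m : ℕ, C (h ^ m) * f = 0 := by
  have hc : ∀ i : ℕ, ∃ m : ℕ, h ^ m * f.coeff i = 0 := by
    intro i
    have := congrArg (fun p => p.coeff i) hf
    rw [coeff_map, coeff_zero, IsLocalization.map_eq_zero_iff (Submonoid.powers h)] at this
    obtain ⟨⟨_, m, rfl⟩, hm⟩ := this
    exact ⟨m, hm⟩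
  choose m hm using hc
  refine ⟨f.support.sup m, ext fun i => ?_⟩
  rw [coeff_C_mul, coeff_zero]
  by_cases hi : i ∈ f.support
  · obtain ⟨d, hd⟩ := Nat.exists_eq_add_of_le (Finset.le_sup (f := m) hi)
    rw [hd, pow_add, mul_comm (h ^ m i), mul_assoc, hm, mul_zero]
  · rw [notMem_support_iff.1 hi, mul_zero]

/-- For `g' = g · g(0)`: two elements of `B[X]_{g'}` congruent modulo all powers of `X` are equal. -/
theorem eq_of_forall_mk_eq (g : B[X]) (a b : Localization.Away (g * C (g.coeff 0)))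
    (h : ∀ n : ℕ, Ideal.Quotient.mk (Ideal.span {algebraMap B[X]
      (Localization.Away (g * C (g.coeff 0))) (X ^ (n + 1))}) a = Ideal.Quotient.mk _ b) : a = b := by
  let c := g.coeff 0
  let g' := g * C c
  let F : B[X] →+* PowerSeries (Localization.Away c) :=
    Polynomial.coeToPowerSeries.ringHom.comp (mapRingHom (algebraMap B (Localization.Away c)))
  have hu : IsUnit (F g') := by
    rw [PowerSeries.isUnit_iff_constantCoeff]
    have h0 : PowerSeries.constantCoeff (F g') = algebraMap B (Localization.Away c) (c * c) := by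
      rw [← PowerSeries.coeff_zero_eq_constantCoeff_apply]
      change PowerSeries.coeff 0 ((g'.map (algebraMap B (Localization.Away c)) : (Localization.Away c)[X]) : PowerSeries (Localization.Away c)) = _
      rw [Polynomial.coeff_coe, coeff_map, mul_coeff_zero, coeff_C_zero]
    rw [h0, map_mul]
    exact (IsLocalization.Away.algebraMap_isUnit c).mul (IsLocalization.Away.algebraMap_isUnit c)
  let loc : Localization.Away g' →+* PowerSeries (Localization.Away c) :=
    IsLocalization.Away.lift g' hu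
  have hloc : ∀ f, loc (algebraMap B[X] (Localization.Away g') f) = F f :=
    fun f => IsLocalization.Away.lift_eq g' hu f
  have hz : ∀ z, loc z = 0 → z = 0 := by
    intro z hz
    obtain ⟨⟨f, ⟨_, k, rfl⟩⟩, rfl⟩ := IsLocalization.mk'_surjective (Submonoid.powers g') z
    have h1 : IsLocalization.mk' (Localization.Away g') f (⟨g' ^ k, k, rfl⟩ : Submonoid.powers g') *
        algebraMap B[X] (Localization.Away g') (g' ^ k) = algebraMap B[X] _ f :=
      IsLocalization.mk'_spec _ f _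
    have h2 : F f = 0 := by rw [← hloc, ← h1, map_mul, hz, zero_mul]
    obtain ⟨m, hm⟩ := exists_C_pow_mul_eq_zero c f (Polynomial.coe_injective _ (by
      rw [Polynomial.coe_zero]; exact h2))
    refine (IsLocalization.mk'_eq_zero_iff (M := Submonoid.powers g') _ _).2 ⟨⟨g' ^ m, m, rfl⟩, ?_⟩
    change (g * C c) ^ m * f = 0
    rw [mul_pow, ← map_pow, mul_assoc, hm, mul_zero]
  rw [← sub_eq_zero]
  refine hz _ (PowerSeries.ext fun n => ?_)
  have h3 := (Ideal.Quotient.mk_eq_mk_iff_sub_mem a b).1 (h n)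
  obtain ⟨l, hl⟩ := Ideal.mem_span_singleton.1 h3
  rw [hl, map_mul, hloc]
  have h4 : F (X ^ (n + 1)) = PowerSeries.X ^ (n + 1) := by simp [F]
  rw [h4, PowerSeries.coeff_X_pow_mul', if_neg (by omega), map_zero]

/-- Two morphisms out of `𝔸¹_B` agreeing on all infinitesimal neighbourhoods of the zero section
agree on an open neighbourhood of any of its points. -/
theorem exists_away_eq {X' : Scheme.{u}} (φ₁ φ₂ : Spec (CommRingCat.of B[X]) ⟶ X')
    (h : ∀ n : ℕ, Spec.map (CommRingCat.ofHom (Ideal.Quotient.mk (Ideal.span {(Polynomial.X : B[X]) ^ (n + 1)}))) ≫ φ₁ =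
      Spec.map (CommRingCat.ofHom (Ideal.Quotient.mk (Ideal.span {(Polynomial.X : B[X]) ^ (n + 1)}))) ≫ φ₂)
    (q : PrimeSpectrum B) :
    ∃ g : B[X], g.coeff 0 ∉ q.asIdeal ∧
      Spec.map (CommRingCat.ofHom (algebraMap B[X] (Localization.Away g))) ≫ φ₁ =
        Spec.map (CommRingCat.ofHom (algebraMap B[X] (Localization.Away g))) ≫ φ₂ := by
  let p : PrimeSpectrum B[X] := PrimeSpectrum.comap constantCoeff q
  let i₀ := Spec.map (CommRingCat.ofHom (Ideal.Quotient.mk (Ideal.span {(Polynomial.X : B[X]) ^ (0 + 1)})))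
  obtain ⟨p₀, hp₀⟩ : ∃ p₀, i₀ p₀ = p := by
    have : p ∈ Set.range (PrimeSpectrum.comap (Ideal.Quotient.mk (Ideal.span {(Polynomial.X : B[X]) ^ (0 + 1)}))) := by
      rw [range_comap_of_surjective _ _ Ideal.Quotient.mk_surjective, Ideal.mk_ker,
        PrimeSpectrum.mem_zeroLocus]
      refine SetLike.coe_subset_coe.2 (Ideal.span_le.2 (Set.singleton_subset_iff.2 ?_))
      change constantCoeff ((Polynomial.X : B[X]) ^ (0 + 1)) ∈ q.asIdeal
      simp
    exact this
  have hx : φ₂ p = φ₁ p := by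
    rw [← hp₀, ← Scheme.Hom.comp_apply, ← Scheme.Hom.comp_apply, h 0]
  obtain ⟨_, ⟨V, hV, rfl⟩, hpV, -⟩ := X'.isBasis_affineOpens.exists_subset_of_mem_open
    (Set.mem_univ (φ₁ p)) isOpen_univ
  let D : TopologicalSpace.Opens (PrimeSpectrum B[X]) :=
    (φ₁ ⁻¹ᵁ V ⊓ φ₂ ⁻¹ᵁ V : (Spec (CommRingCat.of B[X])).Opens)
  have hmem : p ∈ (D : Set (PrimeSpectrum B[X])) :=
    ⟨hpV, show φ₂ p ∈ V from hx ▸ hpV⟩
  obtain ⟨_, ⟨g, rfl⟩, hpg, hgV⟩ :=
    PrimeSpectrum.isTopologicalBasis_basic_opens.exists_subset_of_mem_open hmem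
      D.2
  have hc : g.coeff 0 ∉ q.asIdeal := hpg
  let g' := g * C (g.coeff 0)
  refine ⟨g', ?_, ?_⟩
  · have hg0 : g'.coeff 0 = g.coeff 0 * g.coeff 0 := by simp [g']
    rw [hg0]
    exact fun hm => hc ((q.isPrime.mem_or_mem hm).elim id id)
  let L := Localization.Away g'
  let ℓ := Spec.map (CommRingCat.ofHom (algebraMap B[X] L))
  have hr : ∀ w, ℓ w ∈ φ₁ ⁻¹ᵁ V ⊓ φ₂ ⁻¹ᵁ V := by
    intro w
    refine hgV ?_
    change PrimeSpectrum.comap (algebraMap B[X] L) w ∈ PrimeSpectrum.basicOpen g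
    have hw : PrimeSpectrum.comap (algebraMap B[X] L) w ∈ PrimeSpectrum.basicOpen g' := by
      change algebraMap B[X] L g' ∉ w.asIdeal
      exact fun hm => w.isPrime.ne_top (Ideal.eq_top_of_isUnit_mem _ hm
        (IsLocalization.Away.algebraMap_isUnit g'))
    exact PrimeSpectrum.basicOpen_mul_le_left g _ hw
  have hlift : ∀ (φ : Spec (CommRingCat.of B[X]) ⟶ X'), (∀ w, φ (ℓ w) ∈ V) →
      ∃ ψ : Γ(X', V) ⟶ CommRingCat.of L, Spec.map ψ ≫ hV.fromSpec = ℓ ≫ φ := by
    intro φ hφ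
    refine ⟨Spec.preimage (IsOpenImmersion.lift hV.fromSpec (ℓ ≫ φ) ?_), ?_⟩
    · rw [IsAffineOpen.range_fromSpec]
      rintro _ ⟨w, rfl⟩
      exact hφ w
    · rw [Spec.map_preimage, IsOpenImmersion.lift_fac]
  obtain ⟨ψ₁, h₁⟩ := hlift φ₁ fun w => (hr w).1
  obtain ⟨ψ₂, h₂⟩ := hlift φ₂ fun w => (hr w).2
  change ℓ ≫ φ₁ = ℓ ≫ φ₂
  rw [← h₁, ← h₂]
  congr 2
  apply CommRingCat.hom_ext
  refine RingHom.ext fun r => eq_of_forall_mk_eq g _ _ fun n => ?_
  let J : Ideal L := Ideal.span {algebraMap B[X] L (X ^ (n + 1))}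
  let mkJ : CommRingCat.of L ⟶ CommRingCat.of (L ⧸ J) := CommRingCat.ofHom (Ideal.Quotient.mk J)
  let β : CommRingCat.of (B[X] ⧸ Ideal.span {(Polynomial.X : B[X]) ^ (n + 1)}) ⟶ CommRingCat.of (L ⧸ J) :=
    CommRingCat.ofHom (Ideal.Quotient.lift _ ((Ideal.Quotient.mk J).comp (algebraMap B[X] L))
      fun a ha => by
        obtain ⟨b, rfl⟩ := Ideal.mem_span_singleton.1 ha
        rw [RingHom.comp_apply, map_mul, Ideal.Quotient.eq_zero_iff_mem]
        exact Ideal.mul_mem_right _ _ (Ideal.mem_span_singleton_self _))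
  have hβ : CommRingCat.ofHom (Ideal.Quotient.mk (Ideal.span {(Polynomial.X : B[X]) ^ (n + 1)})) ≫ β =
      CommRingCat.ofHom (algebraMap B[X] L) ≫ mkJ := rfl
  have h5 : Spec.map (ψ₁ ≫ mkJ) ≫ hV.fromSpec = Spec.map (ψ₂ ≫ mkJ) ≫ hV.fromSpec := by
    rw [Spec.map_comp, Spec.map_comp, Category.assoc, Category.assoc, h₁, h₂, ← Category.assoc,
      ← Category.assoc, ← Spec.map_comp, ← hβ, Spec.map_comp, Category.assoc, Category.assoc, h n]
  exact ConcreteCategory.congr_hom (Spec.map_injective ((cancel_mono hV.fromSpec).1 h5)) r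

end Away

section Line

variable {S : Scheme.{u}}

local notation "ℕℤ" => AddSubmonoid.multiples (1 : ℤ)

/-- The generator of the monoid of characters of the affine line. -/
def lineGen : Multiplicative (ℕℤ) :=
  Multiplicative.ofAdd ⟨1, AddSubmonoid.mem_multiples 1⟩

theorem line_nonneg (k : ℕℤ) : 0 ≤ (k : ℤ) := by
  obtain ⟨n, hn⟩ := (AddSubmonoid.mem_multiples_iff _ _).1 k.2
  rw [← hn]
  simp

/-- The exponent of a character of the affine line. -/
def lineExp (k : Multiplicative (ℕℤ)) : ℕ := ((Multiplicative.toAdd k : ℕℤ) : ℤ).toNat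

theorem lineExp_mul (k l : Multiplicative (ℕℤ)) : lineExp (k * l) = lineExp k + lineExp l :=
  Int.toNat_add (line_nonneg _) (line_nonneg _)

/-- The character of the affine line with value `t` at the generator. -/
def lineChar {R : Type u} [CommRing R] (t : R) : Multiplicative (ℕℤ) →* R where
  toFun k := t ^ lineExp k
  map_one' := pow_zero t
  map_mul' k l := by rw [lineExp_mul, pow_add]

theorem lineChar_apply {R : Type u} [CommRing R] (t : R) (k : Multiplicative (ℕℤ)) :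
    lineChar t k = t ^ lineExp k := rfl

theorem lineChar_lineGen {R : Type u} [CommRing R] (t : R) : lineChar t lineGen = t := by
  rw [lineChar_apply, show lineExp lineGen = 1 from rfl, pow_one]

theorem line_eq_pow (k : Multiplicative (ℕℤ)) : k = lineGen ^ lineExp k := by
  apply Multiplicative.toAdd.injective
  rw [toAdd_pow]
  apply Subtype.ext
  change ((Multiplicative.toAdd k : ℕℤ) : ℤ) = lineExp k • (1 : ℤ)
  rw [nsmul_one]
  exact (Int.toNat_of_nonneg (line_nonneg _)).symm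

theorem line_hom_ext {R : Type u} [CommRing R] {χ χ' : Multiplicative (ℕℤ) →* R}
    (h : χ lineGen = χ' lineGen) : χ = χ' :=
  MonoidHom.ext fun k => by rw [line_eq_pow k, map_pow, map_pow, h]

theorem linePoint_ext {T : Over S} {x y : T ⟶ _root_.Magnet.AMonS S (ℕℤ)}
    (h : points x lineGen = points y lineGen) : x = y :=
  points.injective (line_hom_ext h)

variable {X : Over S} (a : _root_.Magnet.MonAct (_root_.Magnet.AMonS S ℤ) X)
  {Y : Over S} (φ : (_root_.Magnet.attr a (ℕℤ)).obj (op Y))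

theorem attr_lift_of_unit {T : Over S} (m : T ⟶ _root_.Magnet.AMonS S (ℕℤ)) (y : T ⟶ Y)
    (g : T ⟶ _root_.Magnet.AMonS S ℤ)
    (hg : g ≫ _root_.Magnet.AMonS.map S (ℕℤ).subtype = m) :
    lift m y ≫ φ.1 = lift g (y ≫ lift (1 : Y ⟶ _root_.Magnet.AMonS S (ℕℤ)) (𝟙 Y) ≫ φ.1) ≫ a.act := by
  have h := (_root_.Magnet.MonAct.mem_eqvHom_iff φ.1).1 φ.2 T g 1 y
  have h1 : lift g (1 : T ⟶ _root_.Magnet.AMonS S (ℕℤ)) ≫ (_root_.Magnet.subAct S ℤ (ℕℤ)).act = m := by
    change lift g _ ≫ (_root_.Magnet.AMonS.map S (ℕℤ).subtype ▷ _) ≫ μ[_] = m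
    rw [lift_whiskerRight_assoc, hg, ← Hom.mul_def, mul_one]
  rw [h1] at h
  rw [h, comp_lift_assoc, MonObj.comp_one, Category.comp_id]

/-- The point of the multiplicative group given by a unit, and its image in the affine line. -/
theorem exists_gmPoint {T : Over S} (m : T ⟶ _root_.Magnet.AMonS S (ℕℤ))
    (hu : IsUnit (points m lineGen)) :
    ∃ g g' : T ⟶ _root_.Magnet.AMonS S ℤ,
      g ≫ _root_.Magnet.AMonS.map S (ℕℤ).subtype = m ∧ g' * g = 1 := by
  obtain ⟨u, hu⟩ := hu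
  let χ : Multiplicative ℤ →* Γ(T.left, ⊤) := (Units.coeHom _).comp (zpowersHom _ u)
  let χ' : Multiplicative ℤ →* Γ(T.left, ⊤) := (Units.coeHom _).comp (zpowersHom _ u⁻¹)
  refine ⟨points.symm χ, points.symm χ', linePoint_ext ?_, points.injective ?_⟩
  · rw [points_map, MulEquiv.apply_symm_apply, ← hu]
    change ((u ^ (1 : ℤ) : Γ(T.left, ⊤)ˣ) : Γ(T.left, ⊤)) = _
    rw [zpow_one]
  · rw [map_mul, map_one, MulEquiv.apply_symm_apply, MulEquiv.apply_symm_apply]
    refine MonoidHom.ext fun k => ?_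
    change ((u⁻¹ ^ Multiplicative.toAdd k : Γ(T.left, ⊤)ˣ) : Γ(T.left, ⊤)) *
      ((u ^ Multiplicative.toAdd k : Γ(T.left, ⊤)ˣ) : Γ(T.left, ⊤)) = 1
    rw [← Units.val_mul, inv_zpow, inv_mul_cancel, Units.val_one]

theorem spec_appTop {A A' : CommRingCat.{u}} (g : A ⟶ A') (a : A) :
    (Spec.map g).appTop ((Scheme.ΓSpecIso A).inv a) = (Scheme.ΓSpecIso A').inv (g a) :=
  (ConcreteCategory.congr_hom (Scheme.ΓSpecIso_inv_naturality g) a).symm

/-- The statement over an affine parameter scheme. -/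
theorem attr_line_ext_affine (B : Type u) [CommRing B] (sB : Spec (CommRingCat.of B) ⟶ S)
    (γ₁ γ₂ : (_root_.Magnet.attr a (ℕℤ)).obj (op (Over.mk sB)))
    (h : ∀ (T : Over S) (m : T ⟶ _root_.Magnet.AMonS S (ℕℤ)) (t : T ⟶ Over.mk sB),
      (∃ n : ℕ, ∀ m' : T ⟶ _root_.Magnet.AMonS S (ℕℤ), m ^ (n + 1) * m' = m ^ (n + 1)) →
        lift m t ≫ γ₁.1 = lift m t ≫ γ₂.1) : γ₁.1 = γ₂.1 := by
  let Y := Over.mk sB
  let A := _root_.Magnet.AMonS S (ℕℤ)
  let kC : CommRingCat.of B ⟶ CommRingCat.of B[X] := CommRingCat.ofHom Polynomial.C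
  let P : Over S := Over.mk (Spec.map kC ≫ sB)
  let π : P ⟶ Y := Over.homMk (Spec.map kC) rfl
  let tX : Γ(P.left, ⊤) := (Scheme.ΓSpecIso (CommRingCat.of B[X])).inv (Polynomial.X : B[X])
  let mt : P ⟶ A := points.symm (lineChar tX)
  have hmt : points mt lineGen = tX := by
    rw [MulEquiv.apply_symm_apply]; exact lineChar_lineGen tX
  let c : P ⟶ A ⊗ Y := lift mt π
  let W := A ⊗ Y
  let ρ : CommRingCat.of B ⟶ Γ(W.left, ⊤) :=
    (Scheme.ΓSpecIso (CommRingCat.of B)).inv ≫ (snd A Y).left.appTop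
  let e : CommRingCat.of B[X] ⟶ Γ(W.left, ⊤) :=
    CommRingCat.ofHom (Polynomial.eval₂RingHom ρ.hom (points (fst A Y) lineGen))
  have he : kC ≫ e = ρ := CommRingCat.hom_ext (RingHom.ext fun b => Polynomial.eval₂_C _ _)
  have heX : e (Polynomial.X : B[X]) = points (fst A Y) lineGen := Polynomial.eval₂_X _ _
  let d : W ⟶ P := Over.homMk (W.left.toSpecΓ ≫ Spec.map e) (by
    change (W.left.toSpecΓ ≫ Spec.map e) ≫ Spec.map kC ≫ sB = W.hom
    rw [Category.assoc, ← Spec.map_comp_assoc, he, ← Category.assoc, ← eq_toSpecΓ_comp]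
    exact Over.w (snd A Y))
  have hdc : d ≫ c = 𝟙 W := by
    apply CartesianMonoidalCategory.hom_ext
    · rw [Category.id_comp, Category.assoc, lift_fst]
      refine linePoint_ext ?_
      rw [points_comp, hmt]
      have h1 : d.left.appTop = (Scheme.ΓSpecIso (CommRingCat.of B[X])).hom ≫ e :=
        appTop_toSpecΓ_comp e
      rw [h1]
      exact (congrArg e (Iso.inv_hom_id_apply (C := CommRingCat) _ _)).trans heX
    · rw [Category.id_comp, Category.assoc, lift_snd]
      apply Over.OverMorphism.ext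
      change (W.left.toSpecΓ ≫ Spec.map e) ≫ Spec.map kC = (snd A Y).left
      rw [Category.assoc, ← Spec.map_comp, he]
      exact (eq_toSpecΓ_comp _).symm
  suffices hc : c.left ≫ γ₁.1.left = c.left ≫ γ₂.1.left by
    have : c ≫ γ₁.1 = c ≫ γ₂.1 := Over.OverMorphism.ext hc
    rw [← Category.id_comp γ₁.1, ← Category.id_comp γ₂.1]
    change 𝟙 W ≫ γ₁.1 = 𝟙 W ≫ γ₂.1
    rw [← hdc, Category.assoc, Category.assoc, this]
  let φ₁ : Spec (CommRingCat.of B[X]) ⟶ X.left := c.left ≫ γ₁.1.left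
  let φ₂ : Spec (CommRingCat.of B[X]) ⟶ X.left := c.left ≫ γ₂.1.left
  have hn : ∀ n : ℕ,
      Spec.map (CommRingCat.ofHom (Ideal.Quotient.mk (Ideal.span {(Polynomial.X : B[X]) ^ (n + 1)}))) ≫ φ₁ =
      Spec.map (CommRingCat.ofHom (Ideal.Quotient.mk (Ideal.span {(Polynomial.X : B[X]) ^ (n + 1)}))) ≫ φ₂ := by
    intro n
    let Q := CommRingCat.ofHom (Ideal.Quotient.mk (Ideal.span {(Polynomial.X : B[X]) ^ (n + 1)}))
    let T : Over S := Over.mk (Spec.map Q ≫ P.hom)
    let s : T ⟶ P := Over.homMk (Spec.map Q) rfl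
    have hnil : ∃ n : ℕ, ∀ m' : T ⟶ A, (s ≫ mt) ^ (n + 1) * m' = (s ≫ mt) ^ (n + 1) := by
      refine ⟨n, fun m' => points.injective ?_⟩
      rw [map_mul, map_pow]
      refine MonoidHom.ext fun k => ?_
      rw [MonoidHom.mul_apply, MonoidHom.pow_apply, points_comp, MulEquiv.apply_symm_apply]
      change (s.left.appTop (tX ^ lineExp k)) ^ (n + 1) * _ =
        (s.left.appTop (tX ^ lineExp k)) ^ (n + 1)
      rcases Nat.eq_zero_or_pos (lineExp k) with hk | hk
      · have : k = 1 := by rw [line_eq_pow k, hk, pow_zero]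
        rw [hk, this, map_one, mul_one]
      · have hz : (s.left.appTop tX) ^ (n + 1) = 0 := by
          rw [show s.left.appTop tX = (Scheme.ΓSpecIso _).inv (Q (Polynomial.X : B[X])) from
            spec_appTop Q (Polynomial.X : B[X])]
          refine ((map_pow (Scheme.ΓSpecIso _).inv.hom _ _).symm.trans ?_)
          refine (congrArg _ (map_pow Q.hom _ _).symm).trans ?_
          have : Q ((Polynomial.X : B[X]) ^ (n + 1)) = 0 :=
            Ideal.Quotient.eq_zero_iff_mem.2 (Ideal.mem_span_singleton_self _)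
          rw [this, map_zero]
        rw [map_pow, pow_right_comm, hz, zero_pow hk.ne', zero_mul]
    have h1 := h T (s ≫ mt) (s ≫ π) hnil
    rw [← comp_lift, Category.assoc, Category.assoc] at h1
    exact congrArg CommaMorphism.left h1
  choose g hg0 hg using exists_away_eq φ₁ φ₂ hn
  let O : PrimeSpectrum B → (Spec (CommRingCat.of B[X])).Opens :=
    fun q => PrimeSpectrum.basicOpen (g q * Polynomial.X)
  let W₀ : (Spec (CommRingCat.of B[X])).Opens := ⨆ q, O q
  have hOle : ∀ q (U : (Spec (CommRingCat.of B[X])).Opens), U ≤ PrimeSpectrum.basicOpen (g q) →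
      U.ι ≫ φ₁ = U.ι ≫ φ₂ := by
    intro q U hU
    let ℓ := Spec.map (CommRingCat.ofHom (algebraMap B[X] (Localization.Away (g q))))
    have hr : Set.range U.ι ⊆ Set.range ℓ := by
      rw [Scheme.Opens.range_ι]
      exact Set.Subset.trans (SetLike.coe_subset_coe.2 hU)
        (PrimeSpectrum.localization_away_comap_range _ (g q)).ge
    rw [← IsOpenImmersion.lift_fac ℓ U.ι hr, Category.assoc, Category.assoc, hg q]
  let δ₁ : Y ⟶ X := lift (1 : Y ⟶ A) (𝟙 Y) ≫ γ₁.1
  let δ₂ : Y ⟶ X := lift (1 : Y ⟶ A) (𝟙 Y) ≫ γ₂.1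
  have hunit : ∀ (U : (Spec (CommRingCat.of B[X])).Opens), U ≤ PrimeSpectrum.basicOpen (Polynomial.X : B[X]) →
      ∃ g g' : Over.mk (U.ι ≫ P.hom) ⟶ _root_.Magnet.AMonS S ℤ,
        g ≫ _root_.Magnet.AMonS.map S (ℕℤ).subtype = (Over.homMk U.ι : Over.mk (U.ι ≫ P.hom) ⟶ P) ≫ mt ∧
          g' * g = 1 := by
    intro U hU
    refine exists_gmPoint _ ?_
    rw [points_comp, hmt]
    let sX := (Spec (CommRingCat.of B[X])).basicOpen tX
    have hsX : U ≤ sX := by
      refine hU.trans (le_of_eq ?_)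
      exact (basicOpen_eq_of_affine (R := CommRingCat.of B[X]) (Polynomial.X : B[X])).symm
    refine RingedSpace.isUnit_of_isUnit_germ _ ⊤ _ fun x hx => ?_
    have hm : x ∈ (Over.mk (U.ι ≫ P.hom)).left.basicOpen (U.ι.appTop tX) := by
      erw [← Scheme.preimage_basicOpen_top]
      exact hsX x.2
    exact (Scheme.mem_basicOpen _ _ x hx).1 hm
  have hδW : W₀.ι ≫ Spec.map kC ≫ δ₁.left = W₀.ι ≫ Spec.map kC ≫ δ₂.left := by
    refine Scheme.Cover.hom_ext (Scheme.Opens.iSupOpenCover O) _ _ fun q => ?_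
    change (Spec (CommRingCat.of B[X])).homOfLE (le_iSup O q) ≫ _ =
      (Spec (CommRingCat.of B[X])).homOfLE (le_iSup O q) ≫ _
    rw [Scheme.homOfLE_ι_assoc, Scheme.homOfLE_ι_assoc]
    obtain ⟨gg, gg', hgg, hinv⟩ := hunit (O q) (PrimeSpectrum.basicOpen_mul_le_right _ _)
    let s : Over.mk ((O q).ι ≫ P.hom) ⟶ P := Over.homMk (O q).ι rfl
    have e0 : lift gg ((s ≫ π) ≫ δ₁) ≫ a.act = lift gg ((s ≫ π) ≫ δ₂) ≫ a.act := by
      rw [← attr_lift_of_unit a γ₁ (s ≫ mt) (s ≫ π) gg hgg,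
        ← attr_lift_of_unit a γ₂ (s ≫ mt) (s ≫ π) gg hgg, ← comp_lift, Category.assoc, Category.assoc]
      exact Over.OverMorphism.ext (hOle q (O q) (PrimeSpectrum.basicOpen_mul_le_left _ _))
    have e1 : (s ≫ π) ≫ δ₁ = (s ≫ π) ≫ δ₂ := by
      have := congrArg (fun z => lift gg' z ≫ a.act) e0
      simpa only [← a.lift_mul_act, hinv, a.lift_one_act] using this
    exact congrArg CommaMorphism.left e1
  have hflat : Flat (Spec.map kC) := by
    rw [HasRingHomProperty.Spec_iff (P := @Flat)]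
    exact RingHom.flat_algebraMap_iff.2 (inferInstanceAs (Module.Flat B B[X]))
  have hsurj : Surjective (W₀.ι ≫ Spec.map kC) := ⟨fun q => by
    have hp : (Ideal.map (Polynomial.C : B →+* B[X]) q.asIdeal).IsPrime :=
      inferInstance
    let p : PrimeSpectrum B[X] := ⟨_, hp⟩
    have hpO : p ∈ O q := by
      change g q * Polynomial.X ∉ p.asIdeal
      intro hm
      rcases hp.mem_or_mem hm with h1 | h1
      · exact hg0 q (Ideal.mem_map_C_iff.1 h1 0)
      · exact q.isPrime.ne_top (Ideal.eq_top_of_isUnit_mem _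
          (Ideal.mem_map_C_iff.1 h1 1) (by simp))
    refine ⟨⟨p, (le_iSup O q) hpO⟩, PrimeSpectrum.ext (Ideal.ext fun b => ?_)⟩
    change Polynomial.C b ∈ Ideal.map (Polynomial.C : B →+* B[X]) q.asIdeal ↔ b ∈ q.asIdeal
    refine ⟨fun hb => ?_, Ideal.mem_map_of_mem _⟩
    simpa using Ideal.mem_map_C_iff.1 hb 0⟩
  have : Epi (W₀.ι ≫ Spec.map kC) := Flat.epi_of_flat_of_surjective _
  have hδ : δ₁ = δ₂ := by
    apply Over.OverMorphism.ext
    rw [← cancel_epi (W₀.ι ≫ Spec.map kC), Category.assoc, Category.assoc]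
    exact hδW
  let U : Option (PrimeSpectrum B) → (Spec (CommRingCat.of B[X])).Opens := fun i =>
    i.elim (PrimeSpectrum.basicOpen (Polynomial.X : B[X])) fun q => PrimeSpectrum.basicOpen (g q)
  have hU : iSup U = ⊤ := by
    refine top_le_iff.1 fun p _ => TopologicalSpace.Opens.mem_iSup.2 ?_
    by_cases hp : (Polynomial.X : B[X]) ∈ p.asIdeal
    · let q : PrimeSpectrum B := PrimeSpectrum.comap Polynomial.C p
      refine ⟨some q, fun hgp => hg0 q ?_⟩
      change Polynomial.C ((g q).coeff 0) ∈ p.asIdeal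
      rw [← X_mul_divX_add (g q)] at hgp
      exact (p.asIdeal.add_mem_iff_right (p.asIdeal.mul_mem_right _ hp)).1 hgp
    · exact ⟨none, hp⟩
  refine Scheme.Cover.hom_ext ((Spec (CommRingCat.of B[X])).openCoverOfIsOpenCover U hU) _ _
    fun i => ?_
  cases i with
  | none =>
    change (U none).ι ≫ φ₁ = (U none).ι ≫ φ₂
    obtain ⟨gg, -, hgg, -⟩ := hunit (U none) le_rfl
    let s : Over.mk ((U none).ι ≫ P.hom) ⟶ P := Over.homMk (U none).ι rfl
    have e0 : s ≫ c ≫ γ₁.1 = s ≫ c ≫ γ₂.1 := by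
      rw [comp_lift_assoc, comp_lift_assoc, attr_lift_of_unit a γ₁ (s ≫ mt) (s ≫ π) gg hgg,
        attr_lift_of_unit a γ₂ (s ≫ mt) (s ≫ π) gg hgg]
      change lift gg ((s ≫ π) ≫ δ₁) ≫ _ = lift gg ((s ≫ π) ≫ δ₂) ≫ _
      rw [hδ]
    exact congrArg CommaMorphism.left e0
  | some q => exact hOle q (U (some q)) le_rfl

/-- Equivariant maps from the affine line are determined by the formal neighbourhood of zero. -/
theorem attr_line_ext (γ₁ γ₂ : (_root_.Magnet.attr a (ℕℤ)).obj (op Y))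
    (h : ∀ (T : Over S) (m : T ⟶ _root_.Magnet.AMonS S (ℕℤ)) (t : T ⟶ Y),
      (∃ n : ℕ, ∀ m' : T ⟶ _root_.Magnet.AMonS S (ℕℤ), m ^ (n + 1) * m' = m ^ (n + 1)) →
        lift m t ≫ γ₁.1 = lift m t ≫ γ₂.1) : γ₁ = γ₂ := by
  apply Subtype.ext
  apply Over.OverMorphism.ext
  let A := _root_.Magnet.AMonS S (ℕℤ)
  let O : Y.left.affineOpens → (A ⊗ Y).left.Opens := fun U => (snd A Y).left ⁻¹ᵁ U.1
  have hO : iSup O = ⊤ := by
    refine top_le_iff.1 fun x _ => TopologicalSpace.Opens.mem_iSup.2 ?_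
    obtain ⟨_, ⟨U, hU, rfl⟩, hxU, -⟩ := Y.left.isBasis_affineOpens.exists_subset_of_mem_open
      (Set.mem_univ ((snd A Y).left x)) isOpen_univ
    exact ⟨⟨U, hU⟩, hxU⟩
  refine Scheme.Cover.hom_ext ((A ⊗ Y).left.openCoverOfIsOpenCover O hO) _ _ fun U => ?_
  let j : Over.mk (U.2.fromSpec ≫ Y.hom) ⟶ Y := Over.homMk U.2.fromSpec rfl
  have hB := attr_line_ext_affine a Γ(Y.left, U.1) (U.2.fromSpec ≫ Y.hom)
    ((_root_.Magnet.attr a (ℕℤ)).map j.op γ₁) ((_root_.Magnet.attr a (ℕℤ)).map j.op γ₂)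
    (fun T m t hm => by
      have := h T m (t ≫ j) hm
      simpa only [_root_.Magnet.MonAct.eqvHom_map_coe, Quiver.Hom.unop_op,
        lift_whiskerLeft_assoc] using this)
  let s : Over.mk ((O U).ι ≫ (A ⊗ Y).hom) ⟶ A ⊗ Y := Over.homMk (O U).ι rfl
  let l : Over.mk ((O U).ι ≫ (A ⊗ Y).hom) ⟶ Over.mk (U.2.fromSpec ≫ Y.hom) :=
    Over.homMk (IsOpenImmersion.lift U.2.fromSpec ((O U).ι ≫ (snd A Y).left) (by
      erw [IsAffineOpen.range_fromSpec]
      rintro _ ⟨x, rfl⟩
      exact x.2)) (by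
      change IsOpenImmersion.lift _ _ _ ≫ U.2.fromSpec ≫ Y.hom = _
      rw [IsOpenImmersion.lift_fac_assoc, Category.assoc, Over.w (snd A Y)]
      rfl)
  have hl : l ≫ j = s ≫ snd A Y := Over.OverMorphism.ext (IsOpenImmersion.lift_fac _ _ _)
  have hs : s = lift (s ≫ fst A Y) l ≫ (A ◁ j) := by
    rw [lift_whiskerLeft]
    apply CartesianMonoidalCategory.hom_ext <;> simp [hl]
  have e : s ≫ γ₁.1 = s ≫ γ₂.1 := by
    rw [hs, Category.assoc, Category.assoc]
    exact congrArg (fun z => lift (s ≫ fst A Y) l ≫ z) hB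
  exact congrArg CommaMorphism.left e

end Line

end Groth.Agent.Magnet
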