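import Groth.Agent.Magnet.SubgroupAttr
import Groth.Agent.Magnet.Comap

/-!
# Change of group for attractors
-/

set_option autoImplicit false
set_option backward.isDefEq.respectTransparency false
set_option backward.isDefEq.respectTransparency.types false
set_option linter.style.haveILetI false

universe u

open CategoryTheory CategoryTheory.Limits MonoidalCategory CartesianMonoidalCategory AlgebraicGeometry Opposite
open scoped MonObj

attribute [-instance] Red.grpObj_bc AlgebraicGeometry.instGrpObjSpecAsOverSpec
  AlgebraicGeometry.instCommGrpObjSpecAsOverSpec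

noncomputable section

namespace Groth.Agent.Magnet

/-- A monoid algebra is free over a submonoid acting freely. -/
theorem free_mapDomain_of_bijective (R : Type u) [CommRing R] {N P Q : Type} [AddCommMonoid N]
    [AddCommMonoid P] (h : N →+ P) (b : Q → P)
    (hb : Function.Bijective fun p : Q × N => b p.1 + h p.2) :
    @Module.Free (MonoidAlgebra R (Multiplicative N)) (MonoidAlgebra R (Multiplicative P)) _ _
      (MonoidAlgebra.mapDomainRingHom R (AddMonoidHom.toMultiplicative h)).toAlgebra.toModule := by
  letI := (MonoidAlgebra.mapDomainRingHom R (AddMonoidHom.toMultiplicative h)).toAlgebra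
  let e := Equiv.ofBijective _ hb
  have halg : ∀ (n : N) (r : R), algebraMap (MonoidAlgebra R (Multiplicative N))
      (MonoidAlgebra R (Multiplicative P)) (MonoidAlgebra.single (Multiplicative.ofAdd n) r) =
      MonoidAlgebra.single (Multiplicative.ofAdd (h n)) r := fun n r => MonoidAlgebra.mapDomain_single
  let v : Q → MonoidAlgebra R (Multiplicative P) :=
    fun q => MonoidAlgebra.single (Multiplicative.ofAdd (b q)) 1
  let L := Finsupp.linearCombination (MonoidAlgebra R (Multiplicative N)) v
  let G : MonoidAlgebra R (Multiplicative P) →+ Q →₀ MonoidAlgebra R (Multiplicative N) :=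
    (Finsupp.liftAddHom fun p : Multiplicative P =>
      (Finsupp.singleAddHom (e.symm (Multiplicative.toAdd p)).1).comp
        (MonoidAlgebra.singleAddHom (Multiplicative.ofAdd (e.symm (Multiplicative.toAdd p)).2))).comp
      (MonoidAlgebra.coeffAddEquiv).toAddMonoidHom
  have hG : ∀ p r, G (MonoidAlgebra.single p r) =
      Finsupp.single (e.symm (Multiplicative.toAdd p)).1
        (MonoidAlgebra.single (Multiplicative.ofAdd (e.symm (Multiplicative.toAdd p)).2) r) := by
    intro p r
    simp [G]
  have hL : ∀ q (n : N) (r : R),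
      L (Finsupp.single q (MonoidAlgebra.single (Multiplicative.ofAdd n) r)) =
        MonoidAlgebra.single (Multiplicative.ofAdd (e (q, n))) r := by
    intro q n r
    have he : e (q, n) = h n + b q := add_comm _ _
    simp [L, v, Algebra.smul_def, halg, MonoidAlgebra.single_mul_single, ← ofAdd_add, he]
  have h1 : ∀ x, L (G x) = x := by
    intro x
    induction x using MonoidAlgebra.induction_linear with
    | zero => simp
    | add x y hx hy => rw [map_add, map_add, hx, hy]
    | single m r =>
      rw [hG, hL]
      simp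
  have h2 : ∀ c, G (L c) = c := by
    intro c
    induction c using Finsupp.induction_linear with
    | zero => simp
    | add x y hx hy => rw [map_add, map_add, hx, hy]
    | single q w =>
      induction w using MonoidAlgebra.induction_linear with
      | zero => simp
      | add x y hx hy => rw [Finsupp.single_add, map_add, map_add, hx, hy]
      | single z r =>
        obtain ⟨z, rfl⟩ : ∃ z', Multiplicative.ofAdd z' = z := ⟨Multiplicative.toAdd z, rfl⟩
        rw [hL, hG]
        simp
  exact Module.Free.of_equiv (LinearEquiv.ofBijective L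
    ⟨Function.LeftInverse.injective h2, Function.RightInverse.surjective h1⟩)

variable {S : Scheme.{u}}

theorem AMonS_map_props {N P Q : Type} [AddCommMonoid N] [AddCommMonoid P] [Nonempty Q] (h : N →+ P)
    (b : Q → P) (hb : Function.Bijective fun p : Q × N => b p.1 + h p.2) :
    Flat (_root_.Magnet.AMonS.map S h).left ∧ Surjective (_root_.Magnet.AMonS.map S h).left ∧
      QuasiCompact (_root_.Magnet.AMonS.map S h).left := by
  let R := ULift.{u} ℤ
  let f := MonoidAlgebra.mapDomainRingHom R (AddMonoidHom.toMultiplicative h)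
  have hfree := free_mapDomain_of_bijective R h b hb
  letI := f.toAlgebra
  haveI : Module.Free (MonoidAlgebra R (Multiplicative N)) (MonoidAlgebra R (Multiplicative P)) := hfree
  haveI : Nontrivial (MonoidAlgebra R (Multiplicative P)) := inferInstance
  have h1 : Flat (Spec.map (CommRingCat.ofHom f)) := by
    rw [HasRingHomProperty.Spec_iff (P := @Flat)]
    exact RingHom.flat_algebraMap_iff.2 inferInstance
  have h2 : Surjective (Spec.map (CommRingCat.ofHom f)) :=
    ⟨PrimeSpectrum.comap_surjective_of_faithfullyFlat (A := MonoidAlgebra R (Multiplicative N))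
      (B := MonoidAlgebra R (Multiplicative P))⟩
  exact ⟨MorphismProperty.baseChange_map _ _ h1, MorphismProperty.baseChange_map _ _ h2,
    MorphismProperty.baseChange_map _ _ (inferInstanceAs (QuasiCompact (Spec.map (CommRingCat.ofHom f))))⟩

theorem props_whiskerRight {P Q : Over S} (g : P ⟶ Q) (T : Over S)
    (h : Flat g.left ∧ Surjective g.left ∧ QuasiCompact g.left) :
    Flat (g ▷ T).left ∧ Surjective (g ▷ T).left ∧ QuasiCompact (g ▷ T).left := by
  have hpb : IsPullback (fst P T).left (g ▷ T).left g.left (fst Q T).left := by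
    have : IsPullback (fst P T) (g ▷ T) g (fst Q T) :=
      IsPullback.of_isLimit' ⟨(whiskerRight_fst _ _).symm⟩ (PullbackCone.IsLimit.mk _
        (fun s => lift s.fst (s.snd ≫ snd _ T)) (fun s => lift_fst _ _)
        (fun s => by
          apply CartesianMonoidalCategory.hom_ext
          · rw [Category.assoc, whiskerRight_fst, lift_fst_assoc, s.condition]
          · rw [Category.assoc, whiskerRight_snd, lift_snd])
        (fun s m h₁ h₂ => by
          apply CartesianMonoidalCategory.hom_ext
          · rw [lift_fst, h₁]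
          · rw [lift_snd, ← h₂, Category.assoc, whiskerRight_snd]))
    exact this.map (Over.forget _)
  exact ⟨MorphismProperty.of_isPullback hpb h.1, MorphismProperty.of_isPullback hpb h.2.1,
    MorphismProperty.of_isPullback hpb h.2.2⟩

theorem props_whiskerLeft {P Q : Over S} (g : P ⟶ Q) (T : Over S)
    (h : Flat g.left ∧ Surjective g.left ∧ QuasiCompact g.left) :
    Flat (T ◁ g).left ∧ Surjective (T ◁ g).left ∧ QuasiCompact (T ◁ g).left := by
  have hpb : IsPullback (snd T P).left (T ◁ g).left g.left (snd T Q).left := by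
    have : IsPullback (snd T P) (T ◁ g) g (snd T Q) :=
      IsPullback.of_isLimit' ⟨(whiskerLeft_snd _ _).symm⟩ (PullbackCone.IsLimit.mk _
        (fun s => lift (s.snd ≫ fst T _) s.fst) (fun s => lift_snd _ _)
        (fun s => by
          apply CartesianMonoidalCategory.hom_ext
          · rw [Category.assoc, whiskerLeft_fst, lift_fst]
          · rw [Category.assoc, whiskerLeft_snd, lift_snd_assoc, s.condition])
        (fun s m h₁ h₂ => by
          apply CartesianMonoidalCategory.hom_ext
          · rw [lift_fst, ← h₂, Category.assoc, whiskerLeft_fst]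
          · rw [lift_snd, h₁]))
    exact this.map (Over.forget _)
  exact ⟨MorphismProperty.of_isPullback hpb h.1, MorphismProperty.of_isPullback hpb h.2.1,
    MorphismProperty.of_isPullback hpb h.2.2⟩

theorem epi_of_props {P Q : Over S} (g : P ⟶ Q)
    (h : Flat g.left ∧ Surjective g.left ∧ QuasiCompact g.left) : Epi g := by
  obtain ⟨_, _, _⟩ := h
  have : EffectiveEpi g.left := inferInstance
  exact Over.epi_of_epi_left g

variable (S) in
/-- `A(M) × A(Y) = A(M × Y)`. -/
def prodHom (M Y : Type) [AddCommMonoid M] [AddCommMonoid Y] :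
    _root_.Magnet.AMonS S (M × Y) ⟶ _root_.Magnet.AMonS S M ⊗ _root_.Magnet.AMonS S Y :=
  lift (_root_.Magnet.AMonS.map S (AddMonoidHom.inl M Y)) (_root_.Magnet.AMonS.map S (AddMonoidHom.inr M Y))

variable (S) in
theorem isIso_prodHom (M Y : Type) [AddCommMonoid M] [AddCommMonoid Y] : IsIso (prodHom S M Y) := by
  let W := _root_.Magnet.AMonS S M ⊗ _root_.Magnet.AMonS S Y
  let χ : Multiplicative (M × Y) →* Γ(W.left, ⊤) :=
    { toFun := fun p => points (fst (_root_.Magnet.AMonS S M) (_root_.Magnet.AMonS S Y))
          (Multiplicative.ofAdd (Multiplicative.toAdd p).1) *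
        points (snd (_root_.Magnet.AMonS S M) (_root_.Magnet.AMonS S Y))
          (Multiplicative.ofAdd (Multiplicative.toAdd p).2)
      map_one' := by
        change points _ 1 * points _ 1 = (1 : Γ(W.left, ⊤))
        rw [map_one, map_one, mul_one]
      map_mul' := fun p q => by
        change points _ (Multiplicative.ofAdd (_ + _)) * points _ (Multiplicative.ofAdd (_ + _)) = _
        rw [ofAdd_add, ofAdd_add, map_mul, map_mul]
        exact mul_mul_mul_comm _ _ _ _ }
  refine ⟨points.symm χ, ?_, ?_⟩
  · refine points_ext fun p => ?_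
    rw [points_comp, MulEquiv.apply_symm_apply]
    change (prodHom S M Y).left.appTop (points _ _ * points _ _) = _
    rw [map_mul, ← points_comp, ← points_comp, prodHom, lift_fst, lift_snd,
      show _root_.Magnet.AMonS.map S (AddMonoidHom.inl M Y) = 𝟙 _ ≫ _ from (Category.id_comp _).symm,
      show _root_.Magnet.AMonS.map S (AddMonoidHom.inr M Y) = 𝟙 _ ≫ _ from (Category.id_comp _).symm,
      points_map, points_map, MonoidHom.comp_apply, MonoidHom.comp_apply, ← map_mul]
    congr 1
    exact congrArg Multiplicative.ofAdd (Prod.ext (add_zero _) (zero_add _))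
  · apply CartesianMonoidalCategory.hom_ext
    · rw [Category.id_comp, Category.assoc, prodHom, lift_fst]
      refine points_ext fun m => ?_
      rw [points_map, MonoidHom.comp_apply, MulEquiv.apply_symm_apply]
      change points _ m * points _ (Multiplicative.ofAdd (0 : Y)) = _
      rw [ofAdd_zero, map_one, mul_one]
    · rw [Category.id_comp, Category.assoc, prodHom, lift_snd]
      refine points_ext fun y => ?_
      rw [points_map, MonoidHom.comp_apply, MulEquiv.apply_symm_apply]
      change points _ (Multiplicative.ofAdd (0 : M)) * points _ y = _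
      rw [ofAdd_zero, map_one, one_mul]

variable {M Z : Type} [AddCommGroup M] [AddCommGroup Z] (f : M →+ Z) (Y : AddSubmonoid Z)

/-- The restriction `N = f⁻¹ Y → Y`. -/
def comapHom : (Y.comap f) →+ Y := (f.comp (Y.comap f).subtype).codRestrict Y fun x => x.2

variable (S) in
/-- `(g, y) ↦ g|_N · y|_N`. -/
def spreadHom : _root_.Magnet.AMonS S M ⊗ _root_.Magnet.AMonS S Y ⟶ _root_.Magnet.AMonS S (Y.comap f) :=
  (fst _ _ ≫ _root_.Magnet.AMonS.map S (Y.comap f).subtype) *
    (snd _ _ ≫ _root_.Magnet.AMonS.map S (comapHom f Y))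

variable (S) in
theorem spreadHom_props (hY : Y ≤ AddMonoidHom.mrange f) :
    Flat (spreadHom S f Y).left ∧ Surjective (spreadHom S f Y).left ∧
      QuasiCompact (spreadHom S f Y).left := by
  let h : (Y.comap f) →+ M × Y := (Y.comap f).subtype.prod (comapHom f Y)
  have hlift : ∀ q : f.range, ∃ m, f m = (q : Z) := fun q => q.2
  choose s hs using hlift
  let b : f.range → M × Y := fun q => (s q, 0)
  have hb : Function.Bijective fun p : f.range × (Y.comap f) => b p.1 + h p.2 := by
    constructor
    · rintro ⟨q, n⟩ ⟨q', n'⟩ e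
      have e1 : s q + (n : M) = s q' + (n' : M) := congrArg Prod.fst e
      have e2 : f (n : M) = f (n' : M) := by
        have := congrArg (fun p => (p.2 : Z)) e
        simpa [b, h, comapHom] using this
      have e3 := congrArg f e1
      rw [map_add, map_add, hs, hs, e2, add_left_inj] at e3
      obtain rfl : q = q' := Subtype.ext e3
      rw [Subtype.ext (add_left_cancel e1)]
    · rintro ⟨m, y⟩
      obtain ⟨w, hw⟩ := hY y.2
      let q : f.range := ⟨f (m - w), _, rfl⟩
      have hn : f (m - s q) = y := by
        rw [map_sub, hs]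
        change f m - f (m - w) = y
        rw [map_sub, sub_sub_cancel, hw]
      refine ⟨⟨q, ⟨m - s q, by change f (m - s q) ∈ Y; rw [hn]; exact y.2⟩⟩, Prod.ext ?_ (Subtype.ext ?_)⟩
      · change s q + (m - s q) = m
        exact add_sub_cancel _ _
      · change (((0 : Y) + _ : Y) : Z) = y
        simpa [h, comapHom] using hn
  have : Nonempty f.range := ⟨0⟩
  obtain ⟨h1, h2, h3⟩ := AMonS_map_props (S := S) h b hb
  have := isIso_prodHom S M Y
  have e : spreadHom S f Y = inv (prodHom S M Y) ≫ _root_.Magnet.AMonS.map S h := by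
    rw [IsIso.eq_inv_comp, spreadHom, MonObj.comp_mul, prodHom, lift_fst_assoc, lift_snd_assoc]
    refine points_ext fun n => ?_
    rw [show _root_.Magnet.AMonS.map S h = 𝟙 _ ≫ _ from (Category.id_comp _).symm, map_mul,
      MonoidHom.mul_apply, points_map, points_map, points_map,
      show _root_.Magnet.AMonS.map S (AddMonoidHom.inl M Y) = 𝟙 _ ≫ _ from (Category.id_comp _).symm,
      show _root_.Magnet.AMonS.map S (AddMonoidHom.inr M Y) = 𝟙 _ ≫ _ from (Category.id_comp _).symm,
      points_map, points_map]
    simp only [MonoidHom.comp_apply]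
    rw [← map_mul]
    congr 1
    exact congrArg Multiplicative.ofAdd (Prod.ext (add_zero _) (zero_add _))
  have : IsIso (inv (prodHom S M Y)).left := (Over.forget _).map_isIso _
  rw [e, Over.comp_left]
  exact ⟨inferInstance, inferInstance, inferInstance⟩

theorem exists_range_point {T : Over S} (g g' : T ⟶ _root_.Magnet.AMonS S M)
    (y y' : T ⟶ _root_.Magnet.AMonS S Y)
    (h : (g ≫ _root_.Magnet.AMonS.map S (Y.comap f).subtype) * (y ≫ _root_.Magnet.AMonS.map S (comapHom f Y)) =
      (g' ≫ _root_.Magnet.AMonS.map S (Y.comap f).subtype) * (y' ≫ _root_.Magnet.AMonS.map S (comapHom f Y)))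
    (hY : Y ≤ AddMonoidHom.mrange f) :
    ∃ d : T ⟶ _root_.Magnet.AMonS S f.range,
      g' = g * (d ≫ _root_.Magnet.AMonS.map S f.rangeRestrict) ∧
      y = (d ≫ _root_.Magnet.AMonS.map S (Y.subtype.codRestrict f.range fun y => hY y.2)) * y' := by
  have hp : ∀ n : Y.comap f, points g (Multiplicative.ofAdd (n : M)) *
      points y (Multiplicative.ofAdd (comapHom f Y n)) =
      points g' (Multiplicative.ofAdd (n : M)) * points y' (Multiplicative.ofAdd (comapHom f Y n)) := by
    intro n
    have e := DFunLike.congr_fun (congrArg points h) (Multiplicative.ofAdd n)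
    rw [map_mul, map_mul, MonoidHom.mul_apply, MonoidHom.mul_apply, points_map, points_map, points_map,
      points_map] at e
    exact e
  let δ : M →+ Additive Γ(T.left, ⊤) :=
    { toFun := fun m => Additive.ofMul (points g' (Multiplicative.ofAdd m) *
        points g (Multiplicative.ofAdd (-m)))
      map_zero' := by simp
      map_add' := fun m m' => by
        change Additive.ofMul _ = Additive.ofMul (_ * _)
        congr 1
        rw [ofAdd_add, neg_add, ofAdd_add, map_mul, map_mul, mul_mul_mul_comm]
        rfl }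
  have hδ : f.rangeRestrict.ker ≤ δ.ker := by
    intro k hk
    have hk0 : f k = 0 := congrArg Subtype.val hk
    have e := hp ⟨k, by change f k ∈ Y; rw [hk0]; exact zero_mem _⟩
    rw [show comapHom f Y ⟨k, _⟩ = 0 from Subtype.ext hk0, ofAdd_zero, map_one, map_one, mul_one,
      mul_one] at e
    rw [AddMonoidHom.mem_ker]
    change Additive.ofMul (points g' (Multiplicative.ofAdd k) * points g (Multiplicative.ofAdd (-k))) =
      Additive.ofMul 1
    rw [← e, ← map_mul, ← ofAdd_add, add_neg_cancel, ofAdd_zero, map_one]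
  let e := QuotientAddGroup.quotientKerEquivOfSurjective f.rangeRestrict f.rangeRestrict_surjective
  let d : f.range →+ Additive Γ(T.left, ⊤) :=
    (QuotientAddGroup.lift f.rangeRestrict.ker δ hδ).comp e.symm.toAddMonoidHom
  have hd : ∀ m, d (f.rangeRestrict m) = δ m := by
    intro m
    change QuotientAddGroup.lift f.rangeRestrict.ker δ hδ (e.symm (f.rangeRestrict m)) = δ m
    rw [show e.symm (f.rangeRestrict m) = QuotientAddGroup.mk m from
      e.symm_apply_eq.2 (by rfl)]
    rfl
  refine ⟨points.symm (AddMonoidHom.toMultiplicativeLeft d), points_ext fun m => ?_,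
    points_ext fun y₀ => ?_⟩
  · rw [map_mul, MonoidHom.mul_apply, points_map, MonoidHom.comp_apply, MulEquiv.apply_symm_apply]
    change points g' m = points g m * Additive.toMul (d (f.rangeRestrict (Multiplicative.toAdd m)))
    rw [hd]
    change points g' m =
      points g m * (points g' m * points g (Multiplicative.ofAdd (-Multiplicative.toAdd m)))
    rw [mul_left_comm, ← map_mul]
    conv_rhs => rw [show m * Multiplicative.ofAdd (-Multiplicative.toAdd m) = 1 from
      add_neg_cancel (Multiplicative.toAdd m), map_one, mul_one]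
  · obtain ⟨⟨z, hz⟩, rfl⟩ : ∃ w : Y, Multiplicative.ofAdd w = y₀ := ⟨Multiplicative.toAdd y₀, rfl⟩
    obtain ⟨m, hm⟩ := hY hz
    rw [map_mul, MonoidHom.mul_apply, points_map, MonoidHom.comp_apply, MulEquiv.apply_symm_apply]
    change _ = Additive.toMul (d ⟨z, _⟩) * _
    rw [show (⟨z, hY hz⟩ : f.range) = f.rangeRestrict m from Subtype.ext hm.symm, hd]
    change _ = points g' (Multiplicative.ofAdd m) * points g (Multiplicative.ofAdd (-m)) * _
    have e := hp ⟨m, by change f m ∈ Y; rw [hm]; exact hz⟩
    rw [show comapHom f Y ⟨m, _⟩ = (⟨z, hz⟩ : Y) from Subtype.ext hm] at e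
    rw [mul_right_comm, ← e, mul_right_comm, ← map_mul, ← ofAdd_add, add_neg_cancel, ofAdd_zero,
      map_one, one_mul]

theorem isIso_attrComap_of_le_mrange (hY : Y ≤ AddMonoidHom.mrange f) {X : Over S}
    (a : _root_.Magnet.MonAct (_root_.Magnet.AMonS S M) X) :
    IsIso (_root_.Magnet.attrComap a f Y) := by
  let N := Y.comap f
  let P := _root_.Magnet.AMonS S M
  let Q := _root_.Magnet.AMonS S Y
  let c := comapHom f Y
  let θ := spreadHom S f Y
  have hθ := spreadHom_props S f Y hY
  have hθl : ∀ {T' : Over S} (g : T' ⟶ P) (y : T' ⟶ Q), lift g y ≫ θ =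
      (g ≫ _root_.Magnet.AMonS.map S N.subtype) * (y ≫ _root_.Magnet.AMonS.map S c) := by
    intro T' g y
    change lift g y ≫ spreadHom S f Y = _
    rw [spreadHom, MonObj.comp_mul, lift_fst_assoc, lift_snd_assoc]
  refine (NatTrans.isIso_iff_isIso_app _).2 fun T => (isIso_iff_bijective _).2 ⟨?_, ?_⟩
  · intro φ ψ e
    have := epi_of_props (θ ▷ unop T) (props_whiskerRight θ (unop T) hθ)
    refine Subtype.ext ((cancel_epi (θ ▷ unop T)).1 ?_)
    apply _root_.Magnet.hom_ext_lift₂
    intro T' p t
    rw [lift_whiskerRight_assoc, lift_whiskerRight_assoc, ← lift_comp_fst_snd p, hθl]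
    generalize p ≫ fst _ _ = g
    generalize p ≫ snd _ _ = y
    have e1 := congrArg (fun z : (_root_.Magnet.attr _ Y).obj T => lift y t ≫ z.1) e
    simp only [_root_.Magnet.attrComap_app_coe, lift_whiskerRight_assoc] at e1
    have h1 := (_root_.Magnet.MonAct.mem_eqvHom_iff φ.1).1 φ.2 T' g
      (y ≫ _root_.Magnet.AMonS.map S c) t
    have h2 := (_root_.Magnet.MonAct.mem_eqvHom_iff ψ.1).1 ψ.2 T' g
      (y ≫ _root_.Magnet.AMonS.map S c) t
    simp only [_root_.Magnet.subAct, _root_.Magnet.MonAct.lift_restrict_act,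
      _root_.Magnet.MonAct.lift_regular_act] at h1 h2
    exact h1.trans ((congrArg (fun w => lift g w ≫ a.act) e1).trans h2.symm)
  · intro φ'
    let o : (P ⊗ Q) ⊗ unop T ⟶ X :=
      lift (fst _ _ ≫ fst P Q) (lift (fst _ _ ≫ snd P Q) (snd _ _) ≫ φ'.1) ≫ a.act
    have ho : ∀ {T' : Over S} (g : T' ⟶ P) (y : T' ⟶ Q) (t : T' ⟶ unop T),
        lift (lift g y) t ≫ o = lift g (lift y t ≫ φ'.1) ≫ a.act := by
      intro T' g y t
      simp only [o, comp_lift_assoc, comp_lift, lift_fst_assoc, lift_fst, lift_snd, lift_snd_assoc]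
    let π := θ ▷ unop T
    obtain ⟨_, _, _⟩ := props_whiskerRight θ (unop T) hθ
    have : EffectiveEpi π.left := inferInstance
    have hw : ∀ {W : Scheme.{u}} (g₁ g₂ : W ⟶ ((P ⊗ Q) ⊗ unop T).left),
        g₁ ≫ π.left = g₂ ≫ π.left → g₁ ≫ o.left = g₂ ≫ o.left := by
      intro W g₁ g₂ hg
      let T' : Over S := Over.mk (g₁ ≫ ((P ⊗ Q) ⊗ unop T).hom)
      let G₁ : T' ⟶ (P ⊗ Q) ⊗ unop T := Over.homMk g₁ rfl
      let G₂ : T' ⟶ (P ⊗ Q) ⊗ unop T := Over.homMk g₂ (by
        change g₂ ≫ ((P ⊗ Q) ⊗ unop T).hom = g₁ ≫ ((P ⊗ Q) ⊗ unop T).hom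
        rw [← Over.w π, reassoc_of% hg])
      have hG : G₁ ≫ π = G₂ ≫ π := Over.OverMorphism.ext hg
      suffices key : G₁ ≫ o = G₂ ≫ o from congrArg CommaMorphism.left key
      obtain ⟨g, y, t, hg₁⟩ : ∃ g y t, G₁ = lift (lift g y) t :=
        ⟨G₁ ≫ fst _ _ ≫ fst P Q, G₁ ≫ fst _ _ ≫ snd P Q, G₁ ≫ snd _ _, by
          apply CartesianMonoidalCategory.hom_ext
          · apply CartesianMonoidalCategory.hom_ext <;> simp
          · simp⟩
      obtain ⟨g', y', t', hg₂⟩ : ∃ g y t, G₂ = lift (lift g y) t :=
        ⟨G₂ ≫ fst _ _ ≫ fst P Q, G₂ ≫ fst _ _ ≫ snd P Q, G₂ ≫ snd _ _, by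
          apply CartesianMonoidalCategory.hom_ext
          · apply CartesianMonoidalCategory.hom_ext <;> simp
          · simp⟩
      rw [hg₁, hg₂] at hG ⊢
      simp only [π, lift_whiskerRight, hθl] at hG
      have ht : t = t' := by simpa using hG =≫ snd _ _
      subst ht
      have hN := hG =≫ fst _ _
      simp only [lift_fst] at hN
      obtain ⟨d, hd₁, hd₂⟩ := exists_range_point f Y g g' y y' hN hY
      -- lift `d` to `D(Z)` fppf locally
      let ρ := _root_.Magnet.AMonS.map S f.range.toAddSubmonoid.subtype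
      let E := pullback ρ.left d.left
      let T'' : Over S := Over.mk (pullback.snd ρ.left d.left ≫ T'.hom)
      let q : T'' ⟶ T' := Over.homMk (pullback.snd ρ.left d.left) rfl
      let d' : T'' ⟶ _root_.Magnet.AMonS S Z := Over.homMk (pullback.fst ρ.left d.left) (by
        change _ = pullback.snd ρ.left d.left ≫ T'.hom
        rw [← Over.w ρ, pullback.condition_assoc]
        exact congrArg _ (Over.w d))
      have hd' : d' ≫ ρ = q ≫ d := Over.OverMorphism.ext pullback.condition
      obtain ⟨h1, h2, h3⟩ := AMonS_map_subtype_props (S := S) f.range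
      have : Epi q := epi_of_props q ⟨MorphismProperty.pullback_snd _ _ h1,
        MorphismProperty.pullback_snd _ _ h2, MorphismProperty.pullback_snd _ _ h3⟩
      rw [← cancel_epi q, ho, ho, ← Category.assoc, ← Category.assoc]
      simp only [comp_lift, ← Category.assoc]
      have hq₁ : q ≫ d ≫ _root_.Magnet.AMonS.map S f.rangeRestrict = d' ≫ _root_.Magnet.AMonS.map S f := by
        rw [← Category.assoc, ← hd', Category.assoc, ← _root_.Magnet.AMonS.map_comp]
        rfl
      have hq₂ : q ≫ d ≫ _root_.Magnet.AMonS.map S (Y.subtype.codRestrict f.range fun y => hY y.2) =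
          d' ≫ _root_.Magnet.AMonS.map S Y.subtype := by
        rw [← Category.assoc, ← hd', Category.assoc, ← _root_.Magnet.AMonS.map_comp]
        rfl
      rw [hd₁, hd₂, MonObj.comp_mul, MonObj.comp_mul, hq₁, hq₂, _root_.Magnet.MonAct.lift_mul_act]
      congr 2
      have h' := (_root_.Magnet.MonAct.mem_eqvHom_iff φ'.1).1 φ'.2 T'' d' (q ≫ y') (q ≫ t)
      simp only [_root_.Magnet.subAct, _root_.Magnet.MonAct.lift_restrict_act,
        _root_.Magnet.MonAct.lift_regular_act] at h'
      exact h'
    let dd := EffectiveEpi.desc π.left o.left hw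
    have hd : π.left ≫ dd = o.left := EffectiveEpi.fac _ _ _
    let φ : _root_.Magnet.AMonS S N ⊗ unop T ⟶ X := Over.homMk dd (by
      rw [← cancel_epi π.left, reassoc_of% hd, Over.w o, Over.w π])
    have hφ : π ≫ φ = o := Over.OverMorphism.ext hd
    have hφl : ∀ {T' : Over S} (g : T' ⟶ P) (y : T' ⟶ Q) (t : T' ⟶ unop T),
        lift ((g ≫ _root_.Magnet.AMonS.map S N.subtype) * (y ≫ _root_.Magnet.AMonS.map S c)) t ≫ φ =
          lift g (lift y t ≫ φ'.1) ≫ a.act := by
      intro T' g y t
      rw [← ho, ← hφ, ← hθl, lift_whiskerRight_assoc]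
    refine ⟨⟨φ, ?_⟩, Subtype.ext ?_⟩
    · have hE := epi_of_props (P ◁ π) (props_whiskerLeft π P (props_whiskerRight θ (unop T) hθ))
      change _ ≫ φ = (P ◁ φ) ≫ a.act
      rw [← cancel_epi (P ◁ π)]
      apply _root_.Magnet.hom_ext_lift₂
      intro T' h p
      rw [lift_whiskerLeft_assoc, lift_whiskerLeft_assoc, lift_whiskerLeft_assoc, ← lift_comp_fst_snd p,
        ← lift_comp_fst_snd (p ≫ fst _ _)]
      generalize (p ≫ fst _ _) ≫ fst _ _ = g
      generalize (p ≫ fst _ _) ≫ snd _ _ = y
      generalize p ≫ snd _ _ = t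
      simp only [_root_.Magnet.subAct]
      rw [lift_whiskerRight, hθl, _root_.Magnet.MonAct.lift_prod_act_assoc,
        _root_.Magnet.MonAct.lift_trivial_act, hφl, ← _root_.Magnet.MonAct.lift_mul_act, ← hφl,
        _root_.Magnet.MonAct.lift_restrict_act, _root_.Magnet.MonAct.lift_regular_act, MonObj.mul_comp,
        mul_assoc]
    · change (_root_.Magnet.AMonS.map S c ▷ unop T) ≫ φ = φ'.1
      apply _root_.Magnet.hom_ext_lift₂
      intro T' y t
      rw [lift_whiskerRight_assoc, ← one_mul (y ≫ _root_.Magnet.AMonS.map S c),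
        ← MonObj.one_comp (_root_.Magnet.AMonS.map S N.subtype), hφl,
        _root_.Magnet.MonAct.lift_one_act]

end Groth.Agent.Magnet
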