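import Groth.Agent.Magnet.Chart
import Groth.Agent.Magnet.FaceOrigin
import Groth.Agent.RootChLib.Farkas
import Mathlib.RingTheory.Localization.BaseChange
import Mathlib.RingTheory.TensorProduct.Basic

/-!
# The retraction onto a face is a homotopy retraction
-/

set_option autoImplicit false
set_option backward.isDefEq.respectTransparency false
set_option backward.isDefEq.respectTransparency.types false
set_option linter.style.haveILetI false

universe u

open CategoryTheory CategoryTheory.Limits MonoidalCategory CartesianMonoidalCategory AlgebraicGeometry Opposite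
open scoped MonObj TensorProduct

attribute [-instance] Red.grpObj_bc AlgebraicGeometry.instGrpObjSpecAsOverSpec
  AlgebraicGeometry.instCommGrpObjSpecAsOverSpec

noncomputable section

namespace Groth.Agent.Magnet

theorem mem_face_of_nsmul_mem {M : Type} [AddCommMonoid M] {N F : AddSubmonoid M}
    (hF : _root_.Magnet.IsFace N F) {g : M} (hg : g ∈ N) {n : ℕ} (hn : n ≠ 0) (h : n • g ∈ F) : g ∈ F := by
  obtain ⟨k, rfl⟩ := Nat.exists_eq_succ_of_ne_zero hn
  rw [succ_nsmul] at h
  exact (hF.mem_of_add_mem _ (N.nsmul_mem hg k) _ hg h).2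

/-- A face of a finitely generated monoid in an abelian group is the zero set of an additive function
to the natural numbers. -/
theorem exists_height {M : Type} [AddCommGroup M] {N F : AddSubmonoid M} (hN : N.FG)
    (hF : _root_.Magnet.IsFace N F) : ∃ h : N →+ ℕ, ∀ n, h n = 0 ↔ (n : M) ∈ F := by
  classical
  obtain ⟨s, hs⟩ := hN
  let V := ℚ ⊗[ℤ] M
  let e : M →ₗ[ℤ] V := TensorProduct.mk ℤ ℚ M 1
  have : IsLocalizedModule (nonZeroDivisors ℤ) e :=
    (isLocalizedModule_iff_isBaseChange (nonZeroDivisors ℤ) ℚ e).2 (TensorProduct.isBaseChange ℤ M ℚ)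
  have hsN : ∀ g ∈ s, g ∈ N := fun g hg => hs ▸ AddSubmonoid.subset_closure hg
  let sF := s.filter (· ∈ F)
  have hsep : ∀ g ∈ s, g ∉ F → ∃ f : Module.Dual ℚ V,
      (∀ k ∈ s, 0 ≤ f (e k)) ∧ (∀ k ∈ sF, f (e k) ≤ 0) ∧ 0 < f (e g) := by
    intro g hg hgF
    obtain ⟨f, hf, hfg⟩ := RootChLib.farkas (R := ℚ) (s.disjSum sF) (Sum.elim e (fun k => -e k)) (-e g)
      fun c hc heq => by
        rw [Finset.sum_disjSum] at heq
        simp only [Sum.elim_inl, Sum.elim_inr] at heq
        have ha : ∀ k ∈ s, 0 ≤ c (Sum.inl k) := fun k hk => hc _ (Finset.inl_mem_disjSum.2 hk)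
        have hb : ∀ k ∈ sF, 0 ≤ c (Sum.inr k) := fun k hk => hc _ (Finset.inr_mem_disjSum.2 hk)
        let D : ℕ := (∏ k ∈ s, (c (Sum.inl k)).den) * ∏ k ∈ sF, (c (Sum.inr k)).den
        have hD : D ≠ 0 := mul_ne_zero (Finset.prod_ne_zero_iff.2 fun k _ => Rat.den_ne_zero _)
          (Finset.prod_ne_zero_iff.2 fun k _ => Rat.den_ne_zero _)
        have hnat : ∀ (q : ℚ), 0 ≤ q → q.den ∣ D → ∃ a : ℕ, (D : ℚ) * q = a := by
          intro q hq ⟨r, hr⟩
          refine ⟨r * q.num.natAbs, ?_⟩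
          have h1 : (q.num.natAbs : ℚ) = q.num := by
            rw [← Int.cast_natCast, Int.natAbs_of_nonneg (Rat.num_nonneg.2 hq)]
          rw [hr, Nat.cast_mul, Nat.cast_mul, h1, mul_comm (q.den : ℚ) r, mul_assoc, Rat.den_mul_eq_num]
        have hA : ∀ k : s, ∃ a : ℕ, (D : ℚ) * c (Sum.inl k.1) = a := fun k => hnat _ (ha k k.2)
          (dvd_mul_of_dvd_left (Finset.dvd_prod_of_mem (fun k => (c (Sum.inl k)).den) k.2) _)
        have hB : ∀ k : sF, ∃ a : ℕ, (D : ℚ) * c (Sum.inr k.1) = a := fun k => hnat _ (hb k k.2)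
          (dvd_mul_of_dvd_right (Finset.dvd_prod_of_mem (fun k => (c (Sum.inr k)).den) k.2) _)
        choose A hA using hA
        choose B hB using hB
        let P := ∑ k : s, A k • (k : M)
        let Q := ∑ k : sF, B k • (k : M)
        have hP : e P = (D : ℚ) • ∑ k ∈ s, c (Sum.inl k) • e k := by
          rw [Finset.smul_sum, ← Finset.sum_coe_sort, map_sum]
          exact Finset.sum_congr rfl fun k _ => by
            rw [smul_smul, hA, map_nsmul, Nat.cast_smul_eq_nsmul]
        have hQ : e Q = (D : ℚ) • ∑ k ∈ sF, c (Sum.inr k) • e k := by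
          rw [Finset.smul_sum, ← Finset.sum_coe_sort, map_sum]
          exact Finset.sum_congr rfl fun k _ => by
            rw [smul_smul, hB, map_nsmul, Nat.cast_smul_eq_nsmul]
        have hzero : e (D • g + P - Q) = 0 := by
          rw [map_sub, map_add, map_nsmul, hP, hQ, ← Nat.cast_smul_eq_nsmul ℚ, ← smul_add, ← smul_sub]
          simp only [smul_neg, Finset.sum_neg_distrib] at heq
          rw [show e g + ∑ k ∈ s, c (Sum.inl k) • e k - ∑ k ∈ sF, c (Sum.inr k) • e k = 0 by
            rw [add_sub_assoc, sub_eq_add_neg, heq, add_neg_cancel], smul_zero]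
        obtain ⟨⟨E, hE⟩, hE0⟩ := (IsLocalizedModule.eq_zero_iff (nonZeroDivisors ℤ) e).1 hzero
        have hEne : E.natAbs ≠ 0 := Int.natAbs_ne_zero.2 (nonZeroDivisors.ne_zero hE)
        have hE1 : E.natAbs • (D • g + P - Q) = 0 := by
          have h1 : E • (D • g + P - Q) = 0 := hE0
          rcases Int.natAbs_eq E with h | h
          · rw [h, natCast_zsmul] at h1
            exact h1
          · rw [h, neg_smul, neg_eq_zero, natCast_zsmul] at h1
            exact h1
        rw [smul_sub, sub_eq_zero, smul_add, smul_smul] at hE1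
        have hQF : Q ∈ F := sum_mem fun k _ => F.nsmul_mem (Finset.mem_filter.1 k.2).2 _
        have hPN : P ∈ N := sum_mem fun k _ => N.nsmul_mem (hsN k k.2) _
        exact hgF (mem_face_of_nsmul_mem hF (hsN g hg) (mul_ne_zero hEne hD)
          (hF.mem_of_add_mem _ (N.nsmul_mem (hsN g hg) _) _ (N.nsmul_mem hPN _)
            (hE1 ▸ F.nsmul_mem hQF _)).1)
    refine ⟨f, fun k hk => hf _ (Finset.inl_mem_disjSum.2 hk), fun k hk => ?_, ?_⟩
    · simpa using hf _ (Finset.inr_mem_disjSum.2 hk)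
    · simpa using hfg
  have hsep' : ∀ g : M, ∃ f : Module.Dual ℚ V,
      (∀ k ∈ s, 0 ≤ f (e k)) ∧ (∀ k ∈ sF, f (e k) ≤ 0) ∧ (g ∈ s → g ∉ F → 0 < f (e g)) := by
    intro g
    by_cases h : g ∈ s ∧ g ∉ F
    · obtain ⟨f, h1, h2, h3⟩ := hsep g h.1 h.2
      exact ⟨f, h1, h2, fun _ _ => h3⟩
    · exact ⟨0, by simp, by simp, fun h1 h2 => (h ⟨h1, h2⟩).elim⟩
  choose f hf1 hf2 hf3 using hsep'
  let f₀ : M →+ ℚ := (∑ g ∈ s, f g).toAddMonoidHom.comp e.toAddMonoidHom
  have hf₀ : ∀ m, f₀ m = ∑ g ∈ s, f g (e m) := fun m => by simp [f₀]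
  let D : ℕ := ∏ g ∈ s, (f₀ g).den
  have hD : (0 : ℚ) < D := Nat.cast_pos.2 (Finset.prod_pos fun g _ => Rat.den_pos _)
  have key : ∀ m ∈ N, (∃ a : ℕ, (D : ℚ) * f₀ m = a) ∧ (f₀ m = 0 ↔ m ∈ F) := by
    intro m hm
    rw [← hs] at hm
    induction hm using AddSubmonoid.closure_induction with
    | mem g hg =>
      have h0 : 0 ≤ f₀ g := (hf₀ g).symm ▸ Finset.sum_nonneg fun i _ => hf1 i g hg
      refine ⟨?_, fun h => ?_, fun h => ?_⟩
      · obtain ⟨r, hr⟩ : (f₀ g).den ∣ D := Finset.dvd_prod_of_mem (fun k => (f₀ k).den) hg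
        refine ⟨r * (f₀ g).num.natAbs, ?_⟩
        have h1 : ((f₀ g).num.natAbs : ℚ) = (f₀ g).num := by
          rw [← Int.cast_natCast, Int.natAbs_of_nonneg (Rat.num_nonneg.2 h0)]
        rw [hr, Nat.cast_mul, Nat.cast_mul, h1, mul_comm ((f₀ g).den : ℚ) r, mul_assoc, Rat.den_mul_eq_num]
      · by_contra hgF
        rw [hf₀, Finset.sum_eq_zero_iff_of_nonneg fun i _ => hf1 i g hg] at h
        exact (hf3 g hg hgF).ne' (h g hg)
      · rw [hf₀]
        exact Finset.sum_eq_zero fun i _ => le_antisymm (hf2 i g (Finset.mem_filter.2 ⟨hg, h⟩)) (hf1 i g hg)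
    | zero => exact ⟨⟨0, by simp⟩, by simp [F.zero_mem]⟩
    | add x y hx hy ihx ihy =>
      rw [hs] at hx hy
      obtain ⟨⟨a, ha⟩, hax⟩ := ihx
      obtain ⟨⟨b, hb⟩, hby⟩ := ihy
      refine ⟨⟨a + b, by rw [map_add, mul_add, ha, hb, Nat.cast_add]⟩, fun h => ?_, fun h => ?_⟩
      · rw [map_add] at h
        have hx0 : 0 ≤ f₀ x := (mul_nonneg_iff_of_pos_left hD).1 (ha ▸ Nat.cast_nonneg a)
        have hy0 : 0 ≤ f₀ y := (mul_nonneg_iff_of_pos_left hD).1 (hb ▸ Nat.cast_nonneg b)
        obtain ⟨h1, h2⟩ := (add_eq_zero_iff_of_nonneg hx0 hy0).1 h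
        exact F.add_mem (hax.1 h1) (hby.1 h2)
      · obtain ⟨h1, h2⟩ := hF.mem_of_add_mem x hx y hy h
        rw [map_add, hax.2 h1, hby.2 h2, add_zero]
  have hA : ∀ n : N, ∃ a : ℕ, (D : ℚ) * f₀ (n : M) = a := fun n => (key n n.2).1
  choose h hh using hA
  refine ⟨AddMonoidHom.mk ⟨h, Nat.cast_injective (R := ℚ) ((hh 0).symm.trans (by simp))⟩ fun x y =>
    Nat.cast_injective (R := ℚ) ?_, fun n => ?_⟩
  · refine (hh (x + y)).symm.trans ?_
    rw [AddSubmonoid.coe_add, map_add, mul_add, hh, hh, Nat.cast_add]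
  · change h n = 0 ↔ _
    rw [← Nat.cast_eq_zero (R := ℚ), ← hh, mul_eq_zero, or_iff_right hD.ne', (key n n.2).2]

variable {S : Scheme.{u}} {M : Type} [AddCommMonoid M] {X : Over S}
  (a : _root_.Magnet.MonAct (_root_.Magnet.AMonS S M) X) {N F : AddSubmonoid M}

/-- The point `n ↦ c ^ h n` of `A(N)`. -/
def powPoint {T : Over S} (h : N →+ ℕ) (c : Γ(T.left, ⊤)) : T ⟶ _root_.Magnet.AMonS S N :=
  points.symm
    { toFun := fun n => c ^ h (Multiplicative.toAdd n)
      map_one' := by simp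
      map_mul' := fun m n => by simp [pow_add] }

theorem points_powPoint {T : Over S} (h : N →+ ℕ) (c : Γ(T.left, ⊤)) (n : Multiplicative N) :
    points (powPoint h c) n = c ^ h (Multiplicative.toAdd n) := by
  rw [powPoint, MulEquiv.apply_symm_apply]
  rfl

theorem comp_powPoint {T T' : Over S} (h : N →+ ℕ) (c : Γ(T.left, ⊤)) (t : T' ⟶ T) :
    t ≫ powPoint h c = powPoint h (t.left.appTop c) :=
  points_ext fun n => by rw [points_comp, points_powPoint, points_powPoint, map_pow]

/-- The homotopy. -/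
def contract (h : N →+ ℕ) {T : Over S} (φ : (_root_.Magnet.attr a N).obj (op T)) (c : Γ(T.left, ⊤)) :
    (_root_.Magnet.attr a N).obj (op T) :=
  ⟨lift (fst _ T * (snd _ T ≫ powPoint h c)) (snd _ T) ≫ φ.1, by
    rw [_root_.Magnet.MonAct.mem_eqvHom_iff]
    intro T' g y t
    have e := (_root_.Magnet.MonAct.mem_eqvHom_iff φ.1).1 φ.2 T' g (y * (t ≫ powPoint h c)) t
    simp only [comp_lift_assoc, MonObj.comp_mul, lift_fst, lift_snd_assoc, lift_snd]
    rw [← e]
    simp only [_root_.Magnet.subAct, _root_.Magnet.MonAct.lift_restrict_act,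
      _root_.Magnet.MonAct.lift_regular_act, mul_assoc]⟩

theorem exists_homotopy (hF : _root_.Magnet.IsFace N F) (h : N →+ ℕ) (hh : ∀ n, h n = 0 ↔ (n : M) ∈ F) :
    ∃ δ : ∀ T : Over S, (_root_.Magnet.attr a N).obj (op T) → Γ(T.left, ⊤) →
        (_root_.Magnet.attr a N).obj (op T),
      (∀ (T T' : Over S) (t : T' ⟶ T) (x : (_root_.Magnet.attr a N).obj (op T)) (c : Γ(T.left, ⊤)),
          δ T' ((_root_.Magnet.attr a N).map t.op x) (t.left.appTop c) =
            (_root_.Magnet.attr a N).map t.op (δ T x c)) ∧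
      (∀ (T : Over S) (x : (_root_.Magnet.attr a N).obj (op T)),
          δ T x 0 = (_root_.Magnet.attrMap a hF.le).app (op T) ((_root_.Magnet.attrFace a hF).app (op T) x)) ∧
      (∀ (T : Over S) (x : (_root_.Magnet.attr a N).obj (op T)), δ T x 1 = x) ∧
      (∀ (T : Over S) (y : (_root_.Magnet.attr a F).obj (op T)) (c : Γ(T.left, ⊤)),
          δ T ((_root_.Magnet.attrMap a hF.le).app (op T) y) c = (_root_.Magnet.attrMap a hF.le).app (op T) y) := by
  classical
  refine ⟨fun T x c => contract a h x c, ?_, ?_, ?_, ?_⟩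
  · intro T T' t x c
    refine Subtype.ext ?_
    change lift (fst _ T' * (snd _ T' ≫ powPoint h (t.left.appTop c))) (snd _ T') ≫
        (_root_.Magnet.AMonS S N ◁ t) ≫ x.1 =
      (_root_.Magnet.AMonS S N ◁ t) ≫ lift (fst _ T * (snd _ T ≫ powPoint h c)) (snd _ T) ≫ x.1
    rw [lift_whiskerLeft_assoc, comp_lift_assoc, MonObj.comp_mul, whiskerLeft_fst, whiskerLeft_snd,
      whiskerLeft_snd_assoc]
    simp only [comp_powPoint]
  · intro T x
    refine Subtype.ext ?_
    change lift (fst _ T * (snd _ T ≫ powPoint h (0 : Γ(T.left, ⊤)))) (snd _ T) ≫ x.1 =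
      (_root_.Magnet.AMonS.map S (AddSubmonoid.inclusion hF.le) ▷ T) ≫
        (_root_.Magnet.AMonS.faceMap S hF ▷ T) ≫ x.1
    rw [← comp_whiskerRight_assoc]
    congr 1
    apply CartesianMonoidalCategory.hom_ext
    · rw [lift_fst, whiskerRight_fst]
      refine points_ext fun n => ?_
      rw [map_mul, MonoidHom.mul_apply, points_comp, points_powPoint, map_pow, map_zero, ← Category.assoc,
        points_faceMap]
      by_cases hn : ((Multiplicative.toAdd n : N) : M) ∈ F
      · rw [dif_pos hn, (hh _).2 hn, pow_zero, mul_one, points_map]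
        rfl
      · rw [dif_neg hn, zero_pow (fun h0 => hn ((hh _).1 h0)), mul_zero]
    · rw [lift_snd, whiskerRight_snd]
  · intro T x
    refine Subtype.ext ?_
    change lift (fst _ T * (snd _ T ≫ powPoint h (1 : Γ(T.left, ⊤)))) (snd _ T) ≫ x.1 = x.1
    have e : snd (_root_.Magnet.AMonS S N) T ≫ powPoint h (1 : Γ(T.left, ⊤)) = 1 :=
      points_ext fun n => by rw [points_comp, points_powPoint, one_pow, map_one, map_one]; rfl
    rw [e, mul_one, lift_fst_snd, Category.id_comp]
  · intro T y c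
    refine Subtype.ext ?_
    change lift (fst _ T * (snd _ T ≫ powPoint h c)) (snd _ T) ≫
        (_root_.Magnet.AMonS.map S (AddSubmonoid.inclusion hF.le) ▷ T) ≫ y.1 =
      (_root_.Magnet.AMonS.map S (AddSubmonoid.inclusion hF.le) ▷ T) ≫ y.1
    rw [← Category.assoc]
    congr 1
    apply CartesianMonoidalCategory.hom_ext
    · rw [lift_whiskerRight, lift_fst, whiskerRight_fst]
      refine points_ext fun n => ?_
      rw [points_map, points_map, MonoidHom.comp_apply, MonoidHom.comp_apply, map_mul, MonoidHom.mul_apply,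
        points_comp, points_powPoint]
      erw [(hh (AddSubmonoid.inclusion hF.le (Multiplicative.toAdd n))).2 (Multiplicative.toAdd n).2]
      rw [pow_zero, map_one, mul_one]
    · rw [lift_whiskerRight, lift_snd, whiskerRight_snd]

end Groth.Agent.Magnet
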