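import Mathlib.AlgebraicGeometry.Sites.Representability
import Mathlib.CategoryTheory.Sites.Over
import Mathlib.CategoryTheory.Sites.Canonical

/-!
# Representability of Zariski sheaves on `Over S` is local

A Zariski sheaf `F` on schemes over `S` with a map to a scheme `X` over `S` is representable if, for
the members of a family of opens of `X` covering all values of `F`, the subfunctor of elements landing
in the open is representable.
-/

set_option autoImplicit false
set_option backward.isDefEq.respectTransparency false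
set_option backward.isDefEq.respectTransparency.types false

universe u

open CategoryTheory CategoryTheory.Limits AlgebraicGeometry Opposite

noncomputable section

namespace Groth.Agent.Magnet

variable {S : Scheme.{u}} (F : (Over S)ᵒᵖ ⥤ Type u)

/-- The presheaf on all schemes with value at `T` the pairs of a morphism `T ⟶ S` and an element of
`F` over it. -/
def extendOver : Scheme.{u}ᵒᵖ ⥤ Type u where
  obj T := Σ s : T.unop ⟶ S, F.obj (op (Over.mk s))
  map {T T'} g := TypeCat.ofHom fun p => ⟨g.unop ≫ p.1,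
    F.map (Over.homMk g.unop rfl : Over.mk (g.unop ≫ p.1) ⟶ Over.mk p.1).op p.2⟩
  map_id T := by
    refine TypeCat.homEquiv.injective (funext fun ⟨s, x⟩ => ?_)
    have key : ∀ (s' : T.unop ⟶ S) (h : 𝟙 _ ≫ s = s'),
        (⟨s', F.map (Over.homMk (𝟙 _) h : Over.mk s' ⟶ Over.mk s).op x⟩ :
          Σ s : T.unop ⟶ S, F.obj (op (Over.mk s))) = ⟨s, x⟩ := by
      intro s' h
      obtain rfl : s = s' := by simpa using h
      have : (Over.homMk (𝟙 _) h : Over.mk s ⟶ Over.mk s) = 𝟙 _ := Over.OverMorphism.ext rfl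
      rw [this]
      simp
    exact key _ rfl
  map_comp {T T' T''} g g' := by
    refine TypeCat.homEquiv.injective (funext fun ⟨s, x⟩ => ?_)
    have key : ∀ (s' : T''.unop ⟶ S) (h : (g'.unop ≫ g.unop) ≫ s = s') (h' : g'.unop ≫ g.unop ≫ s = s'),
        (⟨s', F.map (Over.homMk (g'.unop ≫ g.unop) h : Over.mk s' ⟶ Over.mk s).op x⟩ :
          Σ s : T''.unop ⟶ S, F.obj (op (Over.mk s))) =
        ⟨g'.unop ≫ g.unop ≫ s, F.map (Over.homMk g'.unop rfl :
          Over.mk (g'.unop ≫ g.unop ≫ s) ⟶ Over.mk (g.unop ≫ s)).op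
            (F.map (Over.homMk g.unop rfl : Over.mk (g.unop ≫ s) ⟶ Over.mk s).op x)⟩ := by
      rintro s' h rfl
      rw [← Functor.map_comp_apply, ← op_comp]
      congr 3
    exact key _ rfl (Category.assoc _ _ _).symm

theorem map_eq_iff {T T' : Scheme.{u}} (g : T' ⟶ T) {t : T' ⟶ S} {s : T ⟶ S}
    (y : F.obj (op (Over.mk t))) (x : F.obj (op (Over.mk s))) :
    (extendOver F).map g.op ⟨s, x⟩ = ⟨t, y⟩ ↔
      ∃ h : g ≫ s = t, F.map (Over.homMk g h : Over.mk t ⟶ Over.mk s).op x = y := by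
  constructor
  · intro h
    have h1 : g ≫ s = t := congrArg Sigma.fst h
    subst h1
    exact ⟨rfl, eq_of_heq (Sigma.mk.inj_iff.1 h).2⟩
  · rintro ⟨rfl, h⟩
    exact Sigma.ext rfl (heq_of_eq h)

variable {F}

theorem map_map {A B C : Over S} (f : A ⟶ B) (g : B ⟶ C) (h : A ⟶ C) (e : f ≫ g = h)
    (x : F.obj (op C)) : F.map f.op (F.map g.op x) = F.map h.op x := by
  rw [← e, op_comp, Functor.map_comp_apply]

theorem isSheaf_extendOver (hF : Presheaf.IsSheaf (Scheme.zariskiTopology.over S) F) :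
    Presieve.IsSheaf Scheme.zariskiTopology (extendOver F) := by
  intro T R hR a ha
  rw [Presieve.compatible_iff_sieveCompatible] at ha
  let st : Presieve.FamilyOfElements (yoneda.obj S) R.arrows := fun Z f hf => (a f hf).1
  have hst : st.Compatible := by
    rw [Presieve.compatible_iff_sieveCompatible]
    intro Z W f g hf
    exact congrArg Sigma.fst (ha f g hf)
  obtain ⟨s, hs, hsu⟩ := GrothendieckTopology.Subcanonical.isSheaf_of_isRepresentable
    (J := Scheme.zariskiTopology) (yoneda.obj S) R hR st hst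
  have hR' : (Sieve.overEquiv (Over.mk s)).symm R ∈ Scheme.zariskiTopology.over S (Over.mk s) :=
    GrothendieckTopology.overEquiv_symm_mem_over _ _ _ hR
  have hfst : ∀ {Z : Over S} (k : Z ⟶ Over.mk s) (hk : R k.left), (a k.left hk).1 = Z.hom :=
    fun {Z} k hk => (hs k.left hk).symm.trans (Over.w k)
  let fam : Presieve.FamilyOfElements F ((Sieve.overEquiv (Over.mk s)).symm R).arrows :=
    fun Z k hk => F.map (Over.homMk (𝟙 _) (by
      have := hfst k ((Sieve.overEquiv_symm_iff R k).1 hk)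
      simp [this]) : Z ⟶ Over.mk (a k.left ((Sieve.overEquiv_symm_iff R k).1 hk)).1).op
        (a k.left ((Sieve.overEquiv_symm_iff R k).1 hk)).2
  have hfam : fam.Compatible := by
    rw [Presieve.compatible_iff_sieveCompatible]
    intro Z W k g hk
    have hk' : R k.left := (Sieve.overEquiv_symm_iff R k).1 hk
    obtain ⟨h, e⟩ := (map_eq_iff F g.left _ _).1 (ha k.left g.left hk').symm
    refine Eq.trans ?_ (map_map g _ _ rfl (a k.left hk').2).symm
    refine (congrArg (fun y => F.map _ y) e.symm).trans (map_map _ _ _ ?_ _)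
    apply Over.OverMorphism.ext
    simp
  obtain ⟨x, hx, hxu⟩ := (isSheaf_iff_isSheaf_of_type _ _).1 hF _ hR' fam hfam
  refine ⟨⟨s, x⟩, fun Z f hf => ?_, ?_⟩
  · refine (map_eq_iff F f _ _).2 ⟨hs f hf, ?_⟩
    have := hx (Over.homMk f (hs f hf) : Over.mk (a f hf).1 ⟶ Over.mk s) hf
    refine this.trans ?_
    exact (congrArg (fun m : Over.mk (a f hf).1 ⟶ Over.mk (a f hf).1 => F.map m.op (a f hf).2)
      (Over.OverMorphism.ext rfl : _ = 𝟙 (Over.mk (a f hf).1))).trans (by simp)
  · rintro ⟨s', x'⟩ hx'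
    have e : s' = s := hsu s' fun Z f hf => congrArg Sigma.fst (hx' f hf)
    subst e
    refine Sigma.ext rfl (heq_of_eq (hxu x' fun Z k hk => ?_))
    have hk' : R k.left := (Sieve.overEquiv_symm_iff R k).1 hk
    obtain ⟨h, e⟩ := (map_eq_iff F k.left _ _).1 (hx' k.left hk')
    change F.map k.op x' = F.map _ (a k.left hk').2
    rw [← e]
    refine (map_map _ _ _ ?_ _).symm
    apply Over.OverMorphism.ext
    simp

/-- A Zariski sheaf on `Over S` with a map to `X`, whose values locally land in opens over which it is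
representable, is representable. -/
theorem exists_representableBy_of_openCover (hF : Presheaf.IsSheaf (Scheme.zariskiTopology.over S) F)
    {X : Over S} (e : F ⟶ yoneda.obj X) {ι : Type u} (U : ι → X.left.Opens)
    (hcov : ∀ (T : Over S) (x : F.obj (op T)), ⨆ i, (e.app (op T) x).left ⁻¹ᵁ U i = ⊤)
    (hU : ∀ i, ∃ (Z : Over S) (z : F.obj (op Z)), Set.range (e.app (op Z) z).left ⊆ (U i : Set X.left) ∧
      ∀ (T : Over S) (x : F.obj (op T)), Set.range (e.app (op T) x).left ⊆ (U i : Set X.left) →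
        ∃! v : T ⟶ Z, F.map v.op z = x) :
    ∃ Z : Over S, Nonempty (F.RepresentableBy Z) := by
  choose Z z hz hlift using hU
  let F' : Sheaf Scheme.zariskiTopology.{u} (Type u) :=
    ⟨extendOver F, (isSheaf_iff_isSheaf_of_type _ _).2 (isSheaf_extendOver hF)⟩
  have he : ∀ {A B : Over S} (g : A ⟶ B) (x : F.obj (op B)),
      e.app (op A) (F.map g.op x) = g ≫ e.app (op B) x :=
    fun g x => ConcreteCategory.congr_hom (e.naturality g.op) x
  let f : ∀ i, yoneda.obj (Z i).left ⟶ F'.1 := fun i =>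
    yonedaEquiv.symm (⟨(Z i).hom, z i⟩ : (extendOver F).obj (op (Z i).left))
  have hf : ∀ (i : ι) {T : Scheme.{u}} (g : T ⟶ (Z i).left),
      (f i).app (op T) g = (extendOver F).map g.op ⟨(Z i).hom, z i⟩ := fun i T g => rfl
  have key : ∀ (i : ι) {T W : Scheme.{u}} (g : W ⟶ (Z i).left) (t : T ⟶ S)
      (x : F.obj (op (Over.mk t))) (j : W ⟶ T),
      (f i).app (op W) g = (extendOver F).map j.op ⟨t, x⟩ →
      Set.range j ⊆ ((e.app _ x).left ⁻¹ᵁ U i : T.Opens) := by
    intro i T W g t x j h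
    rw [hf] at h
    obtain ⟨hg, hx⟩ := (map_eq_iff F g _ _).1 h
    rintro _ ⟨w, rfl⟩
    have h' := congrArg (fun y => (e.app _ y).left w) hx
    simp only [he] at h'
    change (e.app _ x).left (j w) ∈ U i
    have h'' : (e.app _ (z i)).left (g w) = (e.app _ x).left (j w) := h'
    rw [← h'']
    exact hz i ⟨_, rfl⟩
  have hopen : ∀ i, IsOpenImmersion.presheaf (f i) := by
    refine fun i => MorphismProperty.relative.of_exists fun T g => ?_
    obtain ⟨⟨t, x⟩, rfl⟩ := (yonedaEquiv (X := T) (F := extendOver F)).symm.surjective g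
    let V : T.Opens := (e.app _ x).left ⁻¹ᵁ U i
    obtain ⟨v, hv, hvu⟩ := hlift i (Over.mk (V.ι ≫ t))
      (F.map (Over.homMk V.ι rfl : Over.mk (V.ι ≫ t) ⟶ Over.mk t).op x) (by
        rw [he]
        rintro _ ⟨w, rfl⟩
        have : V.ι w ∈ Set.range V.ι := ⟨w, rfl⟩
        rw [Scheme.Opens.range_ι] at this
        exact this)
    refine ⟨V.toScheme, yoneda.map v.left, V.ι, ?_, inferInstance⟩
    refine IsPullback.of_forall_isPullback_app fun W => (Types.isPullback_iff _ _ _ _).2 ⟨?_, ?_, ?_⟩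
    · ext w
      change (f i).app W (w ≫ v.left) = (extendOver F).map (w ≫ V.ι).op ⟨t, x⟩
      refine (hf i _).trans ?_
      rw [op_comp, op_comp, Functor.map_comp_apply, Functor.map_comp_apply]
      exact congrArg _ (((map_eq_iff F v.left _ _).2 ⟨Over.w v, hv⟩).trans
        ((map_eq_iff F V.ι _ _).2 ⟨rfl, rfl⟩).symm)
    · rintro w w' ⟨-, h⟩
      exact (cancel_mono V.ι).1 h
    · intro g w h
      have hr := key i g t x w h
      rw [← Scheme.Opens.range_ι] at hr
      let w' : W.unop ⟶ V.toScheme := IsOpenImmersion.lift V.ι w hr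
      have hw' : w' ≫ V.ι = w := IsOpenImmersion.lift_fac _ _ _
      refine ⟨w', ?_, hw'⟩
      change w' ≫ v.left = g
      obtain ⟨hg, hx⟩ := (map_eq_iff F g _ _).1 h
      let T' : Over S := Over.mk (w ≫ t)
      let w₁ : T' ⟶ Over.mk (V.ι ≫ t) :=
        Over.homMk w' (by change w' ≫ V.ι ≫ t = w ≫ t; rw [reassoc_of% hw'])
      obtain ⟨u₀, hu₀, hu⟩ := hlift i T' (F.map (Over.homMk w rfl : T' ⟶ Over.mk t).op x) (by
        rw [he]
        rintro _ ⟨p, rfl⟩
        exact key i g t x w h ⟨p, rfl⟩)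
      have h₁ : w₁ ≫ v = u₀ := hu _ (by
        refine ((map_map w₁ v _ rfl (z i)).symm.trans ?_)
        rw [hv]
        exact map_map _ _ _ (Over.OverMorphism.ext hw') _)
      have h₂ : (Over.homMk g hg : T' ⟶ Z i) = u₀ := hu _ hx
      exact congrArg CommaMorphism.left (h₁.trans h₂.symm)
  have : Presheaf.IsLocallySurjective Scheme.zariskiTopology (Sigma.desc f) := by
    refine ⟨fun {T} p => ?_⟩
    obtain ⟨t, x⟩ := p
    let 𝒱 := T.openCoverOfIsOpenCover (fun i => (e.app _ x).left ⁻¹ᵁ U i) (hcov _ x)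
    refine GrothendieckTopology.superset_covering _ ?_ 𝒱.mem_grothendieckTopology
    rintro W w ⟨W', a, _, ⟨i⟩, rfl⟩
    obtain ⟨v, hv, -⟩ := hlift i (Over.mk ((a ≫ 𝒱.f i) ≫ t))
      (F.map (Over.homMk (a ≫ 𝒱.f i) rfl : Over.mk ((a ≫ 𝒱.f i) ≫ t) ⟶ Over.mk t).op x) (by
        rw [he]
        rintro _ ⟨q, rfl⟩
        have : 𝒱.f i (a q) ∈ Set.range (𝒱.f i) := ⟨_, rfl⟩
        exact (Scheme.Opens.range_ι ((e.app _ x).left ⁻¹ᵁ U i)).le this)
    refine ⟨(Sigma.ι (fun i => yoneda.obj (Z i).left) i).app (op W) v.left, ?_⟩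
    rw [← NatTrans.comp_app_apply, Sigma.ι_desc, hf]
    exact (map_eq_iff F v.left _ _).2 ⟨Over.w v, hv⟩
  let r := Scheme.LocalRepresentability.representableBy (F := F') hopen
  let η : (extendOver F).obj (op _) := r.homEquiv (𝟙 _)
  have hr : ∀ {T : Scheme.{u}} (g : T ⟶ _), r.homEquiv g = (extendOver F).map g.op η :=
    fun g => r.homEquiv_eq g
  let P : Over S := Over.mk η.1
  let x₀ : F.obj (op P) := η.2
  refine ⟨P, ⟨{
    homEquiv := fun {T} => Equiv.ofBijective (fun v => F.map v.op x₀) ⟨fun v v' h => ?_, fun y => ?_⟩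
    homEquiv_comp := fun g v => by
      change F.map (g ≫ v).op x₀ = F.map g.op (F.map v.op x₀)
      rw [op_comp, Functor.map_comp_apply] }⟩⟩
  · refine Over.OverMorphism.ext (r.homEquiv.injective ?_)
    rw [hr, hr]
    exact ((map_eq_iff F v.left _ _).2 ⟨Over.w v, h⟩).trans
      ((map_eq_iff F v'.left _ _).2 ⟨Over.w v', rfl⟩).symm
  · obtain ⟨g, hg⟩ := r.homEquiv.surjective (⟨T.hom, y⟩ : (extendOver F).obj (op T.left))
    rw [hr] at hg
    obtain ⟨hw, hy⟩ := (map_eq_iff F g _ _).1 hg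
    exact ⟨Over.homMk g hw, hy⟩

end Groth.Agent.Magnet
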