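import Groth.Prelude.Def_Magnet2
import Mathlib.AlgebraicGeometry.Group.Affine
import Mathlib.RingTheory.Bialgebra.MonoidAlgebra
import Mathlib.AlgebraicGeometry.GammaSpecAdjunction

/-!
# Points of diagonalizable monoid schemes

`T`-points of `A(M)_S` are the monoid homomorphisms from `M` to the ring of global functions on `T`.
-/

set_option autoImplicit false
set_option linter.style.haveILetI false
set_option backward.isDefEq.respectTransparency false
set_option backward.isDefEq.respectTransparency.types false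

universe u

open CategoryTheory CategoryTheory.Limits MonoidalCategory CartesianMonoidalCategory MonObj
  AlgebraicGeometry Opposite

noncomputable section

namespace Groth.Agent.Magnet

section Ring

variable (R : Type u) [CommRing R] {M N : Type} [AddCommMonoid M] [AddCommMonoid N]
  {T T' : Over (Spec (CommRingCat.of R))}

/-- The value at a character of a point of `A(M)_R`. -/
def evalChar (x : T ⟶ _root_.Magnet.AMon R M) : Multiplicative M →* Γ(T.left, ⊤) :=
  (((Scheme.ΓSpecIso (CommRingCat.of (MonoidAlgebra R (Multiplicative M)))).inv ≫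
    x.left.appTop).hom : MonoidAlgebra R (Multiplicative M) →* Γ(T.left, ⊤)).comp
    (MonoidAlgebra.of R (Multiplicative M))

theorem evalChar_comp (s : T' ⟶ T) (x : T ⟶ _root_.Magnet.AMon R M) (m : Multiplicative M) :
    evalChar R (s ≫ x) m = s.left.appTop (evalChar R x m) := rfl

theorem appTop_toSpecΓ_comp {X : Scheme.{u}} {A : CommRingCat.{u}} (g : A ⟶ Γ(X, ⊤)) :
    (X.toSpecΓ ≫ Spec.map g).appTop = (Scheme.ΓSpecIso A).hom ≫ g := by
  rw [Scheme.Hom.comp_appTop, Scheme.toSpecΓ_appTop, Scheme.ΓSpecIso_naturality]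

theorem eq_toSpecΓ_comp {X : Scheme.{u}} {A : CommRingCat.{u}} (f : X ⟶ Spec A) :
    f = X.toSpecΓ ≫ Spec.map ((Scheme.ΓSpecIso A).inv ≫ f.appTop) := by
  apply ext_of_isAffine
  rw [appTop_toSpecΓ_comp, Iso.hom_inv_id_assoc]

theorem evalChar_bijective :
    Function.Bijective (evalChar R : (T ⟶ _root_.Magnet.AMon R M) → _) := by
  letI : Algebra R Γ(T.left, ⊤) :=
    ((Scheme.ΓSpecIso (CommRingCat.of R)).inv ≫ T.hom.appTop).hom.toAlgebra
  constructor
  · intro x y h
    apply Over.OverMorphism.ext
    rw [eq_toSpecΓ_comp x.left, eq_toSpecΓ_comp y.left]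
    congr 2
    apply CommRingCat.hom_ext
    apply MonoidAlgebra.ringHom_ext
    · intro r
      have key : ∀ z : T ⟶ _root_.Magnet.AMon R M,
          z.left.appTop ((Scheme.ΓSpecIso (CommRingCat.of (MonoidAlgebra R (Multiplicative M)))).inv
            (algebraMap R (MonoidAlgebra R (Multiplicative M)) r)) = algebraMap R Γ(T.left, ⊤) r := by
        intro z
        have hz : z.left ≫ Spec.map (CommRingCat.ofHom
            (algebraMap R (MonoidAlgebra R (Multiplicative M)))) = T.hom := Over.w z
        have h2 : (CommRingCat.ofHom (algebraMap R (MonoidAlgebra R (Multiplicative M)))) ≫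
            (Scheme.ΓSpecIso (CommRingCat.of (MonoidAlgebra R (Multiplicative M)))).inv ≫ z.left.appTop =
            (Scheme.ΓSpecIso (CommRingCat.of R)).inv ≫ T.hom.appTop := by
          rw [Scheme.ΓSpecIso_inv_naturality_assoc, ← Scheme.Hom.comp_appTop, hz]
        exact ConcreteCategory.congr_hom h2 r
      exact (key x).trans (key y).symm
    · intro m
      exact DFunLike.congr_fun h m
  · intro χ
    let g : CommRingCat.of (MonoidAlgebra R (Multiplicative M)) ⟶ Γ(T.left, ⊤) :=
      CommRingCat.ofHom (MonoidAlgebra.lift R Γ(T.left, ⊤) (Multiplicative M) χ).toRingHom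
    have hg : CommRingCat.ofHom (algebraMap R (MonoidAlgebra R (Multiplicative M))) ≫ g =
        (Scheme.ΓSpecIso (CommRingCat.of R)).inv ≫ T.hom.appTop := by
      apply CommRingCat.hom_ext
      exact RingHom.ext fun r =>
        (MonoidAlgebra.lift R Γ(T.left, ⊤) (Multiplicative M) χ).commutes r
    refine ⟨Over.homMk (T.left.toSpecΓ ≫ Spec.map g) ?_, ?_⟩
    · change (T.left.toSpecΓ ≫ Spec.map g) ≫ Spec.map _ = T.hom
      rw [Category.assoc, ← Spec.map_comp, hg]
      exact (eq_toSpecΓ_comp T.hom).symm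
    · refine MonoidHom.ext fun m => ?_
      have h1 : (Scheme.ΓSpecIso (CommRingCat.of (MonoidAlgebra R (Multiplicative M)))).inv ≫
          (T.left.toSpecΓ ≫ Spec.map g).appTop = g := by
        rw [appTop_toSpecΓ_comp, Iso.inv_hom_id_assoc]
      exact (ConcreteCategory.congr_hom h1 (MonoidAlgebra.of R (Multiplicative M) m)).trans
        (MonoidAlgebra.lift_of χ m)

theorem evalChar_mul (x y : T ⟶ _root_.Magnet.AMon R M) :
    evalChar R (x * y) = evalChar R x * evalChar R y := by
  letI : Algebra R Γ(T.left, ⊤) :=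
    ((Scheme.ΓSpecIso (CommRingCat.of R)).inv ≫ T.hom.appTop).hom.toAlgebra
  let tΓ : T ⟶ (Spec (CommRingCat.of Γ(T.left, ⊤))).asOver (Spec (CommRingCat.of R)) :=
    Over.homMk T.left.toSpecΓ (eq_toSpecΓ_comp T.hom).symm
  let back : (Multiplicative M →* Γ(T.left, ⊤)) → (T ⟶ _root_.Magnet.AMon R M) :=
    fun χ => tΓ ≫ Spec.mapMulEquiv (MonoidAlgebra.liftMulEquiv R Γ(T.left, ⊤) (Multiplicative M) χ)
  have hmul : ∀ a b, back (a * b) = back a * back b := by
    intro a b
    change tΓ ≫ _ = _
    rw [map_mul, map_mul, MonObj.comp_mul]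
  have hb : ∀ χ, evalChar R (back χ) = χ := by
    intro χ
    refine MonoidHom.ext fun m => ?_
    let g : CommRingCat.of (MonoidAlgebra R (Multiplicative M)) ⟶ Γ(T.left, ⊤) :=
      CommRingCat.ofHom (MonoidAlgebra.lift R Γ(T.left, ⊤) (Multiplicative M) χ).toRingHom
    have h1 : (Scheme.ΓSpecIso (CommRingCat.of (MonoidAlgebra R (Multiplicative M)))).inv ≫
        (T.left.toSpecΓ ≫ Spec.map g).appTop = g := by
      rw [appTop_toSpecΓ_comp, Iso.inv_hom_id_assoc]
    exact (ConcreteCategory.congr_hom h1 (MonoidAlgebra.of R (Multiplicative M) m)).trans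
      (MonoidAlgebra.lift_of χ m)
  obtain ⟨a, rfl⟩ : ∃ a, back a = x := ⟨_, (evalChar_bijective R).1 (hb (evalChar R x))⟩
  obtain ⟨b, rfl⟩ : ∃ b, back b = y := ⟨_, (evalChar_bijective R).1 (hb (evalChar R y))⟩
  rw [← hmul, hb, hb, hb]

theorem evalChar_map (f : N →+ M) (x : T ⟶ _root_.Magnet.AMon R M) :
    evalChar R (x ≫ _root_.Magnet.AMon.map R f) =
      (evalChar R x).comp (AddMonoidHom.toMultiplicative f) := by
  refine MonoidHom.ext fun n => ?_
  let φ : CommRingCat.of (MonoidAlgebra R (Multiplicative N)) ⟶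
      CommRingCat.of (MonoidAlgebra R (Multiplicative M)) :=
    CommRingCat.ofHom (MonoidAlgebra.mapDomainBialgHom R (AddMonoidHom.toMultiplicative f)).toAlgHom.toRingHom
  have h1 : (Scheme.ΓSpecIso (CommRingCat.of (MonoidAlgebra R (Multiplicative N)))).inv ≫
      (x.left ≫ Spec.map φ).appTop =
      φ ≫ (Scheme.ΓSpecIso (CommRingCat.of (MonoidAlgebra R (Multiplicative M)))).inv ≫ x.left.appTop := by
    rw [Scheme.Hom.comp_appTop, Scheme.ΓSpecIso_inv_naturality_assoc]
  refine (ConcreteCategory.congr_hom h1 (MonoidAlgebra.of R (Multiplicative N) n)).trans ?_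
  exact congrArg (fun z => x.left.appTop
    ((Scheme.ΓSpecIso (CommRingCat.of (MonoidAlgebra R (Multiplicative M)))).inv z))
    (MonoidAlgebra.mapDomain_single)

end Ring

section Base

variable {S : Scheme.{u}} {M N : Type} [AddCommMonoid M] [AddCommMonoid N] {T T' : Over S}

local notation "qZ" => Limits.IsTerminal.from specULiftZIsTerminal S

/-- Points of `A(M)_S` as homomorphisms from the monoid of characters to functions. -/
def points : (T ⟶ _root_.Magnet.AMonS S M) ≃* (Multiplicative M →* Γ(T.left, ⊤)) where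
  toEquiv := ((Over.mapPullbackAdj qZ).homEquiv T (_root_.Magnet.AMon (ULift.{u} ℤ) M)).symm.trans
    (Equiv.ofBijective _ (evalChar_bijective (ULift.{u} ℤ)))
  map_mul' x y := by
    let adj := Over.mapPullbackAdj qZ
    change evalChar (ULift.{u} ℤ) ((adj.homEquiv _ _).symm (x * y)) =
      evalChar (ULift.{u} ℤ) ((adj.homEquiv _ _).symm x) *
        evalChar (ULift.{u} ℤ) ((adj.homEquiv _ _).symm y)
    rw [← evalChar_mul]
    congr 1
    apply (adj.homEquiv T (_root_.Magnet.AMon (ULift.{u} ℤ) M)).injective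
    rw [Equiv.apply_symm_apply, Adjunction.homEquiv_unit, Functor.map_mul, MonObj.comp_mul,
      ← Adjunction.homEquiv_unit, ← Adjunction.homEquiv_unit, Equiv.apply_symm_apply,
      Equiv.apply_symm_apply]

theorem points_apply (x : T ⟶ _root_.Magnet.AMonS S M) :
    points x = evalChar (ULift.{u} ℤ)
      (Over.homMk (U := (Over.map qZ).obj T) (x.left ≫ pullback.fst _ _)
        (specULiftZIsTerminal.hom_ext _ _)) :=
  rfl

theorem points_comp (s : T' ⟶ T) (x : T ⟶ _root_.Magnet.AMonS S M) (m : Multiplicative M) :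
    points (s ≫ x) m = s.left.appTop (points x m) := rfl

theorem points_map (f : N →+ M) (x : T ⟶ _root_.Magnet.AMonS S M) :
    points (x ≫ _root_.Magnet.AMonS.map S f) = (points x).comp (AddMonoidHom.toMultiplicative f) := by
  rw [points_apply, points_apply, ← evalChar_map]
  congr 1
  apply Over.OverMorphism.ext
  change (x.left ≫ _) ≫ _ = (x.left ≫ pullback.fst _ _) ≫ _
  rw [Category.assoc, Category.assoc]
  congr 1
  exact pullback.lift_fst _ _ _

theorem points_ext {x y : T ⟶ _root_.Magnet.AMonS S M} (h : ∀ m, points x m = points y m) : x = y :=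
  points.injective (MonoidHom.ext h)

theorem comp_symm_points (s : T' ⟶ T) (χ : Multiplicative M →* Γ(T.left, ⊤)) :
    s ≫ points.symm χ = points.symm ((s.left.appTop.hom : _ →* _).comp χ) := by
  apply points.injective
  rw [MulEquiv.apply_symm_apply]
  refine MonoidHom.ext fun m => ?_
  rw [points_comp, MulEquiv.apply_symm_apply]
  rfl

end Base

end Groth.Agent.Magnet
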