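import Groth.Agent.Magnet.AffineComap
import Mathlib.AlgebraicGeometry.Morphisms.FiniteType

/-!
# Finitely many pure magnets for a scheme affine of finite type over a quasi-compact base
-/

set_option autoImplicit false
set_option backward.isDefEq.respectTransparency false
set_option backward.isDefEq.respectTransparency.types false
set_option linter.style.haveILetI false

universe u

open CategoryTheory CategoryTheory.Limits MonoidalCategory CartesianMonoidalCategory AlgebraicGeometry Opposite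
open scoped MonObj

attribute [-instance] Red.grpObj_bc AlgebraicGeometry.instGrpObjSpecAsOverSpec
  AlgebraicGeometry.instCommGrpObjSpecAsOverSpec

noncomputable section

namespace Groth.Agent.Magnet

theorem supp_mapDomain_subtype {A : Type u} [CommRing A] {M : Type} [AddCommMonoid M] (N : AddSubmonoid M)
    (w : MonoidAlgebra A (Multiplicative M)) :
    w ∈ (MonoidAlgebra.mapDomainRingHom A (AddMonoidHom.toMultiplicative N.subtype)).range ↔
      ∀ m ∈ w.coeff.support, Multiplicative.toAdd m ∈ N := by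
  constructor
  · rintro ⟨v, rfl⟩ m hm
    by_contra h
    exact Finsupp.mem_support_iff.1 hm (Finsupp.mapDomain_notin_range _ _ fun ⟨n, hn⟩ => h (hn ▸ n.2))
  · intro h
    rw [← MonoidAlgebra.sum_single w]
    exact Subring.sum_mem _ fun m hm =>
      ⟨MonoidAlgebra.single (Multiplicative.ofAdd ⟨_, h m hm⟩) _, MonoidAlgebra.mapDomain_single⟩

variable {S : Scheme.{u}} {M : Type} [AddCommMonoid M] {X : Over S} [IsAffineHom X.hom]
  [LocallyOfFiniteType X.hom] (a : _root_.Magnet.MonAct (_root_.Magnet.AMonS S M) X)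

theorem exists_local_degrees {V : S.Opens} (hV : IsAffineOpen V) :
    ∃ E : Set M, E.Finite ∧ ∀ (N L : AddSubmonoid M), (N : Set M) ∩ E ⊆ L →
      ∀ (C : CommRingCat.{u}) (sC : Spec C ⟶ S), Set.range sC ⊆ (V : Set S) → ∀ x : Over.mk sC ⟶ X,
        Extends (_root_.Magnet.AMonS.map S N.subtype) a x →
        Extends (_root_.Magnet.AMonS.map S L.subtype) a x := by
  classical
  have hW : IsAffineOpen (X.hom ⁻¹ᵁ V) := hV.preimage X.hom
  let R := Γ(X.left, X.hom ⁻¹ᵁ V)
  let σ := X.hom.appLE V (X.hom ⁻¹ᵁ V) le_rfl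
  have hft : σ.hom.FiniteType := LocallyOfFiniteType.finiteType_appLE X.hom hV hW le_rfl
  letI := σ.hom.toAlgebra
  obtain ⟨s, hs⟩ := (show Algebra.FiniteType Γ(S, V) R from hft).out
  let sR : Spec R ⟶ S := hW.fromSpec ≫ X.hom
  let x₀ : Over.mk sR ⟶ X := Over.homMk hW.fromSpec rfl
  have hσ : hW.fromSpec ≫ X.hom = Spec.map σ ≫ hV.fromSpec :=
    (IsAffineOpen.SpecMap_appLE_fromSpec X.hom hV hW le_rfl).symm
  have hsR : Set.range sR ⊆ (V : Set S) := by
    rintro _ ⟨q, rfl⟩
    exact (show hW.fromSpec q ∈ (X.hom ⁻¹ᵁ V : Set X.left) from hW.range_fromSpec ▸ Set.mem_range_self q)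
  obtain ⟨ω₀, hω₀⟩ := exists_orbitRing sR a hV hsR x₀
  let E : Set M := ⋃ c ∈ (s : Set R), Multiplicative.toAdd '' ((ω₀.hom c).coeff.support : Set (Multiplicative M))
  refine ⟨E, s.finite_toSet.biUnion fun c _ => (Finset.finite_toSet _).image _, ?_⟩
  intro N L hNL C sC hsC x hx
  have hxW : Set.range x.left ⊆ Set.range hW.fromSpec := by
    rw [IsAffineOpen.range_fromSpec]
    rintro _ ⟨q, rfl⟩
    change X.hom (x.left q) ∈ V
    rw [← Scheme.Hom.comp_apply, Over.w x]
    exact hsC ⟨q, rfl⟩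
  obtain ⟨ψ, hψ⟩ : ∃ ψ : R ⟶ C, Spec.map ψ ≫ hW.fromSpec = x.left :=
    ⟨Spec.preimage (IsOpenImmersion.lift _ _ hxW), by rw [Spec.map_preimage, IsOpenImmersion.lift_fac]⟩
  have hw : Spec.map ψ ≫ sR = sC := by
    simp only [sR]
    rw [← Category.assoc, hψ]
    exact Over.w x
  let ω : R ⟶ CommRingCat.of (MonoidAlgebra C (Multiplicative M)) := ω₀ ≫ coeffRing ψ.hom M
  have hω : Spec.map ω ≫ (hV.preimage X.hom).fromSpec =
      (chartHom sC M ≫ (_root_.Magnet.AMonS S M ◁ x) ≫ a.act).left := by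
    have hx' : x = (Over.homMk (Spec.map ψ) hw : Over.mk sC ⟶ Over.mk sR) ≫ x₀ :=
      Over.OverMorphism.ext hψ.symm
    have h2 := (chartBase_comp_chartHom ψ.hom sR sC hw M) =≫
      ((_root_.Magnet.AMonS S M ◁ x₀) ≫ a.act)
    rw [Category.assoc, Category.assoc, ← whiskerLeft_comp_assoc] at h2
    have hb : chartHom sC M ≫ (_root_.Magnet.AMonS S M ◁ x) ≫ a.act =
        chartBase ψ.hom sR sC hw M ≫ chartHom sR M ≫ (_root_.Magnet.AMonS S M ◁ x₀) ≫ a.act := by
      rw [hx']
      exact h2.symm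
    rw [hb, Spec.map_comp, Category.assoc, hω₀]
    rfl
  have hN := (extends_iff sC a N hV hsC x ω hω).1 hx
  refine (extends_iff sC a L hV hsC x ω hω).2 fun c m hm => ?_
  by_contra hne
  refine hm ?_
  -- the elements supported on `L` form a subalgebra containing the generators
  let P := (MonoidAlgebra.mapDomainRingHom C (AddMonoidHom.toMultiplicative L.subtype)).range.comap ω.hom
  suffices h : c ∈ P from (supp_mapDomain_subtype L _).1 h m (Finsupp.mem_support_iff.2 hne)
  have hbase : ∀ r, σ r ∈ P := by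
    intro r
    refine (supp_mapDomain_subtype L _).2 fun m hm => ?_
    have h1 : σ ≫ ω = (σ ≫ ψ) ≫ chartAlg C M := by
      refine Spec.map_injective ?_
      rw [← cancel_mono hV.fromSpec, Spec.map_comp, Category.assoc, ← hσ, ← Category.assoc, hω,
        Spec.map_comp, Spec.map_comp, Category.assoc, Category.assoc, ← hσ]
      refine (Over.w (chartHom sC M ≫ (_root_.Magnet.AMonS S M ◁ x) ≫ a.act)).trans ?_
      change Spec.map (chartAlg C M) ≫ sC = _
      rw [← hw]
    rw [show ω.hom (σ r) = algebraMap C _ (ψ (σ r)) from ConcreteCategory.congr_hom h1 r,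
      MonoidAlgebra.coe_algebraMap] at hm
    have : m = 1 := by simpa using Finsupp.support_single_subset hm
    rw [this]
    exact L.zero_mem
  have hgen : ∀ g ∈ s, g ∈ P := by
    intro g hg
    refine (supp_mapDomain_subtype L _).2 fun m hm => hNL ⟨?_, ?_⟩
    · by_contra hmN
      exact Finsupp.mem_support_iff.1 hm (hN g m hmN)
    · refine Set.mem_biUnion hg ⟨m, ?_, rfl⟩
      rw [Finset.mem_coe, Finsupp.mem_support_iff]
      intro h0
      refine Finsupp.mem_support_iff.1 hm ?_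
      change (MonoidAlgebra.mapRingHom (Multiplicative M) ψ.hom (ω₀.hom g)).coeff m = 0
      rw [MonoidAlgebra.coeff_mapRingHom, h0, map_zero]
  let P' : Subalgebra Γ(S, V) R := { P.toSubsemiring with algebraMap_mem' := hbase }
  have : c ∈ P' := (Algebra.adjoin_le (S := P') hgen) (hs.symm ▸ Algebra.mem_top)
  exact this

theorem finite_setOf_pure [CompactSpace S] :
    Set.Finite {N : AddSubmonoid M | ∀ L : AddSubmonoid M,
      (∀ T : Over S, Set.range (fun φ => (_root_.Magnet.attrToX a N).app (op T) φ) =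
        Set.range (fun φ => (_root_.Magnet.attrToX a L).app (op T) φ)) → N ≤ L} := by
  classical
  have hV : ∀ p : S, ∃ V : S.affineOpens, p ∈ V.1 := fun p => by
    obtain ⟨_, ⟨V, hV, rfl⟩, hpV, -⟩ := S.isBasis_affineOpens.exists_subset_of_mem_open
      (Set.mem_univ p) isOpen_univ
    exact ⟨⟨V, hV⟩, hpV⟩
  choose V hV using hV
  obtain ⟨t, ht⟩ := isCompact_univ.elim_finite_subcover (fun p : S => ((V p).1 : Set S))
    (fun p => (V p).1.2) fun p _ => Set.mem_iUnion.2 ⟨p, hV p⟩
  choose E hEfin hE using fun p => exists_local_degrees a (V p).2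
  let E' := ⋃ p ∈ t, E p
  have hEf : E'.Finite := t.finite_toSet.biUnion fun p _ => hEfin p
  have key : ∀ N L : AddSubmonoid M, (N : Set M) ∩ E' ⊆ L → ∀ T : Over S,
      Set.range (fun φ => (_root_.Magnet.attrToX a N).app (op T) φ) ⊆
        Set.range (fun φ => (_root_.Magnet.attrToX a L).app (op T) φ) := by
    intro N L h T
    rintro _ ⟨φ, rfl⟩
    let x : T ⟶ X := lift (toUnit T ≫ η[_]) (𝟙 T) ≫ φ.1
    have hext : ∀ (T' : Over S) (u v : _root_.Magnet.AMonS S L ⊗ T' ⟶ X),
        (_root_.Magnet.AMonS.map S L.subtype ▷ T') ≫ u = (_root_.Magnet.AMonS.map S L.subtype ▷ T') ≫ v → u = v :=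
      fun T' u v e => eq_of_map_whiskerRight_eq _ Subtype.val_injective u v e
    have hN : Extends (_root_.Magnet.AMonS.map S N.subtype) a x := ⟨φ.1, orbit_of_mem φ⟩
    let I := {U : T.left.affineOpens // ∃ p ∈ t, (U.1 : Set T.left) ⊆ T.hom ⁻¹' (V p).1}
    let 𝒱 : Scheme.OpenCover.{u, u} T.left :=
      { I₀ := I
        X := fun U => Spec Γ(T.left, U.1.1)
        f := fun U => U.1.2.fromSpec
        mem₀ := by
          rw [Scheme.presieve₀_mem_precoverage_iff]
          refine ⟨fun q => ?_, fun U => inferInstance⟩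
          obtain ⟨p, hp, hqp⟩ := Set.mem_iUnion₂.1 (ht (Set.mem_univ (T.hom q)))
          obtain ⟨_, ⟨U, hU, rfl⟩, hqU, hUV⟩ := T.left.isBasis_affineOpens.exists_subset_of_mem_open
            (show q ∈ (T.hom ⁻¹ᵁ (V p).1 : Set T.left) from hqp) (T.hom ⁻¹ᵁ (V p).1).2
          exact ⟨⟨⟨U, hU⟩, p, hp, hUV⟩, (hU.range_fromSpec ▸ hqU : q ∈ Set.range hU.fromSpec)⟩ }
    obtain ⟨ψ, hψ⟩ : Extends (_root_.Magnet.AMonS.map S L.subtype) a x := by
      refine Extends.of_cover hext 𝒱 fun U => ?_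
      obtain ⟨p, hp, hU⟩ := U.2
      refine hE p N L (fun m hm => h ⟨hm.1, Set.mem_biUnion hp hm.2⟩) _ (U.1.2.fromSpec ≫ T.hom) ?_ _
        (hN.comp _)
      rintro _ ⟨q, rfl⟩
      exact hU (show U.1.2.fromSpec q ∈ (U.1.1 : Set T.left) from
        U.1.2.range_fromSpec ▸ Set.mem_range_self q)
    exact ⟨⟨ψ, isEquivariant_of_orbit hext x ψ hψ⟩, eval_eq_of_orbit x ψ hψ⟩
  refine (hEf.finite_subsets.image AddSubmonoid.closure).subset fun N hN => ?_
  refine ⟨(N : Set M) ∩ E', Set.inter_subset_right, le_antisymm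
    (AddSubmonoid.closure_le.2 Set.inter_subset_left) (hN _ fun T => ?_)⟩
  exact (key N _ AddSubmonoid.subset_closure T).antisymm
    (key _ N (Set.inter_subset_left.trans (AddSubmonoid.closure_le.2 Set.inter_subset_left)) T)

end Groth.Agent.Magnet
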