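import Groth.Prelude.Def_Magnet
import Mathlib.CategoryTheory.Sites.Canonical
import Mathlib.CategoryTheory.Sites.SheafOfTypes
import Mathlib.CategoryTheory.Sites.SubcanonicalOver
import Mathlib.AlgebraicGeometry.Sites.Fpqc
import Mathlib.AlgebraicGeometry.Sites.BigZariski

/-!
# Fixed points and equivariant maps form sheaves
-/

set_option autoImplicit false

universe v u

open CategoryTheory MonoidalCategory CartesianMonoidalCategory Opposite
open scoped MonObj

namespace Groth.Agent.Magnet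

variable {C : Type u} [Category.{v} C] [CartesianMonoidalCategory C] (J : GrothendieckTopology C)
  [J.Subcanonical] {A B X : C} [MonObj A]

theorem isSheaf_yonedaObj (X : C) : Presieve.IsSheaf J (yoneda.obj X) :=
  GrothendieckTopology.Subcanonical.isSheaf_of_isRepresentable _

/-- Fixed points form a sheaf. -/
theorem isSheaf_fixedPsh (a : _root_.Magnet.MonAct A X) :
    Presheaf.IsSheaf J (_root_.Magnet.MonAct.fixedPsh a) := by
  rw [isSheaf_iff_isSheaf_of_type]
  intro T R hR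
  intro x hx
  let x' : Presieve.FamilyOfElements (yoneda.obj X) R.arrows := fun Z h hh => (x h hh).1
  have hx' : x'.Compatible := fun Z₁ Z₂ W g₁ g₂ f₁ f₂ h₁ h₂ e =>
    congrArg Subtype.val (hx g₁ g₂ h₁ h₂ e)
  obtain ⟨z, hz, hu⟩ := isSheaf_yonedaObj J X R hR x' hx'
  refine ⟨⟨z, ?_⟩, fun Z h hh => Subtype.ext (hz h hh), fun w hw =>
    Subtype.ext (hu w.1 fun Z h hh => congrArg Subtype.val (hw h hh))⟩
  intro S' t g
  refine (isSheaf_yonedaObj J X _ (J.pullback_stable t hR)).isSeparatedFor.ext fun Z h hh => ?_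
  change h ≫ lift g (t ≫ z) ≫ a.act = h ≫ t ≫ z
  have hz' : h ≫ t ≫ z = (x (h ≫ t) hh).1 := by
    rw [← Category.assoc]; exact hz (h ≫ t) hh
  rw [comp_lift_assoc, hz']
  have := (x (h ≫ t) hh).2 Z (𝟙 Z) (h ≫ g)
  rwa [Category.id_comp] at this

/-- Equivariant maps form a sheaf in the parameter. -/
theorem isSheaf_eqvHom (ρ : _root_.Magnet.MonAct A B) (a : _root_.Magnet.MonAct A X) :
    Presheaf.IsSheaf J (_root_.Magnet.MonAct.eqvHom ρ a) := by
  rw [isSheaf_iff_isSheaf_of_type]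
  intro T R hR
  intro x hx
  let x' : Presieve.FamilyOfElements (yoneda.obj X) (R.pullback (snd B T)).arrows :=
    fun Z h hh => lift (h ≫ fst B T) (𝟙 Z) ≫ (x (h ≫ snd B T) hh).1
  have hval : ∀ {Z₁ Z₂ : C} (k : Z₁ ⟶ Z₂) (f : Z₂ ⟶ T) (hf : R f) (hf' : R (k ≫ f)),
      (x (k ≫ f) hf').1 = (B ◁ k) ≫ (x f hf).1 := fun k f hf hf' =>
    congrArg Subtype.val ((Presieve.compatible_iff_sieveCompatible x).1 hx f k hf)
  have hcongr : ∀ {Z : C} {f f' : Z ⟶ T} (hf : R f) (hf' : R f'), f = f' →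
      (x f hf).1 = (x f' hf').1 := by
    intro Z f f' hf hf' e; subst e; rfl
  have hx' : x'.Compatible := by
    rw [Presieve.compatible_iff_sieveCompatible]
    intro Z₂ Z₁ h k hh
    change lift ((k ≫ h) ≫ fst B T) (𝟙 Z₁) ≫ (x ((k ≫ h) ≫ snd B T) _).1 =
      k ≫ lift (h ≫ fst B T) (𝟙 Z₂) ≫ (x (h ≫ snd B T) hh).1
    have e : (x ((k ≫ h) ≫ snd B T) ((R.pullback (snd B T)).downward_closed hh k)).1 =
        (B ◁ k) ≫ (x (h ≫ snd B T) hh).1 := by
      have := hval k (h ≫ snd B T) hh (R.downward_closed hh k)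
      exact (hcongr _ (R.downward_closed hh k) (Category.assoc _ _ _)).trans this
    rw [e, lift_whiskerLeft_assoc, comp_lift_assoc, Category.assoc, Category.comp_id, Category.id_comp]
  obtain ⟨z, hz, hu⟩ := isSheaf_yonedaObj J X _ (J.pullback_stable (snd B T) hR) x' hx'
  have hres : ∀ {Z : C} (f : Z ⟶ T) (hf : R f), (B ◁ f) ≫ z = (x f hf).1 := by
    intro Z f hf
    have hh : (R.pullback (snd B T)).arrows (B ◁ f) := by
      change R ((B ◁ f) ≫ snd B T)
      rw [whiskerLeft_snd]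
      exact R.downward_closed hf _
    refine (hz (B ◁ f) hh).trans ?_
    change lift ((B ◁ f) ≫ fst B T) (𝟙 _) ≫ (x ((B ◁ f) ≫ snd B T) hh).1 = _
    have e : (x ((B ◁ f) ≫ snd B T) hh).1 = (B ◁ snd B Z) ≫ (x f hf).1 := by
      have := hval (snd B Z) f hf (R.downward_closed hf _)
      exact (hcongr _ (R.downward_closed hf _) (whiskerLeft_snd _ _)).trans this
    rw [e, lift_whiskerLeft_assoc, whiskerLeft_fst, Category.id_comp, lift_fst_snd, Category.id_comp]
  refine ⟨⟨z, ?_⟩, fun Z f hf => Subtype.ext (hres f hf), fun w hw =>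
    Subtype.ext (hu w.1 fun Z h hh => ?_)⟩
  · rw [_root_.Magnet.MonAct.mem_eqvHom_iff]
    intro T' g b t
    refine (isSheaf_yonedaObj J X _ (J.pullback_stable t hR)).isSeparatedFor.ext fun Z h hh => ?_
    change h ≫ lift (lift g b ≫ ρ.act) t ≫ z = h ≫ lift g (lift b t ≫ z) ≫ a.act
    have e1 : ∀ b' : Z ⟶ B, lift b' (h ≫ t) ≫ z = lift b' (𝟙 Z) ≫ (x (h ≫ t) hh).1 := by
      intro b'
      rw [← hres (h ≫ t) hh, lift_whiskerLeft_assoc, Category.id_comp]
    simp only [comp_lift_assoc, comp_lift, e1]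
    exact (_root_.Magnet.MonAct.mem_eqvHom_iff _).1 (x (h ≫ t) hh).2 Z (h ≫ g) (h ≫ b) (𝟙 Z)
  · change h ≫ w.1 = lift (h ≫ fst B T) (𝟙 Z) ≫ (x (h ≫ snd B T) hh).1
    rw [← congrArg Subtype.val (hw (h ≫ snd B T) hh), _root_.Magnet.MonAct.eqvHom_map_coe,
      Quiver.Hom.unop_op, lift_whiskerLeft_assoc, Category.id_comp, ← comp_lift,
      lift_fst_snd, Category.comp_id]

end Groth.Agent.Magnet
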