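import Groth.Agent.Magnet.Extend
import Groth.Agent.Magnet.Points
import Mathlib.AlgebraicGeometry.Sites.Fpqc
import Mathlib.RingTheory.Flat.FaithfullyFlat.Algebra
import Mathlib.GroupTheory.QuotientGroup.Basic

/-!
# Attractors for subgroups are fixed points
-/

set_option autoImplicit false
set_option backward.isDefEq.respectTransparency false
set_option backward.isDefEq.respectTransparency.types false
set_option linter.style.haveILetI false

universe u

open CategoryTheory CategoryTheory.Limits MonoidalCategory CartesianMonoidalCategory AlgebraicGeometry Opposite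
open scoped MonObj

attribute [-instance] Red.grpObj_bc AlgebraicGeometry.instGrpObjSpecAsOverSpec
  AlgebraicGeometry.instCommGrpObjSpecAsOverSpec

noncomputable section

namespace Groth.Agent.Magnet

/-- The monoid algebra of a group is free over that of a subgroup. -/
theorem free_mapDomain_subgroup (R : Type u) [CommRing R] {M : Type} [AddCommGroup M] (Z : AddSubgroup M) :
    @Module.Free (MonoidAlgebra R (Multiplicative Z)) (MonoidAlgebra R (Multiplicative M)) _ _
      (MonoidAlgebra.mapDomainRingHom R (AddMonoidHom.toMultiplicative Z.subtype)).toAlgebra.toModule := by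
  letI := (MonoidAlgebra.mapDomainRingHom R (AddMonoidHom.toMultiplicative Z.subtype)).toAlgebra
  have halg : ∀ (z : Z) (r : R), algebraMap (MonoidAlgebra R (Multiplicative Z))
      (MonoidAlgebra R (Multiplicative M)) (MonoidAlgebra.single (Multiplicative.ofAdd z) r) =
      MonoidAlgebra.single (Multiplicative.ofAdd (z : M)) r := fun z r => MonoidAlgebra.mapDomain_single
  let b : M ⧸ Z → MonoidAlgebra R (Multiplicative M) :=
    fun q => MonoidAlgebra.single (Multiplicative.ofAdd q.out) 1
  let L := Finsupp.linearCombination (MonoidAlgebra R (Multiplicative Z)) b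
  have hout : ∀ m : M, m - (QuotientAddGroup.mk m : M ⧸ Z).out ∈ Z := fun m => by
    have h := QuotientAddGroup.eq.1 (QuotientAddGroup.out_eq' (QuotientAddGroup.mk m : M ⧸ Z))
    rwa [neg_add_eq_sub] at h
  let G : MonoidAlgebra R (Multiplicative M) →+ (M ⧸ Z) →₀ MonoidAlgebra R (Multiplicative Z) :=
    (Finsupp.liftAddHom fun m : Multiplicative M =>
      (Finsupp.singleAddHom (QuotientAddGroup.mk (Multiplicative.toAdd m) : M ⧸ Z)).comp
        (MonoidAlgebra.singleAddHom (Multiplicative.ofAdd
          (⟨_, hout (Multiplicative.toAdd m)⟩ : Z)))).comp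
      (MonoidAlgebra.coeffAddEquiv).toAddMonoidHom
  have hG : ∀ m r, G (MonoidAlgebra.single m r) =
      Finsupp.single (QuotientAddGroup.mk (Multiplicative.toAdd m) : M ⧸ Z)
        (MonoidAlgebra.single (Multiplicative.ofAdd (⟨_, hout (Multiplicative.toAdd m)⟩ : Z)) r) := by
    intro m r
    simp [G]
  have hL : ∀ q (z : Z) (r : R),
      L (Finsupp.single q (MonoidAlgebra.single (Multiplicative.ofAdd z) r)) =
        MonoidAlgebra.single (Multiplicative.ofAdd ((z : M) + q.out)) r := by
    intro q z r
    simp [L, b, Algebra.smul_def, halg, MonoidAlgebra.single_mul_single, ← ofAdd_add]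
  have h1 : ∀ x, L (G x) = x := by
    intro x
    induction x using MonoidAlgebra.induction_linear with
    | zero => simp
    | add x y hx hy => rw [map_add, map_add, hx, hy]
    | single m r =>
      rw [hG, hL]
      simp
  have h2 : ∀ c, G (L c) = c := by
    intro c
    induction c using Finsupp.induction_linear with
    | zero => simp
    | add x y hx hy => rw [map_add, map_add, hx, hy]
    | single q w =>
      induction w using MonoidAlgebra.induction_linear with
      | zero => simp
      | add x y hx hy => rw [Finsupp.single_add, map_add, map_add, hx, hy]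
      | single z r =>
        obtain ⟨z, rfl⟩ : ∃ z', Multiplicative.ofAdd z' = z := ⟨Multiplicative.toAdd z, rfl⟩
        rw [hL, hG]
        simp only [toAdd_ofAdd]
        have hq : (QuotientAddGroup.mk ((z : M) + q.out) : M ⧸ Z) = q := by
          rw [QuotientAddGroup.mk_add, (QuotientAddGroup.eq_zero_iff _).2 z.2, zero_add,
            QuotientAddGroup.out_eq']
        have key : ∀ (q' : M ⧸ Z) (h : (z : M) + q.out - q'.out ∈ Z), q' = q →
            Finsupp.single q' (MonoidAlgebra.single (Multiplicative.ofAdd (⟨_, h⟩ : Z)) r) =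
              Finsupp.single q (MonoidAlgebra.single (Multiplicative.ofAdd z) r) := by
          rintro q' h rfl
          congr 3
          exact Subtype.ext (add_sub_cancel_right _ _)
        exact key _ _ hq
  exact Module.Free.of_equiv (LinearEquiv.ofBijective L
    ⟨Function.LeftInverse.injective h2, Function.RightInverse.surjective h1⟩)

variable {S : Scheme.{u}} {M : Type} [AddCommGroup M] (Z : AddSubgroup M)

theorem AMonS_map_subtype_props :
    Flat (_root_.Magnet.AMonS.map S Z.toAddSubmonoid.subtype).left ∧
      Surjective (_root_.Magnet.AMonS.map S Z.toAddSubmonoid.subtype).left ∧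
      QuasiCompact (_root_.Magnet.AMonS.map S Z.toAddSubmonoid.subtype).left := by
  let R := ULift.{u} ℤ
  let f := MonoidAlgebra.mapDomainRingHom R (AddMonoidHom.toMultiplicative Z.toAddSubmonoid.subtype)
  have hfree := free_mapDomain_subgroup R Z
  letI := f.toAlgebra
  haveI : Module.Free (MonoidAlgebra R (Multiplicative Z.toAddSubmonoid))
      (MonoidAlgebra R (Multiplicative M)) := hfree
  have h1 : Flat (Spec.map (CommRingCat.ofHom f)) := by
    rw [HasRingHomProperty.Spec_iff (P := @Flat)]
    exact RingHom.flat_algebraMap_iff.2 inferInstance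
  have h2 : Surjective (Spec.map (CommRingCat.ofHom f)) :=
    ⟨PrimeSpectrum.comap_surjective_of_faithfullyFlat (A := MonoidAlgebra R (Multiplicative Z.toAddSubmonoid))
      (B := MonoidAlgebra R (Multiplicative M))⟩
  exact ⟨MorphismProperty.baseChange_map _ _ h1, MorphismProperty.baseChange_map _ _ h2,
    MorphismProperty.baseChange_map _ _ (inferInstanceAs (QuasiCompact (Spec.map (CommRingCat.ofHom f))))⟩

variable {X : Over S} (a : _root_.Magnet.MonAct (_root_.Magnet.AMonS S M) X)

theorem effectiveEpi_map_subtype_whiskerRight (T : Over S) :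
    EffectiveEpi (_root_.Magnet.AMonS.map S Z.toAddSubmonoid.subtype ▷ T).left := by
  let p := _root_.Magnet.AMonS.map S Z.toAddSubmonoid.subtype
  have hpb : IsPullback (fst (_root_.Magnet.AMonS S M) T).left (p ▷ T).left p.left
      (fst (_root_.Magnet.AMonS S Z.toAddSubmonoid) T).left := by
    have : IsPullback (fst (_root_.Magnet.AMonS S M) T) (p ▷ T) p
        (fst (_root_.Magnet.AMonS S Z.toAddSubmonoid) T) :=
      IsPullback.of_isLimit' ⟨(whiskerRight_fst _ _).symm⟩ (PullbackCone.IsLimit.mk _
        (fun s => lift s.fst (s.snd ≫ snd _ T)) (fun s => lift_fst _ _)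
        (fun s => by
          apply CartesianMonoidalCategory.hom_ext
          · rw [Category.assoc, whiskerRight_fst, lift_fst_assoc, s.condition]
          · rw [Category.assoc, whiskerRight_snd, lift_snd])
        (fun s m h₁ h₂ => by
          apply CartesianMonoidalCategory.hom_ext
          · rw [lift_fst, h₁]
          · rw [lift_snd, ← h₂, Category.assoc, whiskerRight_snd]))
    exact this.map (Over.forget _)
  obtain ⟨h1, h2, h3⟩ := AMonS_map_subtype_props (S := S) Z
  have : Flat (p ▷ T).left := MorphismProperty.of_isPullback hpb h1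
  have : Surjective (p ▷ T).left := MorphismProperty.of_isPullback hpb h2
  have : QuasiCompact (p ▷ T).left := MorphismProperty.of_isPullback hpb h3
  infer_instance

theorem hext_subgroup (T : Over S) (u v : _root_.Magnet.AMonS S Z.toAddSubmonoid ⊗ T ⟶ X)
    (h : (_root_.Magnet.AMonS.map S Z.toAddSubmonoid.subtype ▷ T) ≫ u =
      (_root_.Magnet.AMonS.map S Z.toAddSubmonoid.subtype ▷ T) ≫ v) : u = v := by
  have := effectiveEpi_map_subtype_whiskerRight Z T
  apply Over.OverMorphism.ext
  exact (cancel_epi (_root_.Magnet.AMonS.map S Z.toAddSubmonoid.subtype ▷ T).left).1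
    (congrArg CommaMorphism.left h)

theorem restrict_mk_subtype {T : Over S} (h : T ⟶ _root_.Magnet.AMonS S (M ⧸ Z)) :
    h ≫ _root_.Magnet.AMonS.map S (QuotientAddGroup.mk' Z) ≫
      _root_.Magnet.AMonS.map S Z.toAddSubmonoid.subtype = 1 := by
  refine points_ext fun z => ?_
  rw [← Category.assoc, points_map, points_map, map_one]
  obtain ⟨⟨z, hz⟩, rfl⟩ : ∃ w : Z.toAddSubmonoid, Multiplicative.ofAdd w = z :=
    ⟨Multiplicative.toAdd z, rfl⟩
  change points h (Multiplicative.ofAdd (QuotientAddGroup.mk' Z z)) = 1
  rw [show QuotientAddGroup.mk' Z z = 0 from (QuotientAddGroup.eq_zero_iff _).2 hz]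
  exact map_one (points h)

theorem exists_quotient_point {T : Over S} (g g' : T ⟶ _root_.Magnet.AMonS S M)
    (h : g ≫ _root_.Magnet.AMonS.map S Z.toAddSubmonoid.subtype =
      g' ≫ _root_.Magnet.AMonS.map S Z.toAddSubmonoid.subtype) :
    ∃ k : T ⟶ _root_.Magnet.AMonS S (M ⧸ Z),
      g' = g * (k ≫ _root_.Magnet.AMonS.map S (QuotientAddGroup.mk' Z)) := by
  let δ : M →+ Additive Γ(T.left, ⊤) :=
    { toFun := fun m => Additive.ofMul (points g' (Multiplicative.ofAdd m) *
        points g (Multiplicative.ofAdd (-m)))
      map_zero' := by simp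
      map_add' := fun m m' => by
        change Additive.ofMul _ = Additive.ofMul (_ * _)
        congr 1
        rw [ofAdd_add, neg_add, ofAdd_add, map_mul, map_mul, mul_mul_mul_comm]
        rfl }
  have hδ : Z ≤ δ.ker := by
    intro z hz
    have e := DFunLike.congr_fun (congrArg points h) (Multiplicative.ofAdd (⟨z, hz⟩ : Z.toAddSubmonoid))
    rw [points_map, points_map] at e
    change points g (Multiplicative.ofAdd z) = points g' (Multiplicative.ofAdd z) at e
    rw [AddMonoidHom.mem_ker]
    change Additive.ofMul (points g' (Multiplicative.ofAdd z) * points g (Multiplicative.ofAdd (-z))) =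
      Additive.ofMul 1
    rw [← e, ← map_mul, ← ofAdd_add, add_neg_cancel, ofAdd_zero, map_one]
  refine ⟨points.symm (AddMonoidHom.toMultiplicativeLeft (QuotientAddGroup.lift Z δ hδ)),
    points_ext fun m => ?_⟩
  rw [map_mul, MonoidHom.mul_apply, points_map, MonoidHom.comp_apply, MulEquiv.apply_symm_apply]
  change points g' m = points g m * (points g' m * points g (Multiplicative.ofAdd (-Multiplicative.toAdd m)))
  rw [mul_left_comm, ← map_mul]
  conv_rhs => rw [show m * Multiplicative.ofAdd (-Multiplicative.toAdd m) = 1 from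
    add_neg_cancel (Multiplicative.toAdd m), map_one, mul_one]

theorem exists_attr_iso_fixedPsh :
    ∃ e : _root_.Magnet.attr a Z.toAddSubmonoid ≅
        _root_.Magnet.MonAct.fixedPsh (a.restrict (_root_.Magnet.AMonS.map S (QuotientAddGroup.mk' Z))),
      e.hom ≫ _root_.Magnet.MonAct.fixedPshι _ = _root_.Magnet.attrToX a Z.toAddSubmonoid := by
  let inc := _root_.Magnet.AMonS.map S Z.toAddSubmonoid.subtype
  let q := _root_.Magnet.AMonS.map S (QuotientAddGroup.mk' Z)
  have hfix : ∀ (T : Over S) (φ : (_root_.Magnet.attr a Z.toAddSubmonoid).obj (op T)) (T' : Over S)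
      (t : T' ⟶ T) (k : T' ⟶ _root_.Magnet.AMonS S (M ⧸ Z)),
      lift k (t ≫ lift (toUnit T ≫ η[_]) (𝟙 T) ≫ φ.1) ≫ (a.restrict q).act =
        t ≫ lift (toUnit T ≫ η[_]) (𝟙 T) ≫ φ.1 := by
    intro T φ T' t k
    have e := congrArg (fun z => lift (k ≫ q) t ≫ z) (orbit_of_mem (inc := inc) φ)
    simp only [lift_whiskerRight_assoc, lift_whiskerLeft_assoc, Category.assoc] at e
    rw [_root_.Magnet.MonAct.lift_restrict_act, ← e, restrict_mk_subtype, comp_lift_assoc,
      ← Category.assoc t, Category.comp_id, Hom.one_def, toUnit_unique (t ≫ toUnit T) (toUnit T')]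
  let F : _root_.Magnet.attr a Z.toAddSubmonoid ⟶ _root_.Magnet.MonAct.fixedPsh (a.restrict q) :=
    { app := fun T => TypeCat.ofHom fun φ =>
        ⟨(_root_.Magnet.attrToX a Z.toAddSubmonoid).app T φ, hfix (unop T) φ⟩
      naturality := fun T T' t => ConcreteCategory.hom_ext _ _ fun φ => Subtype.ext
        (ConcreteCategory.congr_hom ((_root_.Magnet.attrToX a Z.toAddSubmonoid).naturality t) φ) }
  have hF : IsIso F := by
    refine (NatTrans.isIso_iff_isIso_app _).2 fun T => (isIso_iff_bijective _).2 ⟨?_, ?_⟩
    · intro φ ψ e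
      exact eqvHom_ext (inc := inc) (hext_subgroup Z) φ ψ (congrArg Subtype.val e)
    · intro x
      let P := _root_.Magnet.AMonS S M
      let π := inc ▷ unop T
      have := effectiveEpi_map_subtype_whiskerRight Z (unop T)
      let o : P ⊗ unop T ⟶ X := (P ◁ x.1) ≫ a.act
      have hw : ∀ {W : Scheme.{u}} (g₁ g₂ : W ⟶ (P ⊗ unop T).left),
          g₁ ≫ π.left = g₂ ≫ π.left → g₁ ≫ o.left = g₂ ≫ o.left := by
        intro W g₁ g₂ hg
        let T' : Over S := Over.mk (g₁ ≫ (P ⊗ unop T).hom)
        let G₁ : T' ⟶ P ⊗ unop T := Over.homMk g₁ rfl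
        let G₂ : T' ⟶ P ⊗ unop T := Over.homMk g₂ (by
          change g₂ ≫ (P ⊗ unop T).hom = g₁ ≫ (P ⊗ unop T).hom
          rw [← Over.w π, reassoc_of% hg])
        have hG : G₁ ≫ π = G₂ ≫ π := Over.OverMorphism.ext hg
        have h1 := hG =≫ fst _ _
        have h2 := hG =≫ snd _ _
        simp only [π, Category.assoc, whiskerRight_fst, whiskerRight_snd] at h1 h2
        rw [← Category.assoc, ← Category.assoc] at h1
        obtain ⟨k, hk⟩ := exists_quotient_point Z _ _ h1
        have key : G₁ ≫ o = G₂ ≫ o := by
          rw [← lift_comp_fst_snd G₁, ← lift_comp_fst_snd G₂]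
          simp only [o, lift_whiskerLeft_assoc]
          rw [hk, _root_.Magnet.MonAct.lift_mul_act]
          congr 2
          rw [← h2]
          have := x.2 T' (G₁ ≫ snd P (unop T)) k
          rw [_root_.Magnet.MonAct.lift_restrict_act] at this
          exact this.symm
        exact congrArg CommaMorphism.left key
      let d := EffectiveEpi.desc π.left o.left hw
      have hd : π.left ≫ d = o.left := EffectiveEpi.fac _ _ _
      let φ : _root_.Magnet.AMonS S Z.toAddSubmonoid ⊗ unop T ⟶ X := Over.homMk d (by
        rw [← cancel_epi π.left, reassoc_of% hd, Over.w o, Over.w π])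
      have hφ : π ≫ φ = o := Over.OverMorphism.ext hd
      refine ⟨⟨φ, isEquivariant_of_orbit (hext_subgroup Z) x.1 φ hφ⟩, Subtype.ext ?_⟩
      exact eval_eq_of_orbit (inc := inc) x.1 φ hφ
  exact ⟨asIso F, rfl⟩

end Groth.Agent.Magnet
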