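import Groth.Agent.Magnet.AffineAttr
import Groth.Agent.Magnet.GroupComap
import Groth.Agent.Magnet.FacePushout

/-!
# Pushouts along faces and first-order thickenings, with actions
-/

set_option autoImplicit false
set_option backward.isDefEq.respectTransparency false
set_option backward.isDefEq.respectTransparency.types false
set_option linter.style.haveILetI false
set_option maxHeartbeats 1000000

universe u

open CategoryTheory CategoryTheory.Limits MonoidalCategory CartesianMonoidalCategory AlgebraicGeometry Opposite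
open scoped MonObj

attribute [-instance] Red.grpObj_bc AlgebraicGeometry.instGrpObjSpecAsOverSpec
  AlgebraicGeometry.instCommGrpObjSpecAsOverSpec

noncomputable section

namespace Groth.Agent.Magnet

section Action

variable {C : Type*} [Category C] [CartesianMonoidalCategory C] {A W₀ W₁ W₂ P : C} [MonObj A]
  {f : W₀ ⟶ W₁} {g : W₀ ⟶ W₂} {ν₁ : W₁ ⟶ P} {ν₂ : W₂ ⟶ P}

/-- An action on a pushout which stays a pushout after multiplying by the acting monoid. -/
theorem exists_monAct_pushout (hP : IsPushout f g ν₁ ν₂)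
    (hA : IsPushout (A ◁ f) (A ◁ g) (A ◁ ν₁) (A ◁ ν₂))
    (hAA : IsPushout ((A ⊗ A) ◁ f) ((A ⊗ A) ◁ g) ((A ⊗ A) ◁ ν₁) ((A ⊗ A) ◁ ν₂))
    (a₀ : _root_.Magnet.MonAct A W₀) (a₁ : _root_.Magnet.MonAct A W₁) (a₂ : _root_.Magnet.MonAct A W₂)
    (hf : _root_.Magnet.MonAct.IsEquivariant a₀ a₁ f) (hg : _root_.Magnet.MonAct.IsEquivariant a₀ a₂ g) :
    ∃ aP : _root_.Magnet.MonAct A P, _root_.Magnet.MonAct.IsEquivariant a₁ aP ν₁ ∧
      _root_.Magnet.MonAct.IsEquivariant a₂ aP ν₂ ∧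
      ∀ (X : C) (aX : _root_.Magnet.MonAct A X) (f₁ : W₁ ⟶ X) (f₂ : W₂ ⟶ X) (w : f ≫ f₁ = g ≫ f₂),
        _root_.Magnet.MonAct.IsEquivariant a₁ aX f₁ → _root_.Magnet.MonAct.IsEquivariant a₂ aX f₂ →
        _root_.Magnet.MonAct.IsEquivariant aP aX (hP.desc f₁ f₂ w) := by
  have hf' : a₀.act ≫ f = (A ◁ f) ≫ a₁.act := hf
  have hg' : a₀.act ≫ g = (A ◁ g) ≫ a₂.act := hg
  have wα : (A ◁ f) ≫ a₁.act ≫ ν₁ = (A ◁ g) ≫ a₂.act ≫ ν₂ := by
    rw [← reassoc_of% hf', ← reassoc_of% hg', hP.w]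
  let α : A ⊗ P ⟶ P := hA.desc (a₁.act ≫ ν₁) (a₂.act ≫ ν₂) wα
  have h₁ : (A ◁ ν₁) ≫ α = a₁.act ≫ ν₁ := hA.inl_desc _ _ wα
  have h₂ : (A ◁ ν₂) ≫ α = a₂.act ≫ ν₂ := hA.inr_desc _ _ wα
  have hone : (η[A] ▷ P) ≫ α = (λ_ P).hom := by
    have key : ∀ {W : C} (aW : _root_.Magnet.MonAct A W) (ν : W ⟶ P), (A ◁ ν) ≫ α = aW.act ≫ ν →
        ν ≫ (λ_ P).inv ≫ (η[A] ▷ P) ≫ α = ν := by
      intro W aW ν h
      rw [leftUnitor_inv_naturality_assoc, whisker_exchange_assoc, h, reassoc_of% aW.one_act,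
        Iso.inv_hom_id_assoc]
    rw [← cancel_epi (λ_ P).inv, Iso.inv_hom_id]
    apply hP.hom_ext
    · rw [key a₁ ν₁ h₁, Category.comp_id]
    · rw [key a₂ ν₂ h₂, Category.comp_id]
  have hmul : (μ[A] ▷ P) ≫ α = (α_ A A P).hom ≫ (A ◁ α) ≫ α := by
    have key : ∀ {W : C} (aW : _root_.Magnet.MonAct A W) (ν : W ⟶ P), (A ◁ ν) ≫ α = aW.act ≫ ν →
        ((A ⊗ A) ◁ ν) ≫ (μ[A] ▷ P) ≫ α = ((A ⊗ A) ◁ ν) ≫ (α_ A A P).hom ≫ (A ◁ α) ≫ α := by
      intro W aW ν h
      rw [whisker_exchange_assoc, h, ← Category.assoc, aW.mul_act, associator_naturality_right_assoc,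
        ← whiskerLeft_comp_assoc, h, whiskerLeft_comp_assoc, h]
      simp only [Category.assoc]
    exact hAA.hom_ext (key a₁ ν₁ h₁) (key a₂ ν₂ h₂)
  refine ⟨⟨α, hone, hmul⟩, h₁.symm, h₂.symm, fun X aX f₁ f₂ w e₁ e₂ => ?_⟩
  have e₁' : a₁.act ≫ f₁ = (A ◁ f₁) ≫ aX.act := e₁
  have e₂' : a₂.act ≫ f₂ = (A ◁ f₂) ≫ aX.act := e₂
  change α ≫ hP.desc f₁ f₂ w = (A ◁ hP.desc f₁ f₂ w) ≫ aX.act
  apply hA.hom_ext
  · rw [reassoc_of% h₁, hP.inl_desc, e₁', ← whiskerLeft_comp_assoc, hP.inl_desc]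
  · rw [reassoc_of% h₂, hP.inr_desc, e₂', ← whiskerLeft_comp_assoc, hP.inr_desc]

end Action

/-- Fibre squares of rings stay fibre squares after adjoining a monoid. -/
theorem square_mapRing {A₀ A₁ A₂ R : Type u} [CommRing A₀] [CommRing A₁] [CommRing A₂] [CommRing R]
    {p : A₁ →+* A₀} {q : A₂ →+* A₀} {π₁ : R →+* A₁} {π₂ : R →+* A₂} (H : Ferrand.Square p q π₁ π₂)
    (K : Type) [AddCommMonoid K] :
    Ferrand.Square (MonoidAlgebra.mapRingHom (Multiplicative K) p) (MonoidAlgebra.mapRingHom (Multiplicative K) q)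
      (MonoidAlgebra.mapRingHom (Multiplicative K) π₁) (MonoidAlgebra.mapRingHom (Multiplicative K) π₂) := by
  classical
  refine ⟨chartBaseRing_surj p H.surj, ?_, ?_, ?_⟩
  · intro c
    refine MonoidAlgebra.ext (Finsupp.ext fun k => ?_)
    simp only [MonoidAlgebra.coeff_mapRingHom]
    exact H.comm _
  · intro c d h₁ h₂
    refine MonoidAlgebra.ext (Finsupp.ext fun k => H.inj ?_ ?_)
    · simpa [MonoidAlgebra.coeff_mapRingHom] using congrArg (fun y => y.coeff k) h₁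
    · simpa [MonoidAlgebra.coeff_mapRingHom] using congrArg (fun y => y.coeff k) h₂
  · intro a b h
    have hk : ∀ k, ∃ c, π₁ c = a.coeff k ∧ π₂ c = b.coeff k := fun k =>
      H.exists_lift _ _ (by simpa [MonoidAlgebra.coeff_mapRingHom] using congrArg (fun y => y.coeff k) h)
    choose c hc₁ hc₂ using hk
    let w : MonoidAlgebra R (Multiplicative K) :=
      ∑ k ∈ a.coeff.support ∪ b.coeff.support, MonoidAlgebra.single k (c k)
    have hw : ∀ k, w.coeff k = if k ∈ a.coeff.support ∪ b.coeff.support then c k else 0 := by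
      intro k
      simp [w, MonoidAlgebra.coeff_sum, Finsupp.single_apply]
    refine ⟨w, MonoidAlgebra.ext (Finsupp.ext fun k => ?_), MonoidAlgebra.ext (Finsupp.ext fun k => ?_)⟩
    · rw [MonoidAlgebra.coeff_mapRingHom, hw]
      split
      · exact hc₁ k
      · next h => rw [map_zero, Finsupp.notMem_support_iff.1 fun hk => h (Finset.mem_union_left _ hk)]
    · rw [MonoidAlgebra.coeff_mapRingHom, hw]
      split
      · exact hc₂ k
      · next h => rw [map_zero, Finsupp.notMem_support_iff.1 fun hk => h (Finset.mem_union_right _ hk)]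
where
  chartBaseRing_surj {A A' : Type u} [CommRing A] [CommRing A'] (φ : A →+* A')
      (hφ : Function.Surjective φ) :
      Function.Surjective (MonoidAlgebra.mapRingHom (Multiplicative K) φ) := by
    classical
    intro y
    induction y using MonoidAlgebra.induction_linear with
    | zero => exact ⟨0, map_zero _⟩
    | add a b ha hb => obtain ⟨a, rfl⟩ := ha; obtain ⟨b, rfl⟩ := hb; exact ⟨a + b, map_add _ _ _⟩
    | single n r => obtain ⟨r, rfl⟩ := hφ r; exact ⟨MonoidAlgebra.single n r, by simp⟩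

variable {S : Scheme.{u}}

theorem isPushout_over {W₀ W₁ W₂ P : Over S} {f : W₀ ⟶ W₁} {g : W₀ ⟶ W₂} {ν₁ : W₁ ⟶ P} {ν₂ : W₂ ⟶ P}
    (h : IsPushout f.left g.left ν₁.left ν₂.left) : IsPushout f g ν₁ ν₂ := by
  refine IsPushout.of_isColimit' ⟨Over.OverMorphism.ext h.w⟩ (PushoutCocone.IsColimit.mk _
    (fun s => Over.homMk (h.desc s.inl.left s.inr.left (congrArg CommaMorphism.left s.condition)) ?_)
    (fun s => Over.OverMorphism.ext (h.inl_desc _ _ _))
    (fun s => Over.OverMorphism.ext (h.inr_desc _ _ _))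
    fun s m h₁ h₂ => Over.OverMorphism.ext (h.hom_ext ?_ ?_))
  · apply h.hom_ext
    · rw [h.inl_desc_assoc, Over.w s.inl, Over.w ν₁]
    · rw [h.inr_desc_assoc, Over.w s.inr, Over.w ν₂]
  · change ν₁.left ≫ m.left = ν₁.left ≫ h.desc _ _ _
    rw [h.inl_desc]
    exact congrArg CommaMorphism.left h₁
  · change ν₂.left ≫ m.left = ν₂.left ≫ h.desc _ _ _
    rw [h.inr_desc]
    exact congrArg CommaMorphism.left h₂

section Spec

variable {A₀ A₁ A₂ R : Type u} [CommRing A₀] [CommRing A₁] [CommRing A₂] [CommRing R]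
  {p : A₁ →+* A₀} {q : A₂ →+* A₀} {π₁ : R →+* A₁} {π₂ : R →+* A₂} (H : Ferrand.Square p q π₁ π₂)
  (sR : Spec (CommRingCat.of R) ⟶ S)
  {s₀ : Spec (CommRingCat.of A₀) ⟶ S} {s₁ : Spec (CommRingCat.of A₁) ⟶ S} {s₂ : Spec (CommRingCat.of A₂) ⟶ S}
  (hp : Spec.map (CommRingCat.ofHom p) ≫ s₁ = s₀) (hq : Spec.map (CommRingCat.ofHom q) ≫ s₂ = s₀)
  (h₁ : Spec.map (CommRingCat.ofHom π₁) ≫ sR = s₁) (h₂ : Spec.map (CommRingCat.ofHom π₂) ≫ sR = s₂)

include H in
theorem isPushout_spec :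
    IsPushout (Over.homMk (Spec.map (CommRingCat.ofHom p)) hp : Over.mk s₀ ⟶ Over.mk s₁)
      (Over.homMk (Spec.map (CommRingCat.ofHom q)) hq : Over.mk s₀ ⟶ Over.mk s₂)
      (Over.homMk (Spec.map (CommRingCat.ofHom π₁)) h₁ : Over.mk s₁ ⟶ Over.mk sR)
      (Over.homMk (Spec.map (CommRingCat.ofHom π₂)) h₂ : Over.mk s₂ ⟶ Over.mk sR) :=
  isPushout_over H.isPushout_Spec

include H in
theorem isPushout_amon_whiskerLeft (K : Type) [AddCommMonoid K] :
    IsPushout (_root_.Magnet.AMonS S K ◁ (Over.homMk (Spec.map (CommRingCat.ofHom p)) hp : Over.mk s₀ ⟶ Over.mk s₁))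
      (_root_.Magnet.AMonS S K ◁ (Over.homMk (Spec.map (CommRingCat.ofHom q)) hq : Over.mk s₀ ⟶ Over.mk s₂))
      (_root_.Magnet.AMonS S K ◁ (Over.homMk (Spec.map (CommRingCat.ofHom π₁)) h₁ : Over.mk s₁ ⟶ Over.mk sR))
      (_root_.Magnet.AMonS S K ◁ (Over.homMk (Spec.map (CommRingCat.ofHom π₂)) h₂ : Over.mk s₂ ⟶ Over.mk sR)) := by
  have := isIso_chartHom s₀ K
  have := isIso_chartHom s₁ K
  have := isIso_chartHom s₂ K
  have := isIso_chartHom sR K
  exact IsPushout.of_iso (f := chartBase p s₁ s₀ hp K) (g := chartBase q s₂ s₀ hq K)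
    (inl := chartBase π₁ sR s₁ h₁ K) (inr := chartBase π₂ sR s₂ h₂ K)
    (isPushout_over (square_mapRing H K).isPushout_Spec)
    (asIso (chartHom s₀ K)) (asIso (chartHom s₁ K)) (asIso (chartHom s₂ K)) (asIso (chartHom sR K))
    (chartBase_comp_chartHom _ _ _ _ _) (chartBase_comp_chartHom _ _ _ _ _)
    (chartBase_comp_chartHom _ _ _ _ _) (chartBase_comp_chartHom _ _ _ _ _)

end Spec

/-- The scheme `A(N)` over an affine base as a spectrum. -/
def amonChartIso (S : Scheme.{u}) [IsAffine S] (N : Type) [AddCommMonoid N] :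
    chartObj S.isoSpec.inv N ⟶ _root_.Magnet.AMonS S N :=
  chartHom S.isoSpec.inv N ≫ fst _ _

theorem isIso_amonChartIso (S : Scheme.{u}) [IsAffine S] (N : Type) [AddCommMonoid N] :
    IsIso (amonChartIso S N) := by
  have := isIso_chartHom S.isoSpec.inv N
  have : IsIso (fst (_root_.Magnet.AMonS S N) (Over.mk S.isoSpec.inv)) := by
    let e : 𝟙_ (Over S) ⟶ Over.mk S.isoSpec.inv :=
      Over.homMk S.isoSpec.hom (S.isoSpec.hom_inv_id)
    refine ⟨lift (𝟙 _) (toUnit _ ≫ e), ?_, lift_fst _ _⟩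
    apply CartesianMonoidalCategory.hom_ext
    · rw [Category.assoc, lift_fst, Category.comp_id, Category.id_comp]
    · rw [Category.assoc, lift_snd, Category.id_comp]
      apply Over.OverMorphism.ext
      rw [← cancel_mono S.isoSpec.inv]
      change ((fst (_root_.Magnet.AMonS S N) (Over.mk S.isoSpec.inv) ≫ toUnit _).left ≫ S.isoSpec.hom) ≫
        S.isoSpec.inv = (snd (_root_.Magnet.AMonS S N) (Over.mk S.isoSpec.inv)).left ≫ (Over.mk S.isoSpec.inv).hom
      rw [Category.assoc, Iso.hom_inv_id, Category.comp_id, Over.w]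
      exact (Category.comp_id _).symm.trans
        (Over.w (fst (_root_.Magnet.AMonS S N) (Over.mk S.isoSpec.inv) ≫ toUnit _))
  unfold amonChartIso
  infer_instance

theorem exists_isPushout_faceMap {T : Scheme.{u}} [IsAffine T] {M : Type} [AddCommMonoid M]
    {N F : AddSubmonoid M} (hF : _root_.Magnet.IsFace N F) (Tb : Over T) [IsClosedImmersion Tb.hom] :
    ∃ (P : Over T) (ν₁ : _root_.Magnet.AMonS T F ⟶ P) (ν₂ : _root_.Magnet.AMonS T N ⊗ Tb ⟶ P)
      (hP : IsPushout (fst (_root_.Magnet.AMonS T F) Tb) (_root_.Magnet.AMonS.faceMap T hF ▷ Tb) ν₁ ν₂)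
      (aP : _root_.Magnet.MonAct (_root_.Magnet.AMonS T M) P),
      IsAffine P.left ∧ _root_.Magnet.MonAct.IsEquivariant (_root_.Magnet.subAct T M F) aP ν₁ ∧
      _root_.Magnet.MonAct.IsEquivariant ((_root_.Magnet.subAct T M N).prod
        (_root_.Magnet.MonAct.trivial (_root_.Magnet.AMonS T M) Tb)) aP ν₂ ∧
      ∀ (X : Over T) (aX : _root_.Magnet.MonAct (_root_.Magnet.AMonS T M) X)
        (f₁ : _root_.Magnet.AMonS T F ⟶ X) (f₂ : _root_.Magnet.AMonS T N ⊗ Tb ⟶ X)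
        (w : fst (_root_.Magnet.AMonS T F) Tb ≫ f₁ = (_root_.Magnet.AMonS.faceMap T hF ▷ Tb) ≫ f₂),
        _root_.Magnet.MonAct.IsEquivariant (_root_.Magnet.subAct T M F) aX f₁ →
        _root_.Magnet.MonAct.IsEquivariant ((_root_.Magnet.subAct T M N).prod
          (_root_.Magnet.MonAct.trivial (_root_.Magnet.AMonS T M) Tb)) aX f₂ →
        _root_.Magnet.MonAct.IsEquivariant aP aX (hP.desc f₁ f₂ w) := by
  let A := Γ(T, ⊤)
  let sA : Spec A ⟶ T := T.isoSpec.inv
  have : IsAffine Tb.left := isAffine_of_isAffineHom Tb.hom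
  let B := Γ(Tb.left, ⊤)
  let π : A ⟶ B := Tb.hom.appTop
  have hπ : Function.Surjective π :=
    (IsClosedImmersion.isAffine_surjective_of_isAffine Tb.hom).2
  let sB : Spec B ⟶ T := Tb.left.isoSpec.inv ≫ Tb.hom
  have hsB : Spec.map (CommRingCat.ofHom π.hom) ≫ sA = sB := Scheme.isoSpec_inv_naturality Tb.hom
  let k : Over.mk sB ⟶ Tb := Over.homMk Tb.left.isoSpec.inv rfl
  have : IsIso k := by
    have : IsIso ((Over.forget T).map k) := inferInstanceAs (IsIso Tb.left.isoSpec.inv)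
    exact isIso_of_reflects_iso k (Over.forget T)
  let p := MonoidAlgebra.mapRingHom (Multiplicative F) π.hom
  let q := (faceRing hF B).hom
  let R := RingHom.eqLocus (p.comp (RingHom.fst (MonoidAlgebra A (Multiplicative F)) (MonoidAlgebra B (Multiplicative N))))
    (q.comp (RingHom.snd (MonoidAlgebra A (Multiplicative F)) (MonoidAlgebra B (Multiplicative N))))
  let π₁ : R →+* MonoidAlgebra A (Multiplicative F) := (RingHom.fst _ _).comp R.subtype
  let π₂ : R →+* MonoidAlgebra B (Multiplicative N) := (RingHom.snd _ _).comp R.subtype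
  have H : Ferrand.Square p q π₁ π₂ :=
    ⟨square_mapRing.chartBaseRing_surj F π.hom hπ, fun c => c.2,
      fun h₁ h₂ => Subtype.ext (Prod.ext h₁ h₂), fun a b h => ⟨⟨(a, b), h⟩, rfl, rfl⟩⟩
  let ιR : A →+* R :=
    ((chartAlg A F).hom.prod ((chartAlg B N).hom.comp π.hom)).codRestrict R fun r => by
      change p (chartAlg A F r) = q (chartAlg B N (π r))
      have e1 := ConcreteCategory.congr_hom (chartAlg_comp_coeffRing π.hom F) r
      have e2 := ConcreteCategory.congr_hom (chartAlg_comp_faceRing hF B) (π r)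
      exact e1.trans e2.symm
  let sR : Spec (CommRingCat.of R) ⟶ T := Spec.map (CommRingCat.ofHom ιR) ≫ sA
  have h₁ : Spec.map (CommRingCat.ofHom π₁) ≫ sR = Spec.map (chartAlg A F) ≫ sA := by
    rw [← Spec.map_comp_assoc]
    rfl
  have h₂ : Spec.map (CommRingCat.ofHom π₂) ≫ sR = Spec.map (chartAlg B N) ≫ sB := by
    rw [← hsB, ← Spec.map_comp_assoc, ← Spec.map_comp_assoc]
    rfl
  have hp : Spec.map (CommRingCat.ofHom p) ≫ Spec.map (chartAlg A F) ≫ sA = Spec.map (chartAlg B F) ≫ sB := by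
    rw [← Spec.map_comp_assoc, ← hsB, ← Spec.map_comp_assoc]
    congr 2
    exact chartAlg_comp_coeffRing π.hom F
  have hq : Spec.map (CommRingCat.ofHom q) ≫ Spec.map (chartAlg B N) ≫ sB = Spec.map (chartAlg B F) ≫ sB := by
    rw [← Spec.map_comp_assoc]
    congr 2
    exact chartAlg_comp_faceRing hF B
  have hsq := isPushout_spec H sR hp hq h₁ h₂
  have := isIso_amonChartIso T F
  have := isIso_chartHom sB F
  have := isIso_chartHom sB N
  let i₀ : chartObj sB F ≅ _root_.Magnet.AMonS T F ⊗ Tb :=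
    asIso (chartHom sB F) ≪≫ whiskerLeftIso _ (asIso k)
  let i₁ : chartObj sA F ≅ _root_.Magnet.AMonS T F := asIso (amonChartIso T F)
  let i₂ : chartObj sB N ≅ _root_.Magnet.AMonS T N ⊗ Tb :=
    asIso (chartHom sB N) ≪≫ whiskerLeftIso _ (asIso k)
  let topF : chartObj sB F ⟶ chartObj sA F := Over.homMk (Spec.map (CommRingCat.ofHom p)) hp
  have hf : topF ≫ i₁.hom = i₀.hom ≫ fst _ _ := by
    change chartBase π.hom sA sB hsB F ≫ chartHom sA F ≫ fst _ _ =
      (chartHom sB F ≫ (_root_.Magnet.AMonS T F ◁ k)) ≫ fst _ _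
    rw [reassoc_of% chartBase_comp_chartHom π.hom sA sB hsB F, Category.assoc, whiskerLeft_fst, whiskerLeft_fst]
  have hg : (Over.homMk (Spec.map (CommRingCat.ofHom q)) hq : chartObj sB F ⟶ chartObj sB N) ≫ i₂.hom =
      i₀.hom ≫ (_root_.Magnet.AMonS.faceMap T hF ▷ Tb) := by
    change chartFace hF sB ≫ chartHom sB N ≫ (_root_.Magnet.AMonS T N ◁ k) =
      (chartHom sB F ≫ (_root_.Magnet.AMonS T F ◁ k)) ≫ (_root_.Magnet.AMonS.faceMap T hF ▷ Tb)
    rw [reassoc_of% chartFace_comp_chartHom hF sB, Category.assoc, whisker_exchange]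
  let P : Over T := Over.mk sR
  let ν₁ : _root_.Magnet.AMonS T F ⟶ P := i₁.inv ≫ Over.homMk (Spec.map (CommRingCat.ofHom π₁)) h₁
  let ν₂ : _root_.Magnet.AMonS T N ⊗ Tb ⟶ P := i₂.inv ≫ Over.homMk (Spec.map (CommRingCat.ofHom π₂)) h₂
  have e₁ : (Over.homMk (Spec.map (CommRingCat.ofHom π₁)) h₁ : chartObj sA F ⟶ P) ≫ (Iso.refl P).hom =
      i₁.hom ≫ ν₁ := by simp [ν₁]
  have e₂ : (Over.homMk (Spec.map (CommRingCat.ofHom π₂)) h₂ : chartObj sB N ⟶ P) ≫ (Iso.refl P).hom =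
      i₂.hom ≫ ν₂ := by simp [ν₂]
  have hP : IsPushout (fst (_root_.Magnet.AMonS T F) Tb) (_root_.Magnet.AMonS.faceMap T hF ▷ Tb) ν₁ ν₂ :=
    hsq.of_iso i₀ i₁ i₂ (Iso.refl _) hf hg e₁ e₂
  have hQ : ∀ (K : Type) [AddCommMonoid K], IsPushout
      (_root_.Magnet.AMonS T K ◁ fst (_root_.Magnet.AMonS T F) Tb)
      (_root_.Magnet.AMonS T K ◁ (_root_.Magnet.AMonS.faceMap T hF ▷ Tb))
      (_root_.Magnet.AMonS T K ◁ ν₁) (_root_.Magnet.AMonS T K ◁ ν₂) := fun K _ =>
    (isPushout_amon_whiskerLeft H sR hp hq h₁ h₂ K).of_iso (whiskerLeftIso _ i₀) (whiskerLeftIso _ i₁)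
      (whiskerLeftIso _ i₂) (Iso.refl _)
      (by simp only [whiskerLeftIso_hom, ← whiskerLeft_comp]; exact congrArg _ hf)
      (by simp only [whiskerLeftIso_hom, ← whiskerLeft_comp]; exact congrArg _ hg)
      (by
        rw [whiskerLeftIso_hom, Iso.refl_hom, Category.comp_id, ← whiskerLeft_comp, ← e₁, Iso.refl_hom,
          Category.comp_id])
      (by
        rw [whiskerLeftIso_hom, Iso.refl_hom, Category.comp_id, ← whiskerLeft_comp, ← e₂, Iso.refl_hom,
          Category.comp_id])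
  have := isIso_prodHom T M M
  let j := asIso (prodHom T M M)
  have hAA := (hQ (M × M)).of_iso (whiskerRightIso j _) (whiskerRightIso j _) (whiskerRightIso j _)
    (whiskerRightIso j _) (whisker_exchange j.hom (fst (_root_.Magnet.AMonS T F) Tb))
    (whisker_exchange j.hom (_root_.Magnet.AMonS.faceMap T hF ▷ Tb)) (whisker_exchange j.hom ν₁)
    (whisker_exchange j.hom ν₂)
  have hg₀ : _root_.Magnet.MonAct.IsEquivariant
      ((_root_.Magnet.subAct T M F).prod (_root_.Magnet.MonAct.trivial (_root_.Magnet.AMonS T M) Tb))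
      ((_root_.Magnet.subAct T M N).prod (_root_.Magnet.MonAct.trivial (_root_.Magnet.AMonS T M) Tb))
      (_root_.Magnet.AMonS.faceMap T hF ▷ Tb) := by
    have e : (_root_.Magnet.subAct T M F).act ≫ _root_.Magnet.AMonS.faceMap T hF =
        (_root_.Magnet.AMonS T M ◁ _root_.Magnet.AMonS.faceMap T hF) ≫ (_root_.Magnet.subAct T M N).act :=
      _root_.Magnet.isEquivariant_faceMapS T hF
    change _ = _
    apply _root_.Magnet.hom_ext_lift₂
    intro T' c z
    rw [← lift_comp_fst_snd z, _root_.Magnet.MonAct.lift_prod_act_assoc,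
      _root_.Magnet.MonAct.lift_trivial_act, lift_whiskerRight, lift_whiskerLeft_assoc, lift_whiskerRight,
      _root_.Magnet.MonAct.lift_prod_act, _root_.Magnet.MonAct.lift_trivial_act, Category.assoc, e,
      lift_whiskerLeft_assoc]
  obtain ⟨aP, h₁P, h₂P, hdesc⟩ := exists_monAct_pushout hP (hQ M) hAA
    ((_root_.Magnet.subAct T M F).prod (_root_.Magnet.MonAct.trivial (_root_.Magnet.AMonS T M) Tb))
    (_root_.Magnet.subAct T M F)
    ((_root_.Magnet.subAct T M N).prod (_root_.Magnet.MonAct.trivial (_root_.Magnet.AMonS T M) Tb))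
    (_root_.Magnet.MonAct.isEquivariant_prod_fst _ _) hg₀
  exact ⟨P, ν₁, ν₂, hP, aP, inferInstanceAs (IsAffine (Spec (CommRingCat.of R))), h₁P, h₂P, hdesc⟩

end Groth.Agent.Magnet
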