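import Groth.Agent.Magnet.Chart
import Mathlib.AlgebraicGeometry.Morphisms.FormallyUnramified

/-!
# Formally unramified maps stay formally unramified on attractors
-/

set_option autoImplicit false
set_option backward.isDefEq.respectTransparency false
set_option backward.isDefEq.respectTransparency.types false
set_option linter.style.haveILetI false

universe u

open CategoryTheory CategoryTheory.Limits MonoidalCategory CartesianMonoidalCategory AlgebraicGeometry Opposite
open scoped MonObj

attribute [-instance] Red.grpObj_bc AlgebraicGeometry.instGrpObjSpecAsOverSpec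
  AlgebraicGeometry.instCommGrpObjSpecAsOverSpec

noncomputable section

namespace Groth.Agent.Magnet

variable {S : Scheme.{u}} {A A' : Type u} [CommRing A] [CommRing A'] (φ : A →+* A')
  (N : Type) [AddCommMonoid N]

/-- Change of coefficients on monoid algebras. -/
def chartBaseRing : CommRingCat.of (MonoidAlgebra A (Multiplicative N)) ⟶
    CommRingCat.of (MonoidAlgebra A' (Multiplicative N)) :=
  CommRingCat.ofHom (MonoidAlgebra.mapRingHom (Multiplicative N) φ)

theorem chartBaseRing_single (n : Multiplicative N) (r : A) :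
    chartBaseRing φ N (MonoidAlgebra.single n r) = MonoidAlgebra.single n (φ r) := by
  ext m
  change (MonoidAlgebra.mapRingHom (Multiplicative N) φ (MonoidAlgebra.single n r)).coeff m = _
  rw [MonoidAlgebra.coeff_mapRingHom]
  rcases eq_or_ne m n with rfl | h <;> simp [*]

theorem chartBaseRing_surjective (hφ : Function.Surjective φ) :
    Function.Surjective (MonoidAlgebra.mapRingHom (Multiplicative N) φ) := by
  intro y
  induction y using MonoidAlgebra.induction_linear with
  | zero => exact ⟨0, map_zero _⟩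
  | add a b ha hb => obtain ⟨a, rfl⟩ := ha; obtain ⟨b, rfl⟩ := hb; exact ⟨a + b, map_add _ _ _⟩
  | single n r => obtain ⟨r, rfl⟩ := hφ r; exact ⟨_, chartBaseRing_single φ N n r⟩

theorem ker_chartBaseRing_le :
    RingHom.ker (MonoidAlgebra.mapRingHom (Multiplicative N) φ) ≤
      (RingHom.ker φ).map (algebraMap A (MonoidAlgebra A (Multiplicative N))) := by
  intro x hx
  have hc : ∀ m, x.coeff m ∈ RingHom.ker φ := fun m => by
    have := congrArg (fun y => y.coeff m) hx
    simpa [MonoidAlgebra.coeff_mapRingHom] using this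
  have hx' : x = ∑ m ∈ x.coeff.support,
      algebraMap A (MonoidAlgebra A (Multiplicative N)) (x.coeff m) * MonoidAlgebra.single m 1 := by
    conv_lhs => rw [← MonoidAlgebra.sum_single x]
    refine Finset.sum_congr rfl fun m _ => ?_
    simp [MonoidAlgebra.coe_algebraMap, MonoidAlgebra.single_mul_single]
  rw [hx']
  exact Ideal.sum_mem _ fun m _ => Ideal.mul_mem_right _ _ (Ideal.mem_map_of_mem _ (hc m))

theorem attr_ext_of_formallyUnramified (hφ : Function.Surjective φ) (hI : RingHom.ker φ ^ 2 = ⊥)
    (str : Spec (CommRingCat.of A) ⟶ S) {X Y : Over S} (f : X ⟶ Y) [FormallyUnramified f.left]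
    (u v : _root_.Magnet.AMonS S N ⊗ Over.mk str ⟶ X)
    (htop : (_root_.Magnet.AMonS S N ◁ (Over.homMk (Spec.map (CommRingCat.ofHom φ)) rfl :
        Over.mk (Spec.map (CommRingCat.ofHom φ) ≫ str) ⟶ Over.mk str)) ≫ u =
      (_root_.Magnet.AMonS S N ◁ (Over.homMk (Spec.map (CommRingCat.ofHom φ)) rfl :
        Over.mk (Spec.map (CommRingCat.ofHom φ) ≫ str) ⟶ Over.mk str)) ≫ v)
    (hbot : u ≫ f = v ≫ f) : u = v := by
  let str' := Spec.map (CommRingCat.ofHom φ) ≫ str
  let t : Over.mk str' ⟶ Over.mk str := Over.homMk (Spec.map (CommRingCat.ofHom φ)) rfl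
  have halg : chartAlg A N ≫ chartBaseRing φ N = CommRingCat.ofHom φ ≫ chartAlg A' N := by
    refine CommRingCat.hom_ext (RingHom.ext fun a => ?_)
    change MonoidAlgebra.mapRingHom _ φ (algebraMap A _ a) = algebraMap A' _ (φ a)
    rw [MonoidAlgebra.coe_algebraMap, MonoidAlgebra.coe_algebraMap]
    exact chartBaseRing_single φ N 1 a
  let i : chartObj str' N ⟶ chartObj str N := Over.homMk (Spec.map (chartBaseRing φ N)) (by
    change Spec.map _ ≫ Spec.map _ ≫ str = Spec.map _ ≫ Spec.map _ ≫ str
    rw [← Spec.map_comp_assoc, halg, Spec.map_comp_assoc])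
  have hi : i ≫ chartHom str N = chartHom str' N ≫ (_root_.Magnet.AMonS S N ◁ t) := by
    apply CartesianMonoidalCategory.hom_ext
    · rw [Category.assoc, Category.assoc, chartHom, chartHom, lift_fst, whiskerLeft_fst, lift_fst]
      refine points_ext fun n => ?_
      rw [points_comp, points_chartPoint, points_chartPoint]
      change (Spec.map (chartBaseRing φ N)).appTop ((Scheme.ΓSpecIso _).inv (MonoidAlgebra.of A _ n)) =
        (Scheme.ΓSpecIso _).inv (MonoidAlgebra.of A' _ n)
      refine ((ConcreteCategory.congr_hom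
        (Scheme.ΓSpecIso_inv_naturality (chartBaseRing φ N)) _).symm.trans ?_)
      rw [CommRingCat.comp_apply, show chartBaseRing φ N (MonoidAlgebra.of A (Multiplicative N) n) =
        MonoidAlgebra.of A' _ n from (chartBaseRing_single φ N n 1).trans (by rw [map_one]; rfl)]
    · rw [Category.assoc, Category.assoc, chartHom, chartHom, lift_snd, whiskerLeft_snd, lift_snd_assoc]
      apply Over.OverMorphism.ext
      change Spec.map _ ≫ Spec.map _ = Spec.map _ ≫ Spec.map _
      rw [← Spec.map_comp, ← Spec.map_comp, halg]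
  have := isIso_chartHom str N
  have : IsClosedImmersion (Spec.map (chartBaseRing φ N)) :=
    IsClosedImmersion.spec_of_surjective _ (chartBaseRing_surjective φ N hφ)
  have hnil : IsNilpotent (Spec.map (chartBaseRing φ N)).ker := by
    refine ⟨2, Scheme.IdealSheafData.ext_of_isAffine ?_⟩
    simp only [Scheme.IdealSheafData.ideal_pow, Pi.pow_apply, Scheme.Hom.ker_apply]
    change RingHom.ker (Spec.map (chartBaseRing φ N)).appTop.hom ^ 2 = ⊥
    have h : (Spec.map (chartBaseRing φ N)).appTop =
        (Scheme.ΓSpecIso _).hom ≫ chartBaseRing φ N ≫ (Scheme.ΓSpecIso _).inv := by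
      rw [← Scheme.ΓSpecIso_naturality_assoc, Iso.hom_inv_id, Category.comp_id]
    rw [h]
    let e := (Scheme.ΓSpecIso (CommRingCat.of (MonoidAlgebra A (Multiplicative N)))).commRingCatIsoToRingEquiv
    have h0 : RingHom.ker (MonoidAlgebra.mapRingHom (Multiplicative N) φ) ^ 2 = ⊥ := by
      refine le_bot_iff.1 ((Ideal.pow_right_mono (ker_chartBaseRing_le φ N) 2).trans ?_)
      rw [← Ideal.map_pow, hI, Ideal.map_bot]
    refine le_bot_iff.1 ?_
    rw [pow_two, Ideal.mul_le]
    intro a ha b hb
    have hinj := (ConcreteCategory.bijective_of_isIso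
      (Scheme.ΓSpecIso (CommRingCat.of (MonoidAlgebra A' (Multiplicative N)))).inv).1
    have hmem : ∀ c ∈ RingHom.ker ((Scheme.ΓSpecIso _).hom ≫ chartBaseRing φ N ≫
        (Scheme.ΓSpecIso _).inv).hom, e c ∈ RingHom.ker (MonoidAlgebra.mapRingHom (Multiplicative N) φ) :=
      fun c hc => hinj ((show _ = _ from hc).trans (map_zero _).symm)
    have : e a * e b ∈ (⊥ : Ideal (MonoidAlgebra A (Multiplicative N))) := by
      rw [← h0, pow_two]
      exact Ideal.mul_mem_mul (hmem a ha) (hmem b hb)
    rw [Ideal.mem_bot] at this ⊢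
    exact e.injective ((map_mul e a b).trans (this.trans (map_zero e).symm))
  rw [← cancel_epi (chartHom str N)]
  apply Over.OverMorphism.ext
  refine FormallyUnramified.hom_ext (Spec.map (chartBaseRing φ N)) hnil f.left ?_ ?_
  · change (i ≫ chartHom str N ≫ u).left = (i ≫ chartHom str N ≫ v).left
    rw [reassoc_of% hi, reassoc_of% hi, htop]
  · change (chartHom str N ≫ u ≫ f).left = (chartHom str N ≫ v ≫ f).left
    rw [hbot]

theorem formallyUnramified_of_representsAttrPostcomp {M : Type} [AddCommMonoid M] {X Y : Over S}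
    (aX : _root_.Magnet.MonAct (_root_.Magnet.AMonS S M) X)
    (aY : _root_.Magnet.MonAct (_root_.Magnet.AMonS S M) Y) (f : X ⟶ Y)
    (hf : _root_.Magnet.MonAct.IsEquivariant aX aY f) [FormallyUnramified f.left] (L : AddSubmonoid M)
    {ZX ZY : Over S} (eX : (_root_.Magnet.attr aX L).RepresentableBy ZX)
    (eY : (_root_.Magnet.attr aY L).RepresentableBy ZY) (j : ZX ⟶ ZY)
    (hj : ∀ (T : Over S) (z : T ⟶ ZX), eY.homEquiv (z ≫ j) =
      (_root_.Magnet.MonAct.eqvHom.postcomp (_root_.Magnet.subAct S M L) f hf).app (op T) (eX.homEquiv z)) :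
    FormallyUnramified j.left := by
  refine FormallyUnramified.of_hom_ext _ fun R R' φ hφ hI g₁ g₂ h₁ h₂ => ?_
  let str := g₁ ≫ ZX.hom
  have hw : g₂ ≫ ZX.hom = str := by
    change g₂ ≫ ZX.hom = g₁ ≫ ZX.hom
    rw [← Over.w j, reassoc_of% h₂]
  let G₁ : Over.mk str ⟶ ZX := Over.homMk g₁ rfl
  let G₂ : Over.mk str ⟶ ZX := Over.homMk g₂ hw
  let t : Over.mk (Spec.map (CommRingCat.ofHom φ.hom) ≫ str) ⟶ Over.mk str :=
    Over.homMk (Spec.map (CommRingCat.ofHom φ.hom)) rfl
  have ht : t ≫ G₁ = t ≫ G₂ := Over.OverMorphism.ext h₁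
  have hb : G₁ ≫ j = G₂ ≫ j := Over.OverMorphism.ext h₂
  have key : eX.homEquiv G₁ = eX.homEquiv G₂ := by
    refine Subtype.ext (attr_ext_of_formallyUnramified φ.hom L hφ hI str f _ _ ?_ ?_)
    · have := congrArg Subtype.val (congrArg eX.homEquiv ht)
      rw [eX.homEquiv_comp, eX.homEquiv_comp] at this
      exact this
    · have := congrArg Subtype.val (congrArg eY.homEquiv hb)
      rw [hj, hj] at this
      exact this
  exact congrArg CommaMorphism.left (eX.homEquiv.injective key)

end Groth.Agent.Magnet
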